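import Cfsg.Agent.Bt.Defs
import Cfsg.Agent.Dce.J4.Mat

/-! Data for elements of orders five and seven. -/

set_option autoImplicit false
set_option maxRecDepth 1000000
set_option maxHeartbeats 0
set_option Elab.async false

namespace CF.J4F

open CF.Comp CF.Bt CF.Dce CF.Dce.J4

noncomputable def SvV : List Nat := [(nat_lit 27),
  (nat_lit 10),
  (nat_lit 12),
  (nat_lit 0),
  (nat_lit 30),
  (nat_lit 24),
  (nat_lit 18),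
  (nat_lit 10),
  (nat_lit 24),
  (nat_lit 12),
  (nat_lit 6),
  (nat_lit 10),
  (nat_lit 30),
  (nat_lit 0),
  (nat_lit 0),
  (nat_lit 0),
  (nat_lit 30),
  (nat_lit 0),
  (nat_lit 30),
  (nat_lit 30),
  (nat_lit 0),
  (nat_lit 0),
  (nat_lit 30),
  (nat_lit 0),
  (nat_lit 0),
  (nat_lit 30),
  (nat_lit 0),
  (nat_lit 30),
  (nat_lit 0),
  (nat_lit 0),
  (nat_lit 30),
  (nat_lit 30),
  (nat_lit 30),
  (nat_lit 0),
  (nat_lit 30),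
  (nat_lit 0),
  (nat_lit 30),
  (nat_lit 0),
  (nat_lit 0),
  (nat_lit 0),
  (nat_lit 0),
  (nat_lit 30),
  (nat_lit 30),
  (nat_lit 30),
  (nat_lit 30),
  (nat_lit 30),
  (nat_lit 30),
  (nat_lit 30),
  (nat_lit 30),
  (nat_lit 30),
  (nat_lit 30),
  (nat_lit 0),
  (nat_lit 0),
  (nat_lit 0),
  (nat_lit 0),
  (nat_lit 30),
  (nat_lit 30),
  (nat_lit 30),
  (nat_lit 0),
  (nat_lit 30),
  (nat_lit 0),
  (nat_lit 0),
  (nat_lit 0),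
  (nat_lit 30),
  (nat_lit 30),
  (nat_lit 30),
  (nat_lit 30),
  (nat_lit 0),
  (nat_lit 0),
  (nat_lit 0),
  (nat_lit 30),
  (nat_lit 30),
  (nat_lit 0),
  (nat_lit 0),
  (nat_lit 0),
  (nat_lit 30),
  (nat_lit 30),
  (nat_lit 30),
  (nat_lit 30),
  (nat_lit 30),
  (nat_lit 0),
  (nat_lit 0),
  (nat_lit 30),
  (nat_lit 0),
  (nat_lit 0),
  (nat_lit 0),
  (nat_lit 0),
  (nat_lit 0),
  (nat_lit 30),
  (nat_lit 0),
  (nat_lit 30),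
  (nat_lit 30),
  (nat_lit 0),
  (nat_lit 30),
  (nat_lit 0),
  (nat_lit 0),
  (nat_lit 0),
  (nat_lit 0),
  (nat_lit 0),
  (nat_lit 0),
  (nat_lit 30),
  (nat_lit 0),
  (nat_lit 30),
  (nat_lit 30),
  (nat_lit 30),
  (nat_lit 0),
  (nat_lit 0),
  (nat_lit 0),
  (nat_lit 0),
  (nat_lit 0),
  (nat_lit 0),
  (nat_lit 0)]
noncomputable def SvS : Net := (Net.cons (nat_lit 1) (nat_lit 4) (Net.cons (nat_lit 2) (nat_lit 1) (Net.cons (nat_lit 4) (nat_lit 1) (Net.cons (nat_lit 2) (nat_lit 3) (Net.cons (nat_lit 1) (nat_lit 1) Net.nil)))))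
noncomputable def SvN_0 : Net := Net.nil
noncomputable def SvN_1 : Net := (Net.cons (nat_lit 1) (nat_lit 4) (Net.cons (nat_lit 4) (nat_lit 1) (Net.cons (nat_lit 2) (nat_lit 1) (Net.cons (nat_lit 1) (nat_lit 1) Net.nil))))
noncomputable def SvN_2 : Net := (Net.cons (nat_lit 1) (nat_lit 1) Net.nil)
noncomputable def SvN : List Net := [SvN_0, SvN_1, SvN_2]
noncomputable def SvT : List (List Nat) := [[259], [285], [245]]
noncomputable def SvC : List Lvl := [⟨0, [[4]], 4⟩, ⟨1, [[5, 4]], 3⟩, ⟨2, [[3, 5, 4, 5, 3]], 2⟩, ⟨3, [[3, 5, 3, 3, 5, 3, 3, 5, 3]], 1⟩]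
noncomputable def FvV : List Nat := [(nat_lit 0xc0f6c3338c9e93861d6b10a4cb4e038d0ec),
  (nat_lit 0x31f43ecccf4e4c7542222e7fcfc2042445e),
  (nat_lit 0x9f7484d8d3720a4b2fa5557d8f7c99ccdf1),
  (nat_lit 0x9fe73b32d15475b4e69f337a6fa18388bf7),
  (nat_lit 0xa371778a3ef05006cf208cc62cb8448b8f9),
  (nat_lit 0x6af207144659c68b8a776c44c4e8930156),
  (nat_lit 0x306511be5bbfe991bb07524add5176010a9),
  (nat_lit 0x5e9257a2844c8ce660436d23a46f9f5ba87),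
  (nat_lit 0x4b3eebecbf6654bdcdc62fecb2c4c5aa28),
  (nat_lit 0x9432fbab00a6c77ea901602f255a1460328),
  (nat_lit 0x3b3bf954df2c879f09bc69780f5f5ec0370),
  (nat_lit 0xa17538c17eb23338fb87acf79ee70e4ab26),
  (nat_lit 0xa5553bc53d30ac9f0c068926901250f0300),
  (nat_lit 0xf7bf9b9efd7f77cf99e4e88510f060e2328),
  (nat_lit 0x9bdffbfecf33c30a5142a4a0946244c2200),
  (nat_lit 0x61024340fa1eb1760ec0590720183011120),
  (nat_lit 0x56cae61a73b314ac0a66f021b0423012228),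
  (nat_lit 0x9183434ce338f3591b208580b02a1473328),
  (nat_lit 0xc3696197960a6f6c52647c0034f01450108),
  (nat_lit 0x56caf00bfb411ba79b0258a0a05a00a3220),
  (nat_lit 0x9ce17671b2dc8dd48a84290120902080000),
  (nat_lit 0x9285dedfbfdffd46c8c62821043020c2320),
  (nat_lit 0xa36923db3c30ec1e4c24a90694f21012108),
  (nat_lit 0x6204cac2bf7ff74798e4c00400281031328),
  (nat_lit 0xf9dbb1bc5c07301702e06d05a05a74f3128),
  (nat_lit 0x56d2a65669b5949a0ca6e92290125050228),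
  (nat_lit 0x909996918d93792a45423ca394726480320),
  (nat_lit 0x39b45fa8069e566153c41884a4b250b2020),
  (nat_lit 0xc60262199f64f9692c4890120b83011200),
  (nat_lit 0x95a31310d13443b516a0b90320b020a0208),
  (nat_lit 0x53e823d72516ae3159c4758104c03470300),
  (nat_lit 0x5aaa00fbdc08df765124718184ea2003028),
  (nat_lit 0x30f6fa05427f6879c0c0910594aa60e1100),
  (nat_lit 0xf4b9000c286a36fbdf66d5a6b4c24462128),
  (nat_lit 0x50f6ea1962376c180ce6e12390aa6003108),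
  (nat_lit 0x6306494e426086089104c08410000042000),
  (nat_lit 0xc16daf5411fba0658342f0a1a0ca2061300),
  (nat_lit 0x204cccf07c1fc19c32601a034200062328),
  (nat_lit 0x94a1848134ed0ed59aa48500a08a1431008),
  (nat_lit 0x6624ded38eb3bbb21640f90720902080120),
  (nat_lit 0x6c60e2ec9e37838f11e0c88510983073008),
  (nat_lit 0xac170af95c18dec7170624a720207432020),
  (nat_lit 0xcd0d0ff834b2d4ad4a44fc0034780423020),
  (nat_lit 0xc64b20d7e526ad904de4ed8204501450308),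
  (nat_lit 0x30ee7a857f701836c920918584c230d0228),
  (nat_lit 0xa74971879f481bd7950209a6805a00e1220),
  (nat_lit 0x37d0778627d622a9dac01005b40270f0300),
  (nat_lit 0x30eefe0852bb644d46448806b4fa00a3100),
  (nat_lit 0xc555ef1823b724884ee4e40334086403308),
  (nat_lit 0xcb29976a01bf947800e6d92090d21092228),
  (nat_lit 0xc077ec14daa955464724e083a4a27050028),
  (nat_lit 0xfcf9262180d00d9983244d85b0da7431008),
  (nat_lit 0x522d5dd47a1fa895122a4a094a204e2328),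
  (nat_lit 0xf8c1646122a8ba505a02cd25a4122400120),
  (nat_lit 0x6b5ee9e2466186209404dc0780526400000),
  (nat_lit 0xc54dab552975a8aacaa0fc0034580441308),
  (nat_lit 0x5f8851a7b7222d854f44c483244824e1300),
  (nat_lit 0xa54deb15037f18c8c6e0a40734403450228),
  (nat_lit 0x9addf8f20621b2315622b923245060a0128),
  (nat_lit 0xaa33847af1e3912dca40b005b4827032220),
  (nat_lit 0x9dfba3accc730793d266892124d87073008),
  (nat_lit 0xd7a636cc25085b1c6261522a4ca5473008),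
  (nat_lit 0x6a446e6fa2b88b401800c00400081053000),
  (nat_lit 0xa06ffa0573131e2c1a661824b0da00c1228),
  (nat_lit 0xc54dbf4839f1909f8c02cd22105014b2220),
  (nat_lit 0xac0f58a5de285dee02269425306824c1028),
  (nat_lit 0x51ec29d98d6c997bc080f50114c82423220),
  (nat_lit 0x6c783631b1fc4fcd99a4ec8590f264a0208),
  (nat_lit 0x99c3e3e0f67d8764dc86902204000000000),
  (nat_lit 0x95bbd7ddffffcfd79ae4a500a0ea54f3208),
  (nat_lit 0x5ab256a64efc504bc680c003b4a270f0020),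
  (nat_lit 0xc75125d6a5c693a0dbe07880a41a4041228),
  (nat_lit 0x95a30300c03003a11420980300902020008),
  (nat_lit 0x6840606c1b46c41fc3e649a534383073208),
  (nat_lit 0x6a442e23a1b87b791f20dd87b03a3431328),
  (nat_lit 0x51ec6b95175a2a7dd040790094d21070300),
  (nat_lit 0x5f90d72a0add62fad0a05101942a6083108),
  (nat_lit 0xc175ef1813bb247d4044fd0014905432300),
  (nat_lit 0xc54d6d989fc813d6952261a380423012228),
  (nat_lit 0xa369659aa786273918c6352510c03432300),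
  (nat_lit 0x9ee5f8fe3e6fb6fe9fc4b582b08204c2120),
  (nat_lit 0x9dfba7a1d5b57b9c53828da1b4fa7411320),
  (nat_lit 0xaa33d626729366251b4610a5a0a270f0100),
  (nat_lit 0x695a636cc250b530c6065526a44a5453120),
  (nat_lit 0x631e8f8ffc9f394e09c0488510506042120),
  (nat_lit 0xfbdf6f6fcaf2bf0ad146c0a414404042120),
  (nat_lit 0x6c78f0fc1f07f09f03e06584b0e244e2328),
  (nat_lit 0xf3875f5ffabe8b771ee0f106200000e2008),
  (nat_lit 0xa92d1be92d34ac020fa688a6a0d21092308),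
  (nat_lit 0x420c0c0064184b9c72611a234881031008),
  (nat_lit 0x32ea20dbcc0cef4a56a42806b4fa0003108),
  (nat_lit 0x5c8e0cf4dd88a7d65524618384423050308),
  (nat_lit 0x9183d7d1dff7cf3696c4bd03a0322480200),
  (nat_lit 0xc75163973e7058878f02e4a320286461020),
  (nat_lit 0x9dfb2721e9fa7ff29e449d03a0fa7411320),
  (nat_lit 0xa5cb8b23c0f30674ce23823045870b1128),
  (nat_lit 0),
  (nat_lit 0x6c78f0fc1f07f09f03e06584b0e244e2328),
  (nat_lit 0x663c1c1f21c87ce1cc26782704f870f3328),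
  (nat_lit 0xfbdf6f6fcaf2bf0ad146c0a414404042120),
  (nat_lit 0x3e92d62a6bb5148b0e868c26301054b2220),
  (nat_lit 0x91838581458148114222012024200020208),
  (nat_lit 0x5e8ad027da096fee52245001b46a20c1108),
  (nat_lit 0x38b6cc38fbc1130f9e022826b0925032220),
  (nat_lit 0x32f220dbc50e9f7151c4358504886423220),
  (nat_lit 0x9bc769627b4ec46f8de41c83903a3431208),
  (nat_lit 0xc60f6f1aebb8bfa5f42b9a334983091000),
  (nat_lit 0),
  (nat_lit 0x6c78f0fc1f07f09f03e06584b0e244e2328),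
  (nat_lit 0xf19b838cf43d33741e80dd07a05a7453120),
  (nat_lit 0xf19b838cf43d33741e80dd07a05a7453120),
  (nat_lit 0)]
noncomputable def FvS : Net := (Net.cons (nat_lit 1) (nat_lit 0x40004440555140001404140515115505140) (Net.cons (nat_lit 2) (nat_lit 0x21103022322330023202233110123102110) (Net.cons (nat_lit 4) (nat_lit 0x40e0c0c060000050c070404040208020e) (Net.cons (nat_lit 8) (nat_lit 0xe0016003c000f00d5000a00ce00fc0020) (Net.cons (nat_lit 16) (nat_lit 0xc24000022ed0000a80000000806) (Net.cons (nat_lit 32) (nat_lit 0x45154d9c0000000000000cb0) (Net.cons (nat_lit 64) (nat_lit 262) (Net.cons (nat_lit 128) (nat_lit 3518) (Net.cons (nat_lit 64) (nat_lit 0x87699199e256cf46) (Net.cons (nat_lit 32) (nat_lit 0xb6f37a44000000004006276b) (Net.cons (nat_lit 16) (nat_lit 0xabeb0000806d00001194000082b1) (Net.cons (nat_lit 8) (nat_lit 0x9002d003600ae001700e900c0007600f8)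 (Net.cons (nat_lit 4) (nat_lit 0xd0b0b0a0d0d0e0a0f0805020e0a030200) (Net.cons (nat_lit 2) (nat_lit 0x22112103213311011012032131301133031) (Net.cons (nat_lit 1) (nat_lit 0x4451514040541010055005110004041154) Net.nil)))))))))))))))
noncomputable def FvN_0 : Net := (Net.cons (nat_lit 1) (nat_lit 0x55411054510111040100040511055054014) (Net.cons (nat_lit 2) (nat_lit 0x22300031212210020000210030310030000) (Net.cons (nat_lit 4) (nat_lit 0x70c0a090d010c030a0201010a01000000) (Net.cons (nat_lit 8) (nat_lit 0xe00a200ad001400f5007d000800240040) (Net.cons (nat_lit 16) (nat_lit 0x2fff0000b5660000140c00000084) (Net.cons (nat_lit 32) (nat_lit 0x3e215ee0000000000000400) (Net.cons (nat_lit 64) (nat_lit 1518) (Net.cons (nat_lit 128) (nat_lit 1518) (Net.cons (nat_lit 64) (nat_lit 0x4bebb104000001ee) (Net.cons (nat_lit 32) (nat_lit 0x4bffbb0c00000000fb720484)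 (Net.cons (nat_lit 16) (nat_lit 0x701d000048af00003a530000bdc4) (Net.cons (nat_lit 8) (nat_lit 0x10029001a009b00a700d10025005d0030) (Net.cons (nat_lit 4) (nat_lit 0x1010300000a020d000e0f0d000a0c020e) (Net.cons (nat_lit 2) (nat_lit 0x33113133023201230030013222021100310) (Net.cons (nat_lit 1) (nat_lit 0x40114510511110015040405410500040455) Net.nil)))))))))))))))
noncomputable def FvN_1 : Net := (Net.cons (nat_lit 1) (nat_lit 0x45005441140440014411444410155551140) (Net.cons (nat_lit 2) (nat_lit 0x12122110231022221231220102001220) (Net.cons (nat_lit 4) (nat_lit 0xc040200010900000f00090d020a030a00) (Net.cons (nat_lit 8) (nat_lit 0x620022009a00aa000100c500150000) (Net.cons (nat_lit 16) (nat_lit 0xa05500000820000004c300000000) (Net.cons (nat_lit 32) (nat_lit 0x12209a570000000000000000) (Net.cons (nat_lit 64) (nat_lit 85) (Net.cons (nat_lit 128)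 (nat_lit 85) (Net.cons (nat_lit 64) (nat_lit 0x12209a4300000055) (Net.cons (nat_lit 32) (nat_lit 0xb327de57000000000cdf0000) (Net.cons (nat_lit 16) (nat_lit 0x90df000064b50000c5eb00009700) (Net.cons (nat_lit 8) (nat_lit 0xa00e30046009600fe008800e500e50038) (Net.cons (nat_lit 4) (nat_lit 0x80c0a02090f00000b00090f02000e050c) (Net.cons (nat_lit 2) (nat_lit 0x20012122110221232031031020220133301) (Net.cons (nat_lit 1) (nat_lit 0x45004451150410114511504410005101551) Net.nil)))))))))))))))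
noncomputable def FvN_2 : Net := (Net.cons (nat_lit 1) (nat_lit 0x55044514000000000555400005000000000) (Net.cons (nat_lit 2) (nat_lit 0x33111201300233000111333222000000000) (Net.cons (nat_lit 4) (nat_lit 0xb0f08030f0c0c000101030604040c070f) (Net.cons (nat_lit 8) (nat_lit 0xf00c00003003700f700f400f000b000f0) (Net.cons (nat_lit 16) (nat_lit 0xffe000007080000040800000000) (Net.cons (nat_lit 32) (nat_lit 0x1f003ff00000000000003fc) (Net.cons (nat_lit 64) (nat_lit 1023) (Net.cons (nat_lit 128) (nat_lit 1023) (Net.cons (nat_lit 64) (nat_lit 0xf9f70c0000000003) (Net.cons (nat_lit 32) (nat_lit 0xf9f70c0000000000ffff03fc) (Net.cons (nat_lit 16) (nat_lit 0xf0000000f0000000f34f00000ffc) (Net.cons (nat_lit 8) (nat_lit 0x8000800080009000f009c00800037) (Net.cons (nat_lit 4) (nat_lit 0xc05030c04030f01) (Net.cons (nat_lit 2) (nat_lit 0x112003013012030303)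 (Net.cons (nat_lit 1) (nat_lit 0x10004040000000001015014010015100005) Net.nil)))))))))))))))
noncomputable def FvN : List Net := [FvN_0, FvN_1, FvN_2]
noncomputable def FvT : List (List Nat) := [[259], [287], [285]]
noncomputable def FvC : List Lvl := [⟨0, [[1], [4], [5]], 5⟩, ⟨1, [[3, 1], [1, 1, 3, 2, 2]], 4⟩, ⟨4, [[2, 4, 2, 3, 2, 3]], 1⟩]
noncomputable def TN : List (List Nat) := [[259], [261], [287], [285], [245], [303], [263], [7], [269], [271], [273], [275], [277], [279], [281], [283], [247], [249], [251], [253], [255], [257]]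
noncomputable def ZcN_0 : Net := (Net.cons (nat_lit 1) (nat_lit 5) (Net.cons (nat_lit 2) (nat_lit 2) (Net.cons (nat_lit 4) (nat_lit 2) (Net.cons (nat_lit 2) (nat_lit 16) (Net.cons (nat_lit 1) (nat_lit 16) Net.nil)))))
noncomputable def ZcN_1 : Net := (Net.cons (nat_lit 1) (nat_lit 4) (Net.cons (nat_lit 2) (nat_lit 2) (Net.cons (nat_lit 4) (nat_lit 2) (Net.cons (nat_lit 2) (nat_lit 3) (Net.cons (nat_lit 1) (nat_lit 4) Net.nil)))))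
noncomputable def ZcN_2 : Net := (Net.cons (nat_lit 1) (nat_lit 4) (Net.cons (nat_lit 2) (nat_lit 2) (Net.cons (nat_lit 4) (nat_lit 2) (Net.cons (nat_lit 2) (nat_lit 3) (Net.cons (nat_lit 1) (nat_lit 4) Net.nil)))))
noncomputable def ZcN_3 : Net := Net.nil
noncomputable def ZcN_4 : Net := Net.nil
noncomputable def ZcN_5 : Net := Net.nil
noncomputable def ZcN_6 : Net := (Net.cons (nat_lit 1) (nat_lit 17) (Net.cons (nat_lit 4) (nat_lit 5) (Net.cons (nat_lit 2) (nat_lit 17) Net.nil)))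
noncomputable def ZcN_7 : Net := Net.nil
noncomputable def ZcN_8 : Net := Net.nil
noncomputable def ZcN_9 : Net := Net.nil
noncomputable def ZcN_10 : Net := Net.nil
noncomputable def ZcN_11 : Net := Net.nil
noncomputable def ZcN_12 : Net := Net.nil
noncomputable def ZcN_13 : Net := Net.nil
noncomputable def ZcN_14 : Net := Net.nil
noncomputable def ZcN_15 : Net := Net.nil
noncomputable def ZcN_16 : Net := Net.nil
noncomputable def ZcN_17 : Net := Net.nil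
noncomputable def ZcN_18 : Net := Net.nil
noncomputable def ZcN_19 : Net := Net.nil
noncomputable def ZcN_20 : Net := Net.nil
noncomputable def ZcN_21 : Net := Net.nil
noncomputable def ZcN : List Net := [ZcN_0, ZcN_1, ZcN_2, ZcN_3, ZcN_4, ZcN_5, ZcN_6, ZcN_7, ZcN_8, ZcN_9, ZcN_10, ZcN_11, ZcN_12, ZcN_13, ZcN_14, ZcN_15, ZcN_16, ZcN_17, ZcN_18, ZcN_19, ZcN_20, ZcN_21]
noncomputable def ZcJ : List Lvl := [⟨0, [[2]], 6⟩, ⟨1, [[5, 1], [1, 5, 2]], 2⟩, ⟨3, [[1, 1, 1, 5, 2, 2, 2], [5, 1, 1, 5, 2, 2, 5]], 1⟩]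
noncomputable def ZcK : List Lvl := [⟨0, [[2]], 6⟩, ⟨1, [[3, 1], [1, 3, 2]], 2⟩, ⟨3, [[1, 1, 1, 3, 2, 2, 2], [3, 1, 1, 3, 2, 2, 3]], 1⟩]
noncomputable def SvI : List Lvl := [⟨0, [[4]], 4⟩, ⟨1, [[5, 4]], 3⟩, ⟨2, [[3, 5, 4, 5, 3]], 2⟩, ⟨3, [[3, 5, 3, 3, 5, 3, 3, 5, 3]], 1⟩]
noncomputable def IcT : List (List Nat) := [[245], [285, 245], [285, 285, 245], [285, 285, 285, 245], [285, 285, 285, 285, 245]]
noncomputable def IcB : List (List (Nat × List Nat)) := [[(0, [3]), (1, [])], [(2, []), (0, [])], [(3, []), (3, [1, 3])], [(4, []), (2, [4, 2])], [(5, []), (5, [2, 3])], [(1, []), (4, [4, 1])]]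
noncomputable def KcT : List (List Nat) := [[261], [259, 261], [259, 259, 261], [261, 259, 261], [259, 259, 259, 261], [259, 259, 259, 259, 261], [259, 259, 259, 259, 259, 261]]
noncomputable def KcB : List (List (Nat × List Nat)) := [[(0, [3]), (1, [])], [(2, []), (0, [])], [(3, []), (4, [])], [(5, []), (5, [2, 3])], [(1, [4]), (2, [])], [(6, []), (3, [4, 1])], [(7, []), (7, [1, 4])], [(4, [3]), (6, [3, 2])]]
noncomputable def c14Ab : Tr := (.sym [[1], [3], [5]] (.cons [] 1 6 (.op 4 0 (.focus 0 (.cons [] 0 6 .triv .nil))) (.cons [2] 1 0 (.op 5 0 (.and 1 0 (.dead0 0))) .nil)))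
noncomputable def c14AbK : List (List Nat) := [[3, 5, 4, 5, 3], [3, 5, 3, 3, 5, 3, 3, 5, 3], [6]]
noncomputable def c14AbF : List (List Nat) := [[], [1]]
noncomputable def c14Cb : Tr := (.sym [[1], [3]] (.cons [] 2 2 (.op 2 0 (.xor 0 1 (.focus 0 (.op 4 2 (.xor 2 0 (.focus 0 (.sym [[1]] (.cons [] 0 2 (.focus 2 (.cons [] 0 2 .triv .nil)) (.cons [1] 1 0 (.op 5 0 (.and 1 0 (.dead0 0))) .nil))))))))) (.cons [1] 0 0 (.op 5 0 (.and 1 0 (.dead0 0))) .nil)))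
noncomputable def c14CbK : List (List Nat) := [[3, 5, 3, 3, 5, 3, 3, 5, 3], [3, 5, 5, 4, 5, 3]]
noncomputable def c14CbF : List (List Nat) := [[], [1]]
noncomputable def c21b : Tr := (.sym [[1], [3]] (.cons [] 2 2 (.op 4 0 (.focus 0 (.cons [] 0 2 (.op 2 0 (.xor 0 1 (.focus 0 (.xor 1 4 (.focus 0 (.sym [[1]] (.cons [] 1 1 (.focus 2 (.focus 1 (.xor 3 0 (.focus 0 (.op 4 5 (.focus 0 (.cons [] 0 1 .triv .nil))))))) (.cons [1] 0 0 (.op 5 0 (.and 1 0 (.dead0 0))) .nil)))))))) .nil))) (.cons [2] 1 0 (.op 5 0 (.and 1 0 (.dead0 0))) .nil)))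
noncomputable def c21bK : List (List Nat) := [[4, 6, 3, 3, 3, 5, 3, 3, 5, 3], [5, 4, 5, 3]]
noncomputable def c21bF : List (List Nat) := [[], [1]]
noncomputable def c28b : Tr := (.sym [[1]] (.cons [] 3 1 (.op 2 0 (.xor 0 1 (.focus 0 (.op 4 2 (.xor 2 0 (.focus 0 (.op 7 4 (.xor 4 0 (.focus 0 (.op 4 3 (.xor 6 0 (.focus 0 (.cons [] 0 1 (.focus 2 (.cons [] 0 1 (.focus 5 (.cons [] 0 1 .triv .nil)) .nil)) .nil))))))))))))) (.cons [1] 0 0 (.op 5 0 (.and 1 0 (.dead0 0))) .nil)))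
noncomputable def c28bK : List (List Nat) := [[3, 5, 5, 4, 5, 3]]
noncomputable def c28bF : List (List Nat) := [[], [1], [1, 1]]
noncomputable def c35b : Tr := (.sym [[1]] (.cons [] 4 1 (.op 7 0 (.focus 0 (.cons [] 0 1 (.op 4 2 (.op 4 0 (.focus 0 (.cons [] 0 1 (.op 4 0 (.focus 0 (.cons [] 0 1 .triv .nil))) .nil)))) .nil))) .nil))
noncomputable def c35bK : List (List Nat) := [[4]]
noncomputable def c35bF : List (List Nat) := [[], [1]]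
noncomputable def c42b : Tr := (.sym [[1], [3]] (.cons [] 1 3 (.op 2 0 (.xor 0 1 (.focus 0 (.op 4 2 (.xor 2 0 (.focus 0 (.sym [[1]] (.cons [] 2 1 (.focus 2 (.cons [] 0 1 (.focus 4 (.focus 2 (.xor 5 1 (.focus 0 (.op 7 2 (.focus 0 (.cons [] 0 1 .triv .nil))))))) .nil)) .nil)))))))) (.cons [1] 2 0 (.op 8 0 (.and 1 0 (.dead0 0))) .nil)))
noncomputable def c42bK : List (List Nat) := [[5, 5, 4, 5, 3, 3, 5, 3, 3, 5, 3, 3, 5, 3], [3, 3, 5, 4, 5, 4, 4, 6, 3, 3, 3, 5, 3, 3, 5, 3]]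
noncomputable def c42bF : List (List Nat) := [[], [1], [1, 1], [1, 1, 1]]
noncomputable def n14b : Tr := (.op 5 0 (.dead 0))
noncomputable def n14bK : List (List Nat) := []
noncomputable def n14bF : List (List Nat) := [[], [1]]
noncomputable def c10Ab : Tr := (.sym [[1], [3], [5], [7], [9]] (.cons [] 4 12 (.base (nat_lit 0x2019021843058b0cc56) (.focus 0 (.sym [[1], [3]] (.cons [] 3 2 .triv (.cons [1] 2 0 (.op 11 0 (.and 1 0 (.dead0 0))) (.cons [2] 2 0 (.base (nat_lit 80) (.op 11 0 (.and 1 0 (.dead0 0)))) (.cons [2, 3] 2 0 (.op 11 0 (.and 1 0 (.dead0 0))) .nil))))))) (.cons [1, 1] 4 0 (.op 11 0 (.and 1 0 (.dead0 0))) .nil)))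
noncomputable def c10AbK : List (List Nat) := [[2, 4, 2, 3, 2, 3], [3, 1, 1, 1, 3, 2, 2], [4], [5], [4, 2, 2, 4, 1, 1, 4, 2, 2, 3, 1, 1, 1, 3, 2, 2, 2, 4, 2, 3, 2, 3]]
noncomputable def c10AbF : List (List Nat) := [[], [1], [1, 1], [1, 1, 1, 1, 1]]
noncomputable def c10Bb : Tr := (.sym [[1], [3], [5], [7]] (.cons [] 4 2 (.base (nat_lit 0x2019021843058b0cc56) (.focus 0 (.op 2 0 (.base (nat_lit 0x800000000) (.op 4 0 (.xor 2 0 (.focus 0 (.base (nat_lit 131072) (.op 7 0 (.xor 5 0 (.focus 0 (.sym [[1]] (.cons [] 1 1 (.base (nat_lit 80) (.focus 0 (.cons [] 0 1 .triv (.cons [1] 0 0 (.base (nat_lit 2048) (.op 4 0 (.op 4 0 (.op 4 0 (.base (nat_lit 0x1000000000) (.op 7 0 (.op 7 0 (.and 3 0 (.dead0 0))))))))) .nil)))) (.cons [1] 1 0 (.base (nat_lit 80) (.op 4 0 (.base (nat_lit 0x20000000000000000) (.and 1 0 (.dead0 0))))) (.cons [3] 1 0 (.base (nat_lit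 80) (.focus 0 (.cons [] 0 0 (.base (nat_lit 1024) (.op 4 3 (.op 4 0 (.op 4 0 (.op 4 0 (.op 4 0 (.and 5 0 (.dead0 0)))))))) (.cons [1] 0 0 (.base (nat_lit 2048) (.op 4 1 (.op 4 0 (.op 4 0 (.op 4 0 (.op 4 0 (.and 5 0 (.dead0 0)))))))) .nil)))) (.cons [1, 3] 1 0 (.base (nat_lit 80) (.op 4 0 (.op 4 0 (.op 4 0 (.op 7 3 (.op 7 0 (.and 2 0 (.dead0 0)))))))) (.cons [3, 2] 0 0 (.base (nat_lit 0x4000000000000) (.op 4 1 (.op 4 0 (.op 4 0 (.op 4 0 (.op 4 0 (.and 5 0 (.dead0 0)))))))) (.cons [4, 1] 1 0 (.base (nat_lit 80) (.op 4 10 (.op 4 0 (.op 4 0 (.op 4 0 (.op 4 0 (.and 5 0 (.dead0 0)))))))) (.cons [2, 3] 0 0 (.base (nat_lit 4) (.op 4 1 (.op 4 0 (.op 4 0 (.op 4 0 (.op 4 0 (.and 5 0 (.dead0 0)))))))) (.cons [2, 4] 0 0 (.base (nat_lit 4) (.op 4 1 (.op 4 0 (.op 4 0 (.op 4 0 (.op 4 0 (.and 5 0 (.dead0 0)))))))) (.cons [2, 3, 2] 1 0 (.base (nat_lit 80)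 (.op 4 0 (.op 4 0 (.op 4 0 (.op 7 3 (.op 7 0 (.and 2 0 (.dead0 0)))))))) (.cons [1, 4, 1] 0 0 (.base (nat_lit 4) (.op 4 1 (.op 4 0 (.op 4 0 (.op 4 0 (.op 4 0 (.and 5 0 (.dead0 0)))))))) (.cons [1, 3, 1] 0 0 (.base (nat_lit 4) (.op 4 1 (.op 4 0 (.op 4 0 (.op 4 0 (.op 4 0 (.and 5 0 (.dead0 0)))))))) (.cons [5, 3, 2] 0 0 (.base (nat_lit 0x8000000000) (.op 4 1 (.op 4 0 (.op 4 0 (.op 4 0 (.op 4 0 (.and 5 0 (.dead0 0)))))))) (.cons [2, 4, 1] 1 0 (.base (nat_lit 80) (.op 4 1 (.op 4 0 (.op 4 0 (.op 4 0 (.op 4 0 (.and 5 0 (.dead0 0)))))))) (.cons [1, 3, 2] 1 0 (.base (nat_lit 80) (.focus 0 (.cons [] 0 0 (.base (nat_lit 2048) (.op 4 1 (.op 4 0 (.op 4 0 (.op 4 0 (.op 4 0 (.and 5 0 (.dead0 0)))))))) (.cons [1] 0 0 (.base (nat_lit 2048) (.op 4 1 (.op 4 0 (.op 4 0 (.op 4 0 (.op 4 0 (.and 5 0 (.dead0 0)))))))) .nil)))) .nil))))))))))))))))))))))))))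 (.cons [1] 4 0 (.base (nat_lit 0x2019021843058b0cc56) (.op 4 1 (.op 4 0 (.op 4 0 (.op 4 0 (.op 4 0 (.and 5 0 (.dead0 0)))))))) (.cons [7, 1] 4 0 (.base (nat_lit 0x2019021843058b0cc56) (.focus 0 (.op 2 0 (.base (nat_lit 0x800000000) (.op 4 0 (.xor 2 0 (.focus 0 (.base (nat_lit 131072) (.op 7 0 (.xor 5 0 (.focus 0 (.sym [[9]] (.cons [] 1 0 (.base (nat_lit 80) (.op 4 0 (.op 4 0 (.op 4 0 (.op 7 3 (.op 7 0 (.and 2 0 (.dead0 0)))))))) (.cons [2] 1 0 (.base (nat_lit 80) (.op 4 1 (.op 4 0 (.op 4 0 (.op 4 0 (.op 4 0 (.and 5 0 (.dead0 0)))))))) (.cons [1] 0 0 (.base (nat_lit 4) (.op 4 1 (.op 4 0 (.op 4 0 (.op 4 0 (.op 4 0 (.and 5 0 (.dead0 0)))))))) (.cons [3] 1 0 (.base (nat_lit 80) (.op 4 10 (.op 4 0 (.op 4 0 (.op 4 0 (.op 4 0 (.and 5 0 (.dead0 0)))))))) (.cons [2, 3] 1 0 (.base (nat_lit 80) (.focus 0 (.cons [] 0 0 (.base (nat_lit 64) (.op 4 0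 (.op 4 0 (.op 4 0 (.base (nat_lit 2048) (.op 7 0 (.op 7 0 (.and 3 0 (.dead0 0))))))))) (.cons [1] 0 0 (.base (nat_lit 64) (.op 4 0 (.op 4 0 (.op 4 0 (.base (nat_lit 2048) (.op 7 0 (.op 7 0 (.and 3 0 (.dead0 0))))))))) .nil)))) (.cons [5, 1] 0 0 (.base (nat_lit 4) (.op 4 1 (.op 4 0 (.op 4 0 (.op 4 0 (.op 4 0 (.and 5 0 (.dead0 0)))))))) (.cons [3, 2] 1 0 (.base (nat_lit 80) (.focus 0 (.cons [] 0 0 (.base (nat_lit 1024) (.op 4 3 (.op 4 0 (.op 4 0 (.op 4 0 (.op 4 0 (.and 5 0 (.dead0 0)))))))) (.cons [1] 0 0 (.base (nat_lit 16384) (.op 4 3 (.op 4 0 (.op 4 0 (.op 4 0 (.op 4 0 (.and 5 0 (.dead0 0)))))))) .nil)))) (.cons [4, 1] 0 0 (.base (nat_lit 0x4000000000000) (.op 4 1 (.op 4 0 (.op 4 0 (.op 4 0 (.op 4 0 (.and 5 0 (.dead0 0)))))))) (.cons [3, 1] 0 0 (.base (nat_lit 0x8000000000) (.op 4 1 (.op 4 0 (.op 4 0 (.op 4 0 (.op 4 0 (.and 5 0 (.dead0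 0)))))))) (.cons [2, 3, 1] 1 0 (.base (nat_lit 80) (.op 4 0 (.op 4 0 (.op 4 0 (.op 7 3 (.op 7 0 (.and 2 0 (.dead0 0)))))))) (.cons [1, 4, 1] 1 0 (.base (nat_lit 80) (.focus 0 (.cons [] 0 0 (.base (nat_lit 1) (.op 4 0 (.base (nat_lit 0x100000000000000000) (.and 1 0 (.dead0 0))))) (.cons [1] 0 0 (.base (nat_lit 2048) (.op 4 0 (.op 4 0 (.op 4 0 (.base (nat_lit 0x1000000000) (.op 7 0 (.op 7 0 (.and 3 0 (.dead0 0))))))))) .nil)))) (.cons [2, 3, 2] 0 0 (.base (nat_lit 4) (.op 4 1 (.op 4 0 (.op 4 0 (.op 4 0 (.op 4 0 (.and 5 0 (.dead0 0)))))))) (.cons [1, 3, 2] 1 0 (.base (nat_lit 80) (.op 4 0 (.base (nat_lit 0x20000000000000000) (.and 1 0 (.dead0 0))))) (.cons [4, 1, 3] 0 0 (.base (nat_lit 4) (.op 4 1 (.op 4 0 (.op 4 0 (.op 4 0 (.op 4 0 (.and 5 0 (.dead0 0)))))))) .nil)))))))))))))))))))))))))) (.cons [4, 2] 4 0 (.base (nat_lit 0x2019021843058b0cc56)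 (.op 4 1 (.op 4 0 (.op 4 0 (.op 4 0 (.op 4 0 (.and 5 0 (.dead0 0)))))))) (.cons [2, 2, 2] 4 0 (.base (nat_lit 0x2019021843058b0cc56) (.op 4 1 (.op 4 0 (.op 4 0 (.op 4 0 (.op 4 0 (.and 5 0 (.dead0 0)))))))) .nil))))))
noncomputable def c10BbK : List (List Nat) := [[2, 4, 2, 4, 2, 3, 2, 3, 3, 1], [5], [2, 2, 3, 2, 3], [1, 1, 4, 2, 2, 4, 1, 1, 3, 2, 2], [4, 4]]
noncomputable def c10BbF : List (List Nat) := [[], [1], [1, 1], [1, 1, 1, 1, 1]]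
noncomputable def c15b : Tr := (.sym [[1], [3], [5]] (.cons [] 4 3 (.base (nat_lit 0x2019021843058b0cc56) (.focus 0 (.sym [[1]] (.cons [] 2 1 (.base (nat_lit 80) (.focus 0 (.cons [] 0 1 .triv (.cons [1] 0 0 (.base (nat_lit 2048) (.op 7 3 (.op 7 0 (.op 7 0 (.op 7 0 (.op 7 0 (.and 5 0 (.dead0 0)))))))) .nil)))) (.cons [3] 2 0 (.base (nat_lit 80) (.op 7 1 (.op 7 0 (.op 7 0 (.op 7 0 (.op 7 0 (.and 5 0 (.dead0 0)))))))) (.cons [4] 2 0 (.base (nat_lit 80) (.op 7 1 (.op 7 0 (.op 7 0 (.op 7 0 (.op 7 0 (.and 5 0 (.dead0 0)))))))) (.cons [5, 1] 2 0 (.base (nat_lit 80) (.focus 0 (.cons [] 0 0 (.base (nat_lit 2) (.op 7 0 (.base (nat_lit 0x400000000000000000000000000000000) (.and 1 0 (.dead0 0))))) (.cons [1] 0 0 (.base (nat_lit 2048) (.op 7 3 (.op 7 0 (.op 7 0 (.op 7 0 (.op 7 0 (.and 5 0 (.dead0 0)))))))) .nil)))) (.cons [3, 2] 2 0 (.base (nat_lit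 80) (.focus 0 (.cons [] 0 0 (.base (nat_lit 2048) (.op 7 3 (.op 7 0 (.op 7 0 (.op 7 0 (.op 7 0 (.and 5 0 (.dead0 0)))))))) (.cons [1] 0 0 (.base (nat_lit 2048) (.op 7 3 (.op 7 0 (.op 7 0 (.op 7 0 (.op 7 0 (.and 5 0 (.dead0 0)))))))) .nil)))) (.cons [4, 1] 2 0 (.base (nat_lit 80) (.focus 0 (.cons [] 0 0 (.base (nat_lit 1024) (.op 7 3 (.op 7 0 (.op 7 0 (.op 7 0 (.op 7 0 (.and 5 0 (.dead0 0)))))))) (.cons [1] 0 0 (.base (nat_lit 2048) (.op 7 3 (.op 7 0 (.op 7 0 (.op 7 0 (.op 7 0 (.and 5 0 (.dead0 0)))))))) .nil)))) (.cons [3, 1] 2 0 (.base (nat_lit 80) (.focus 0 (.cons [] 0 0 (.base (nat_lit 2048) (.op 7 3 (.op 7 0 (.op 7 0 (.op 7 0 (.op 7 0 (.and 5 0 (.dead0 0)))))))) (.cons [1] 0 0 (.base (nat_lit 1024) (.op 7 3 (.op 7 0 (.op 7 0 (.op 7 0 (.op 7 0 (.and 5 0 (.dead0 0)))))))) .nil)))) (.cons [4, 1, 3] 2 0 (.base (nat_lit 80) (.focus 0 (.cons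 [] 0 0 (.base (nat_lit 2048) (.op 7 3 (.op 7 0 (.op 7 0 (.op 7 0 (.op 7 0 (.and 5 0 (.dead0 0)))))))) (.cons [1] 0 0 (.base (nat_lit 2048) (.op 7 3 (.op 7 0 (.op 7 0 (.op 7 0 (.op 7 0 (.and 5 0 (.dead0 0)))))))) .nil)))) .nil))))))))))) (.cons [1] 4 0 (.op 11 0 (.and 1 0 (.dead0 0))) (.cons [4] 4 0 (.op 11 0 (.and 1 0 (.dead0 0))) (.cons [1, 1] 4 0 (.op 11 0 (.and 1 0 (.dead0 0))) (.cons [1, 4] 4 0 (.op 11 0 (.and 1 0 (.dead0 0))) (.cons [4, 2] 4 0 (.op 11 0 (.and 1 0 (.dead0 0))) (.cons [1, 1, 1] 4 0 (.op 11 0 (.and 1 0 (.dead0 0))) (.cons [1, 7, 1, 1] 4 0 (.base (nat_lit 0x2019021843058b0cc56) (.focus 0 (.sym [[1]] (.cons [] 2 0 (.base (nat_lit 80) (.focus 0 (.cons [] 0 0 (.base (nat_lit 1024) (.op 4 3 (.op 4 0 (.op 4 0 (.op 4 0 (.op 4 0 (.and 5 0 (.dead0 0)))))))) (.cons [1] 0 0 (.base (nat_lit 2048) (.op 7 3 (.op 7 0 (.op 7 0 (.op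 7 0 (.op 7 0 (.and 5 0 (.dead0 0)))))))) .nil)))) (.cons [1] 2 0 (.base (nat_lit 80) (.focus 0 (.cons [] 0 0 (.base (nat_lit 2048) (.op 7 3 (.op 7 0 (.op 7 0 (.op 7 0 (.op 7 0 (.and 5 0 (.dead0 0)))))))) (.cons [1] 0 0 (.base (nat_lit 2048) (.op 7 3 (.op 7 0 (.op 7 0 (.op 7 0 (.op 7 0 (.and 5 0 (.dead0 0)))))))) .nil)))) (.cons [2] 2 0 (.base (nat_lit 80) (.op 4 1 (.op 4 0 (.op 4 0 (.op 4 0 (.op 4 0 (.and 5 0 (.dead0 0)))))))) (.cons [3] 2 0 (.base (nat_lit 80) (.focus 0 (.cons [] 0 0 (.base (nat_lit 2048) (.op 7 3 (.op 7 0 (.op 7 0 (.op 7 0 (.op 7 0 (.and 5 0 (.dead0 0)))))))) (.cons [1] 0 0 (.base (nat_lit 2048) (.op 7 3 (.op 7 0 (.op 7 0 (.op 7 0 (.op 7 0 (.and 5 0 (.dead0 0)))))))) .nil)))) (.cons [2, 4] 2 0 (.base (nat_lit 80) (.focus 0 (.cons [] 0 0 (.base (nat_lit 2048) (.op 4 3 (.op 4 0 (.op 4 0 (.op 4 0 (.op 4 0 (.and 5 0 (.dead0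 0)))))))) (.cons [1] 0 0 (.base (nat_lit 2048) (.op 7 3 (.op 7 0 (.op 7 0 (.op 7 0 (.op 7 0 (.and 5 0 (.dead0 0)))))))) .nil)))) (.cons [3, 2] 2 0 (.base (nat_lit 80) (.focus 0 (.cons [] 0 0 (.base (nat_lit 1024) (.op 4 3 (.op 4 0 (.op 4 0 (.op 4 0 (.op 4 0 (.and 5 0 (.dead0 0)))))))) (.cons [1] 0 0 (.base (nat_lit 2048) (.op 7 3 (.op 7 0 (.op 7 0 (.op 7 0 (.op 7 0 (.and 5 0 (.dead0 0)))))))) .nil)))) (.cons [2, 3] 2 0 (.base (nat_lit 80) (.focus 0 (.cons [] 0 0 (.base (nat_lit 2048) (.op 4 3 (.op 4 0 (.op 4 0 (.op 4 0 (.op 4 0 (.and 5 0 (.dead0 0)))))))) (.cons [1] 0 0 (.base (nat_lit 2048) (.op 7 3 (.op 7 0 (.op 7 0 (.op 7 0 (.op 7 0 (.and 5 0 (.dead0 0)))))))) .nil)))) (.cons [4, 1] 2 0 (.base (nat_lit 80) (.op 4 1 (.op 4 0 (.op 4 0 (.op 4 0 (.op 4 0 (.and 5 0 (.dead0 0)))))))) .nil))))))))))) .nil)))))))))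
noncomputable def c15bK : List (List Nat) := [[3, 1], [5], [4, 4, 2, 3, 2, 3, 2, 4]]
noncomputable def c15bF : List (List Nat) := [[], [1], [1, 1, 1], [1, 1, 1, 1, 1]]
noncomputable def c20Ab : Tr := (.sym [[1], [3], [5], [7], [9]] (.cons [] 4 2 (.base (nat_lit 8) (.op 7 0 (.focus 0 (.cons [] 0 2 .triv .nil)))) (.cons [1, 1] 4 0 (.op 17 0 (.and 1 0 (.dead0 0))) (.cons [2, 2] 4 0 (.op 14 0 (.and 1 0 (.dead0 0))) (.cons [8, 3, 2] 4 0 (.op 14 0 (.and 1 0 (.dead0 0))) .nil)))))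
noncomputable def c20AbK : List (List Nat) := [[2, 4, 2, 3, 2, 3], [4], [5], [2, 2, 4, 1, 1, 4, 2, 2], [1, 1, 3, 3, 1, 1, 1, 3, 2, 2, 3, 1]]
noncomputable def c20AbF : List (List Nat) := [[], [1], [1, 1], [1, 1, 1, 1], [1, 1, 1, 1, 1], [1, 1, 1, 1, 1, 1, 1, 1, 1, 1]]
noncomputable def c20Bb : Tr := (.sym [[1], [3], [5], [7], [9]] (.cons [] 4 2 (.base (nat_lit 0x2019021843058b0cc56) (.focus 0 (.op 2 0 (.base (nat_lit 0x800000000) (.op 4 0 (.xor 2 0 (.focus 0 (.base (nat_lit 8) (.op 7 0 (.xor 5 0 (.focus 0 (.base (nat_lit 0x20000000000000000) (.op 7 0 (.xor 8 0 (.focus 0 (.base (nat_lit 0x10000000000000000000) (.op 7 0 (.xor 11 0 (.focus 0 (.sym [[1]] (.cons [] 1 1 (.base (nat_lit 80) (.focus 0 (.cons [] 0 1 .triv (.cons [1] 0 0 (.base (nat_lit 2048) (.op 4 0 (.op 4 0 (.op 4 0 (.base (nat_lit 0x1000000000) (.op 7 0 (.op 7 0 (.and 3 0 (.dead0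 0))))))))) .nil)))) (.cons [1] 1 0 (.op 17 0 (.and 1 0 (.dead0 0))) (.cons [3] 1 0 (.op 17 0 (.and 1 0 (.dead0 0))) (.cons [1, 3] 1 0 (.base (nat_lit 80) (.op 14 0 (.and 1 0 (.dead0 0)))) (.cons [4, 1] 1 0 (.base (nat_lit 80) (.op 4 16 (.op 4 0 (.op 4 0 (.op 4 0 (.op 4 0 (.and 5 0 (.dead0 0)))))))) (.cons [2, 3] 0 0 (.op 14 0 (.and 1 0 (.dead0 0))) (.cons [2, 4] 0 0 (.op 14 0 (.and 1 0 (.dead0 0))) (.cons [2, 3, 2] 1 0 (.op 17 0 (.and 1 0 (.dead0 0))) (.cons [1, 4, 1] 0 0 (.op 14 0 (.and 1 0 (.dead0 0))) (.cons [1, 3, 1] 0 0 (.op 14 0 (.and 1 0 (.dead0 0))) (.cons [2, 4, 1] 1 0 (.op 17 0 (.and 1 0 (.dead0 0))) (.cons [1, 3, 2] 1 0 (.base (nat_lit 80) (.op 17 0 (.and 1 0 (.dead0 0)))) .nil)))))))))))))))))))))))))))))))) (.cons [1] 4 0 (.op 17 0 (.and 1 0 (.dead0 0))) (.cons [2, 2, 2] 4 0 (.op 14 0 (.and 1 0 (.dead0 0))) (.cons [1, 3, 2]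 4 0 (.op 14 0 (.and 1 0 (.dead0 0))) .nil)))))
noncomputable def c20BbK : List (List Nat) := [[2, 4, 2, 4, 2, 3, 2, 3, 3, 1], [5], [2, 3, 1], [1, 1, 4, 2, 2, 4, 1, 1, 3, 2, 2], [3, 1, 1, 3, 1, 1, 1, 4, 2, 2, 3, 1]]
noncomputable def c20BbF : List (List Nat) := [[], [1], [1, 1], [1, 1, 1, 1], [1, 1, 1, 1, 1], [1, 1, 1, 1, 1, 1, 1, 1, 1, 1]]
noncomputable def c30b : Tr := (.sym [[1], [3], [5]] (.cons [] 4 3 (.base (nat_lit 0x2019021843058b0cc56) (.focus 0 (.sym [[1]] (.cons [] 2 1 (.base (nat_lit 80) (.focus 0 (.cons [] 0 1 .triv (.cons [1] 0 0 (.base (nat_lit 2048) (.op 7 3 (.op 7 0 (.op 7 0 (.op 7 0 (.op 7 0 (.and 5 0 (.dead0 0)))))))) .nil)))) (.cons [2] 2 0 (.base (nat_lit 80) (.focus 0 (.cons [] 0 0 (.base (nat_lit 2048) (.op 7 3 (.op 7 0 (.op 7 0 (.op 7 0 (.op 7 0 (.and 5 0 (.dead0 0)))))))) (.cons [1] 0 0 (.base (nat_lit 2) (.op 7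 0 (.base (nat_lit 0x8000000000000000000000000000000000) (.and 1 0 (.dead0 0))))) .nil)))) (.cons [3] 2 0 (.op 23 0 (.and 1 0 (.dead0 0))) (.cons [4] 2 0 (.op 23 0 (.and 1 0 (.dead0 0))) (.cons [3, 2] 2 0 (.base (nat_lit 80) (.op 23 0 (.and 1 0 (.dead0 0)))) (.cons [4, 1] 2 0 (.op 23 0 (.and 1 0 (.dead0 0))) (.cons [3, 1] 2 0 (.op 23 0 (.and 1 0 (.dead0 0))) (.cons [2, 3, 2] 2 0 (.base (nat_lit 80) (.op 23 0 (.and 1 0 (.dead0 0)))) .nil))))))))))) (.cons [1] 4 0 (.op 20 0 (.and 1 0 (.dead0 0))) (.cons [4] 4 0 (.op 20 0 (.and 1 0 (.dead0 0))) (.cons [1, 1] 4 0 (.op 20 0 (.and 1 0 (.dead0 0))) (.cons [1, 4] 4 0 (.op 20 0 (.and 1 0 (.dead0 0))) (.cons [4, 2] 4 0 (.op 20 0 (.and 1 0 (.dead0 0))) (.cons [1, 1, 1] 4 0 (.op 20 0 (.and 1 0 (.dead0 0))) (.cons [1, 7, 1, 1] 4 0 (.base (nat_lit 0x2019021843058b0cc56) (.focus 0 (.sym [[1]] (.cons []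 2 0 (.op 23 0 (.and 1 0 (.dead0 0))) (.cons [1] 2 0 (.base (nat_lit 80) (.op 23 0 (.and 1 0 (.dead0 0)))) (.cons [2] 2 0 (.op 23 0 (.and 1 0 (.dead0 0))) (.cons [4] 2 0 (.base (nat_lit 80) (.op 23 0 (.and 1 0 (.dead0 0)))) (.cons [2, 4] 2 0 (.base (nat_lit 80) (.focus 0 (.cons [] 0 0 (.base (nat_lit 2048) (.op 4 3 (.op 4 0 (.op 4 0 (.op 4 0 (.op 4 0 (.and 5 0 (.dead0 0)))))))) (.cons [1] 0 0 (.base (nat_lit 2048) (.op 7 3 (.op 7 0 (.op 7 0 (.op 7 0 (.op 7 0 (.and 5 0 (.dead0 0)))))))) .nil)))) (.cons [3, 2] 2 0 (.op 23 0 (.and 1 0 (.dead0 0))) (.cons [2, 3] 2 0 (.base (nat_lit 80) (.focus 0 (.cons [] 0 0 (.base (nat_lit 2048) (.op 4 3 (.op 4 0 (.op 4 0 (.op 4 0 (.op 4 0 (.and 5 0 (.dead0 0)))))))) (.cons [1] 0 0 (.base (nat_lit 2048) (.op 7 3 (.op 7 0 (.op 7 0 (.op 7 0 (.op 7 0 (.and 5 0 (.dead0 0)))))))) .nil)))) (.cons [5, 2] 2 0 (.op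 23 0 (.and 1 0 (.dead0 0))) .nil))))))))))) .nil)))))))))
noncomputable def c30bK : List (List Nat) := [[2, 3, 2, 3], [5], [4, 4, 2, 3, 2, 3, 2, 4]]
noncomputable def c30bF : List (List Nat) := [[], [1], [1, 1], [1, 1, 1], [1, 1, 1, 1, 1], [1, 1, 1, 1, 1, 1], [1, 1, 1, 1, 1, 1, 1, 1, 1, 1], [1, 1, 1, 1, 1, 1, 1, 1, 1, 1, 1, 1, 1, 1, 1]]
noncomputable def c40Ab : Tr := (.sym [[1], [3], [5]] (.cons [] 4 1 (.base (nat_lit 0x2019021843058b0cc56) (.focus 0 (.op 2 0 (.base (nat_lit 0x800000000) (.op 4 0 (.xor 2 0 (.focus 0 (.base (nat_lit 8) (.op 7 0 (.xor 5 0 (.focus 0 (.base (nat_lit 131072) (.op 7 0 (.xor 8 0 (.focus 0 (.base (nat_lit 0x20000000000000000) (.op 7 0 (.xor 11 0 (.focus 0 (.base (nat_lit 0x10000000000000000000) (.op 7 0 (.xor 14 0 (.focus 0 (.base (nat_lit 524288) (.op 4 0 (.op 4 0 (.xor 18 0 (.focus 0 (.op 7 3 (.op 7 0 (.op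 7 0 (.xor 22 0 (.focus 0 (.base (nat_lit 0x200000000000000) (.op 4 0 (.op 4 0 (.xor 26 0 (.focus 0 (.cons [] 0 1 (.focus 2 (.cons [] 0 1 .triv .nil)) (.cons [1] 0 0 (.op 23 0 (.and 1 0 (.dead0 0))) (.cons [2] 0 0 (.op 23 0 (.and 1 0 (.dead0 0))) (.cons [1, 3] 0 0 (.op 20 0 (.and 1 0 (.dead0 0))) (.cons [1, 4] 0 0 (.op 20 0 (.and 1 0 (.dead0 0))) (.cons [5, 1] 0 0 (.op 23 0 (.and 1 0 (.dead0 0))) (.cons [4, 1] 0 0 (.op 20 0 (.and 1 0 (.dead0 0))) (.cons [3, 1] 0 0 (.op 20 0 (.and 1 0 (.dead0 0))) (.cons [2, 3] 0 0 (.base (nat_lit 80) (.op 4 31 (.op 4 0 (.op 4 0 (.op 4 0 (.op 4 0 (.op 4 0 (.op 4 0 (.op 4 0 (.op 4 0 (.op 4 0 (.and 10 0 (.dead0 0))))))))))))) (.cons [2, 4] 0 0 (.base (nat_lit 80) (.op 4 31 (.op 4 0 (.op 4 0 (.op 4 0 (.op 4 0 (.op 4 0 (.op 4 0 (.op 4 0 (.op 4 0 (.op 4 0 (.and 10 0 (.dead0 0))))))))))))) (.cons [5, 2] 0 0 (.op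 23 0 (.and 1 0 (.dead0 0))) (.cons [2, 5, 1] 0 0 (.focus 2 (.cons [1] 0 0 (.base (nat_lit 0x1000000000) (.op 4 1 (.op 4 0 (.op 4 0 (.op 4 0 (.op 4 0 (.and 5 0 (.dead0 0)))))))) .nil)) (.cons [1, 4, 1] 0 0 (.base (nat_lit 80) (.op 4 1 (.op 4 0 (.op 4 0 (.op 4 0 (.op 4 0 (.and 5 0 (.dead0 0)))))))) (.cons [1, 3, 1] 0 0 (.base (nat_lit 80) (.op 4 1 (.op 4 0 (.op 4 0 (.op 4 0 (.op 4 0 (.and 5 0 (.dead0 0)))))))) (.cons [1, 3, 2] 0 0 (.base (nat_lit 80) (.op 4 31 (.op 4 0 (.op 4 0 (.op 4 0 (.op 4 0 (.op 4 0 (.op 4 0 (.op 4 0 (.op 4 0 (.op 4 0 (.and 10 0 (.dead0 0))))))))))))) (.cons [2, 4, 1, 3] 0 0 (.base (nat_lit 80) (.op 4 31 (.op 4 0 (.op 4 0 (.op 4 0 (.op 4 0 (.op 4 0 (.op 4 0 (.op 4 0 (.op 4 0 (.op 4 0 (.and 10 0 (.dead0 0))))))))))))) .nil)))))))))))))))))))))))))))))))))))))))))))))))))))))) (.cons [1] 4 0 (.op 23 0 (.and 1 0 (.dead0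 0))) (.cons [4] 4 0 (.op 23 0 (.and 1 0 (.dead0 0))) (.cons [2] 4 0 (.base (nat_lit 0x2019021843058b0cc56) (.focus 0 (.op 2 0 (.base (nat_lit 0x800000000) (.op 4 0 (.xor 2 0 (.focus 0 (.base (nat_lit 8) (.op 7 0 (.xor 5 0 (.focus 0 (.base (nat_lit 131072) (.op 7 0 (.xor 8 0 (.focus 0 (.base (nat_lit 0x20000000000000000) (.op 7 0 (.xor 11 0 (.focus 0 (.base (nat_lit 0x10000000000000000000) (.op 7 0 (.xor 14 0 (.focus 0 (.base (nat_lit 524288) (.op 4 0 (.op 4 0 (.xor 18 0 (.focus 0 (.op 7 3 (.op 7 0 (.op 7 0 (.xor 22 0 (.focus 0 (.base (nat_lit 0x200000000000000) (.op 4 0 (.op 4 0 (.xor 26 0 (.focus 0 (.cons [3] 0 0 (.base (nat_lit 80) (.op 4 31 (.op 4 0 (.op 4 0 (.op 4 0 (.op 4 0 (.op 4 0 (.op 4 0 (.op 4 0 (.op 4 0 (.op 4 0 (.and 10 0 (.dead0 0))))))))))))) (.cons [2] 0 0 (.op 23 0 (.and 1 0 (.dead0 0))) (.cons [4] 0 0 (.base (nat_lit 80)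 (.op 4 31 (.op 4 0 (.op 4 0 (.op 4 0 (.op 4 0 (.op 4 0 (.op 4 0 (.op 4 0 (.op 4 0 (.op 4 0 (.and 10 0 (.dead0 0))))))))))))) (.cons [1] 0 0 (.focus 2 (.cons [] 0 0 (.base (nat_lit 0x1000000000) (.op 7 1 (.op 7 0 (.op 7 0 (.op 7 0 (.op 7 0 (.and 5 0 (.dead0 0)))))))) .nil)) (.cons [1, 3] 0 0 (.op 23 0 (.and 1 0 (.dead0 0))) (.cons [1, 4] 0 0 (.op 23 0 (.and 1 0 (.dead0 0))) (.cons [2, 3] 0 0 (.op 20 0 (.and 1 0 (.dead0 0))) (.cons [2, 4] 0 0 (.op 20 0 (.and 1 0 (.dead0 0))) (.cons [5, 2] 0 0 (.op 23 0 (.and 1 0 (.dead0 0))) (.cons [5, 1] 0 0 (.focus 2 (.cons [1] 0 0 (.base (nat_lit 0x1000000000) (.op 4 32 (.op 4 0 (.op 4 0 (.op 4 0 (.op 4 0 (.and 5 0 (.dead0 0)))))))) .nil)) (.cons [2, 3, 2] 0 0 (.base (nat_lit 80) (.op 4 31 (.op 4 0 (.op 4 0 (.op 4 0 (.op 4 0 (.op 4 0 (.op 4 0 (.op 4 0 (.op 4 0 (.op 4 0 (.and 10 0 (.dead0 0)))))))))))))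 (.cons [4, 1, 3] 0 0 (.base (nat_lit 80) (.op 4 31 (.op 4 0 (.op 4 0 (.op 4 0 (.op 4 0 (.op 4 0 (.op 4 0 (.op 4 0 (.op 4 0 (.op 4 0 (.and 10 0 (.dead0 0))))))))))))) (.cons [1, 4, 1] 0 0 (.op 20 0 (.and 1 0 (.dead0 0))) (.cons [1, 3, 1] 0 0 (.op 20 0 (.and 1 0 (.dead0 0))) (.cons [2, 4, 1] 0 0 (.base (nat_lit 80) (.op 7 1 (.op 7 0 (.op 7 0 (.op 7 0 (.op 7 0 (.and 5 0 (.dead0 0)))))))) (.cons [2, 3, 1] 0 0 (.base (nat_lit 80) (.op 7 1 (.op 7 0 (.op 7 0 (.op 7 0 (.op 7 0 (.and 5 0 (.dead0 0)))))))) .nil)))))))))))))))))))))))))))))))))))))))))))))))))))))) (.cons [4, 2] 4 0 (.op 20 0 (.and 1 0 (.dead0 0))) (.cons [3, 2] 4 0 (.op 20 0 (.and 1 0 (.dead0 0))) .nil)))))))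
noncomputable def c40AbK : List (List Nat) := [[5], [1, 1, 1, 1, 3, 2, 2, 2, 4, 2, 4, 2, 3, 2, 3], [2, 2, 2, 4]]
noncomputable def c40AbF : List (List Nat) := [[], [1], [1, 1], [1, 1, 1, 1], [1, 1, 1, 1, 1], [1, 1, 1, 1, 1, 1, 1, 1], [1, 1, 1, 1, 1, 1, 1, 1, 1, 1], [1, 1, 1, 1, 1, 1, 1, 1, 1, 1, 1, 1, 1, 1, 1, 1, 1, 1, 1, 1]]
noncomputable def c40Bb : Tr := (.sym [[1], [3], [5]] (.cons [] 4 1 (.base (nat_lit 0x2019021843058b0cc56) (.focus 0 (.op 2 0 (.base (nat_lit 0x800000000) (.op 4 0 (.xor 2 0 (.focus 0 (.base (nat_lit 8) (.op 7 0 (.xor 5 0 (.focus 0 (.base (nat_lit 131072) (.op 7 0 (.xor 8 0 (.focus 0 (.base (nat_lit 0x20000000000000000) (.op 7 0 (.xor 11 0 (.focus 0 (.base (nat_lit 0x10000000000000000000) (.op 7 0 (.xor 14 0 (.focus 0 (.base (nat_lit 524288) (.op 4 0 (.op 4 0 (.xor 18 0 (.focus 0 (.op 7 3 (.op 7 0 (.op 7 0 (.xor 22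 0 (.focus 0 (.base (nat_lit 0x200000000000000) (.op 4 0 (.op 4 0 (.xor 26 0 (.focus 0 (.cons [] 0 1 (.base (nat_lit 80) (.focus 0 (.focus 2 (.cons [] 0 1 .triv .nil)))) (.cons [1] 0 0 (.op 23 0 (.and 1 0 (.dead0 0))) (.cons [2] 0 0 (.op 23 0 (.and 1 0 (.dead0 0))) (.cons [1, 3] 0 0 (.op 20 0 (.and 1 0 (.dead0 0))) (.cons [1, 4] 0 0 (.op 20 0 (.and 1 0 (.dead0 0))) (.cons [5, 1] 0 0 (.op 23 0 (.and 1 0 (.dead0 0))) (.cons [4, 1] 0 0 (.op 20 0 (.and 1 0 (.dead0 0))) (.cons [3, 1] 0 0 (.op 20 0 (.and 1 0 (.dead0 0))) (.cons [2, 3] 0 0 (.base (nat_lit 80) (.op 4 31 (.op 4 0 (.op 4 0 (.op 4 0 (.op 4 0 (.op 4 0 (.op 4 0 (.op 4 0 (.op 4 0 (.op 4 0 (.and 10 0 (.dead0 0))))))))))))) (.cons [2, 4] 0 0 (.base (nat_lit 80) (.op 4 31 (.op 4 0 (.op 4 0 (.op 4 0 (.op 4 0 (.op 4 0 (.op 4 0 (.op 4 0 (.op 4 0 (.op 4 0 (.and 10 0 (.dead0 0))))))))))))) (.cons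 [5, 2] 0 0 (.op 23 0 (.and 1 0 (.dead0 0))) (.cons [2, 5, 1] 0 0 (.base (nat_lit 80) (.focus 0 (.focus 2 (.cons [1] 0 0 (.base (nat_lit 0x1000000000) (.op 4 1 (.op 4 0 (.op 4 0 (.op 4 0 (.op 4 0 (.and 5 0 (.dead0 0)))))))) .nil)))) (.cons [1, 4, 1] 0 0 (.base (nat_lit 80) (.op 4 1 (.op 4 0 (.op 4 0 (.op 4 0 (.op 4 0 (.and 5 0 (.dead0 0)))))))) (.cons [1, 3, 1] 0 0 (.base (nat_lit 80) (.op 4 1 (.op 4 0 (.op 4 0 (.op 4 0 (.op 4 0 (.and 5 0 (.dead0 0)))))))) (.cons [1, 3, 2] 0 0 (.base (nat_lit 80) (.op 4 31 (.op 4 0 (.op 4 0 (.op 4 0 (.op 4 0 (.op 4 0 (.op 4 0 (.op 4 0 (.op 4 0 (.op 4 0 (.and 10 0 (.dead0 0))))))))))))) (.cons [2, 4, 1, 3] 0 0 (.base (nat_lit 80) (.op 4 31 (.op 4 0 (.op 4 0 (.op 4 0 (.op 4 0 (.op 4 0 (.op 4 0 (.op 4 0 (.op 4 0 (.op 4 0 (.and 10 0 (.dead0 0))))))))))))) .nil))))))))))))))))))))))))))))))))))))))))))))))))))))))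 (.cons [1] 4 0 (.op 23 0 (.and 1 0 (.dead0 0))) (.cons [4] 4 0 (.op 23 0 (.and 1 0 (.dead0 0))) (.cons [2] 4 0 (.base (nat_lit 0x2019021843058b0cc56) (.focus 0 (.op 2 0 (.base (nat_lit 0x800000000) (.op 4 0 (.xor 2 0 (.focus 0 (.base (nat_lit 8) (.op 7 0 (.xor 5 0 (.focus 0 (.base (nat_lit 131072) (.op 7 0 (.xor 8 0 (.focus 0 (.base (nat_lit 0x20000000000000000) (.op 7 0 (.xor 11 0 (.focus 0 (.base (nat_lit 0x10000000000000000000) (.op 7 0 (.xor 14 0 (.focus 0 (.base (nat_lit 524288) (.op 4 0 (.op 4 0 (.xor 18 0 (.focus 0 (.op 7 3 (.op 7 0 (.op 7 0 (.xor 22 0 (.focus 0 (.base (nat_lit 0x200000000000000) (.op 4 0 (.op 4 0 (.xor 26 0 (.focus 0 (.cons [3] 0 0 (.base (nat_lit 80) (.op 4 31 (.op 4 0 (.op 4 0 (.op 4 0 (.op 4 0 (.op 4 0 (.op 4 0 (.op 4 0 (.op 4 0 (.op 4 0 (.and 10 0 (.dead0 0))))))))))))) (.cons [2] 0 0 (.op 23 0 (.and 1 0 (.dead0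 0))) (.cons [4] 0 0 (.base (nat_lit 80) (.op 4 31 (.op 4 0 (.op 4 0 (.op 4 0 (.op 4 0 (.op 4 0 (.op 4 0 (.op 4 0 (.op 4 0 (.op 4 0 (.and 10 0 (.dead0 0))))))))))))) (.cons [1] 0 0 (.base (nat_lit 80) (.focus 0 (.focus 2 (.cons [1] 0 0 (.base (nat_lit 0x1000000000) (.op 7 33 (.op 7 0 (.op 7 0 (.op 7 0 (.op 7 0 (.and 5 0 (.dead0 0)))))))) .nil)))) (.cons [1, 3] 0 0 (.op 23 0 (.and 1 0 (.dead0 0))) (.cons [1, 4] 0 0 (.op 23 0 (.and 1 0 (.dead0 0))) (.cons [2, 3] 0 0 (.op 20 0 (.and 1 0 (.dead0 0))) (.cons [2, 4] 0 0 (.op 20 0 (.and 1 0 (.dead0 0))) (.cons [5, 2] 0 0 (.op 23 0 (.and 1 0 (.dead0 0))) (.cons [5, 1] 0 0 (.base (nat_lit 80) (.focus 0 (.focus 2 (.cons [] 0 0 (.base (nat_lit 0x1000000000) (.op 4 33 (.op 4 0 (.op 4 0 (.op 4 0 (.op 4 0 (.and 5 0 (.dead0 0)))))))) .nil)))) (.cons [2, 3, 2] 0 0 (.base (nat_lit 80) (.op 4 31 (.op 4 0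 (.op 4 0 (.op 4 0 (.op 4 0 (.op 4 0 (.op 4 0 (.op 4 0 (.op 4 0 (.op 4 0 (.and 10 0 (.dead0 0))))))))))))) (.cons [4, 1, 3] 0 0 (.base (nat_lit 80) (.op 4 31 (.op 4 0 (.op 4 0 (.op 4 0 (.op 4 0 (.op 4 0 (.op 4 0 (.op 4 0 (.op 4 0 (.op 4 0 (.and 10 0 (.dead0 0))))))))))))) (.cons [1, 4, 1] 0 0 (.op 20 0 (.and 1 0 (.dead0 0))) (.cons [1, 3, 1] 0 0 (.op 20 0 (.and 1 0 (.dead0 0))) (.cons [2, 4, 1] 0 0 (.base (nat_lit 80) (.op 7 1 (.op 7 0 (.op 7 0 (.op 7 0 (.op 7 0 (.and 5 0 (.dead0 0)))))))) (.cons [2, 3, 1] 0 0 (.base (nat_lit 80) (.op 7 1 (.op 7 0 (.op 7 0 (.op 7 0 (.op 7 0 (.and 5 0 (.dead0 0)))))))) .nil)))))))))))))))))))))))))))))))))))))))))))))))))))))) (.cons [4, 2] 4 0 (.op 20 0 (.and 1 0 (.dead0 0))) (.cons [3, 2] 4 0 (.op 20 0 (.and 1 0 (.dead0 0))) .nil)))))))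
noncomputable def c40BbK : List (List Nat) := [[5], [1, 4, 2, 3, 2, 3, 1, 1, 3, 2, 2, 2, 4, 2, 4, 2, 3, 2, 3], [2, 2, 2, 4, 2, 3, 2, 3, 2, 4, 2, 4, 2, 3, 2, 3]]
noncomputable def c40BbF : List (List Nat) := [[], [1], [1, 1], [1, 1, 1, 1], [1, 1, 1, 1, 1], [1, 1, 1, 1, 1, 1, 1, 1], [1, 1, 1, 1, 1, 1, 1, 1, 1, 1], [1, 1, 1, 1, 1, 1, 1, 1, 1, 1, 1, 1, 1, 1, 1, 1, 1, 1, 1, 1]]
noncomputable def n10b : Tr := (.op 11 0 (.dead0 0))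
noncomputable def n10bK : List (List Nat) := []
noncomputable def n10bF : List (List Nat) := [[], [1], [1, 1], [1, 1, 1, 1, 1]]
noncomputable def n20b : Tr := (.sym [[1], [3], [5], [7], [9]] (.cons [] 4 0 (.base (nat_lit 8) (.op 7 0 (.focus 0 (.cons [2] 0 0 (.base (nat_lit 80) (.focus 0 (.sym [[1]] (.cons [] 1 0 (.base (nat_lit 2048) (.op 4 1 (.op 4 0 (.op 4 0 (.op 4 0 (.op 4 0 (.and 5 0 (.dead0 0)))))))) .nil)))) .nil)))) (.cons [1] 4 0 (.op 17 0 (.and 1 0 (.dead0 0))) (.cons [2, 2, 2] 4 0 (.op 14 0 (.and 1 0 (.dead0 0))) (.cons [1, 3, 2] 4 0 (.op 14 0 (.and 1 0 (.dead0 0))) .nil)))))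
noncomputable def n20bK : List (List Nat) := [[2, 4, 2, 4, 2, 3, 2, 3, 3, 1], [5], [2, 3, 1], [1, 1, 4, 2, 2, 4, 1, 1, 3, 2, 2], [3, 1, 1, 3, 1, 1, 1, 4, 2, 2, 3, 1]]
noncomputable def n20bF : List (List Nat) := [[], [1], [1, 1], [1, 1, 1, 1], [1, 1, 1, 1, 1], [1, 1, 1, 1, 1, 1, 1, 1, 1, 1]]
noncomputable def n40b : Tr := (.sym [[1], [3], [5]] (.cons [] 4 0 (.base (nat_lit 0x2019021843058b0cc56) (.focus 0 (.op 2 0 (.base (nat_lit 0x800000000) (.op 4 0 (.xor 2 0 (.focus 0 (.base (nat_lit 8) (.op 7 0 (.xor 5 0 (.focus 0 (.base (nat_lit 131072) (.op 7 0 (.xor 8 0 (.focus 0 (.base (nat_lit 0x20000000000000000) (.op 7 0 (.xor 11 0 (.focus 0 (.base (nat_lit 0x10000000000000000000) (.op 7 0 (.xor 14 0 (.focus 0 (.base (nat_lit 524288) (.op 4 0 (.op 4 0 (.xor 18 0 (.focus 0 (.op 7 3 (.op 7 0 (.op 7 0 (.xor 22 0 (.focus 0 (.base (nat_lit 0x200000000000000)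 (.op 4 0 (.op 4 0 (.xor 26 0 (.focus 0 (.cons [] 0 0 (.focus 2 (.cons [1] 0 0 (.base (nat_lit 0x1000000000) (.op 4 1 (.op 4 0 (.op 4 0 (.op 4 0 (.op 4 0 (.and 5 0 (.dead0 0)))))))) .nil)) (.cons [1] 0 0 (.op 23 0 (.and 1 0 (.dead0 0))) (.cons [2] 0 0 (.op 23 0 (.and 1 0 (.dead0 0))) (.cons [1, 3] 0 0 (.op 20 0 (.and 1 0 (.dead0 0))) (.cons [1, 4] 0 0 (.op 20 0 (.and 1 0 (.dead0 0))) (.cons [5, 1] 0 0 (.op 23 0 (.and 1 0 (.dead0 0))) (.cons [4, 1] 0 0 (.op 20 0 (.and 1 0 (.dead0 0))) (.cons [3, 1] 0 0 (.op 20 0 (.and 1 0 (.dead0 0))) (.cons [2, 3] 0 0 (.base (nat_lit 80) (.op 4 31 (.op 4 0 (.op 4 0 (.op 4 0 (.op 4 0 (.op 4 0 (.op 4 0 (.op 4 0 (.op 4 0 (.op 4 0 (.and 10 0 (.dead0 0))))))))))))) (.cons [2, 4] 0 0 (.base (nat_lit 80) (.op 4 31 (.op 4 0 (.op 4 0 (.op 4 0 (.op 4 0 (.op 4 0 (.op 4 0 (.op 4 0 (.op 4 0 (.op 4 0 (.and 10 0 (.dead0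 0))))))))))))) (.cons [5, 2] 0 0 (.op 23 0 (.and 1 0 (.dead0 0))) (.cons [2, 5, 1] 0 0 (.focus 2 (.cons [] 0 0 (.base (nat_lit 1) (.op 4 0 (.base (nat_lit 0x10000000000) (.and 1 0 (.dead0 0))))) .nil)) (.cons [1, 4, 1] 0 0 (.base (nat_lit 80) (.op 4 1 (.op 4 0 (.op 4 0 (.op 4 0 (.op 4 0 (.and 5 0 (.dead0 0)))))))) (.cons [1, 3, 1] 0 0 (.base (nat_lit 80) (.op 4 1 (.op 4 0 (.op 4 0 (.op 4 0 (.op 4 0 (.and 5 0 (.dead0 0)))))))) (.cons [1, 3, 2] 0 0 (.base (nat_lit 80) (.op 4 31 (.op 4 0 (.op 4 0 (.op 4 0 (.op 4 0 (.op 4 0 (.op 4 0 (.op 4 0 (.op 4 0 (.op 4 0 (.and 10 0 (.dead0 0))))))))))))) (.cons [2, 4, 1, 3] 0 0 (.base (nat_lit 80) (.op 4 31 (.op 4 0 (.op 4 0 (.op 4 0 (.op 4 0 (.op 4 0 (.op 4 0 (.op 4 0 (.op 4 0 (.op 4 0 (.and 10 0 (.dead0 0))))))))))))) .nil)))))))))))))))))))))))))))))))))))))))))))))))))))))) (.cons [1] 4 0 (.op 23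 0 (.and 1 0 (.dead0 0))) (.cons [4] 4 0 (.op 23 0 (.and 1 0 (.dead0 0))) (.cons [2] 4 0 (.base (nat_lit 0x2019021843058b0cc56) (.focus 0 (.op 2 0 (.base (nat_lit 0x800000000) (.op 4 0 (.xor 2 0 (.focus 0 (.base (nat_lit 8) (.op 7 0 (.xor 5 0 (.focus 0 (.base (nat_lit 131072) (.op 7 0 (.xor 8 0 (.focus 0 (.base (nat_lit 0x20000000000000000) (.op 7 0 (.xor 11 0 (.focus 0 (.base (nat_lit 0x10000000000000000000) (.op 7 0 (.xor 14 0 (.focus 0 (.base (nat_lit 524288) (.op 4 0 (.op 4 0 (.xor 18 0 (.focus 0 (.op 7 3 (.op 7 0 (.op 7 0 (.xor 22 0 (.focus 0 (.base (nat_lit 0x200000000000000) (.op 4 0 (.op 4 0 (.xor 26 0 (.focus 0 (.cons [3] 0 0 (.base (nat_lit 80) (.op 4 31 (.op 4 0 (.op 4 0 (.op 4 0 (.op 4 0 (.op 4 0 (.op 4 0 (.op 4 0 (.op 4 0 (.op 4 0 (.and 10 0 (.dead0 0))))))))))))) (.cons [2] 0 0 (.op 23 0 (.and 1 0 (.dead0 0))) (.cons [4] 0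 0 (.base (nat_lit 80) (.op 4 31 (.op 4 0 (.op 4 0 (.op 4 0 (.op 4 0 (.op 4 0 (.op 4 0 (.op 4 0 (.op 4 0 (.op 4 0 (.and 10 0 (.dead0 0))))))))))))) (.cons [1] 0 0 (.focus 2 (.cons [] 0 0 (.base (nat_lit 0x1000000000) (.op 7 1 (.op 7 0 (.op 7 0 (.op 7 0 (.op 7 0 (.and 5 0 (.dead0 0)))))))) .nil)) (.cons [1, 3] 0 0 (.op 23 0 (.and 1 0 (.dead0 0))) (.cons [1, 4] 0 0 (.op 23 0 (.and 1 0 (.dead0 0))) (.cons [2, 3] 0 0 (.op 20 0 (.and 1 0 (.dead0 0))) (.cons [2, 4] 0 0 (.op 20 0 (.and 1 0 (.dead0 0))) (.cons [5, 2] 0 0 (.op 23 0 (.and 1 0 (.dead0 0))) (.cons [5, 1] 0 0 (.focus 2 (.cons [1] 0 0 (.base (nat_lit 0x1000000000) (.op 4 32 (.op 4 0 (.op 4 0 (.op 4 0 (.op 4 0 (.and 5 0 (.dead0 0)))))))) .nil)) (.cons [2, 3, 2] 0 0 (.base (nat_lit 80) (.op 4 31 (.op 4 0 (.op 4 0 (.op 4 0 (.op 4 0 (.op 4 0 (.op 4 0 (.op 4 0 (.op 4 0 (.op 4 0 (.and 10 0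 (.dead0 0))))))))))))) (.cons [4, 1, 3] 0 0 (.base (nat_lit 80) (.op 4 31 (.op 4 0 (.op 4 0 (.op 4 0 (.op 4 0 (.op 4 0 (.op 4 0 (.op 4 0 (.op 4 0 (.op 4 0 (.and 10 0 (.dead0 0))))))))))))) (.cons [1, 4, 1] 0 0 (.op 20 0 (.and 1 0 (.dead0 0))) (.cons [1, 3, 1] 0 0 (.op 20 0 (.and 1 0 (.dead0 0))) (.cons [2, 4, 1] 0 0 (.base (nat_lit 80) (.op 7 1 (.op 7 0 (.op 7 0 (.op 7 0 (.op 7 0 (.and 5 0 (.dead0 0)))))))) (.cons [2, 3, 1] 0 0 (.base (nat_lit 80) (.op 7 1 (.op 7 0 (.op 7 0 (.op 7 0 (.op 7 0 (.and 5 0 (.dead0 0)))))))) .nil)))))))))))))))))))))))))))))))))))))))))))))))))))))) (.cons [4, 2] 4 0 (.op 20 0 (.and 1 0 (.dead0 0))) (.cons [3, 2] 4 0 (.op 20 0 (.and 1 0 (.dead0 0))) .nil)))))))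
noncomputable def n40bK : List (List Nat) := [[5], [1, 4, 2, 3, 2, 3, 1, 1, 3, 2, 2, 2, 4, 2, 4, 2, 3, 2, 3], [2, 2, 2, 4, 2, 3, 2, 3, 2, 4, 2, 4, 2, 3, 2, 3]]
noncomputable def n40bF : List (List Nat) := [[], [1], [1, 1], [1, 1, 1, 1], [1, 1, 1, 1, 1], [1, 1, 1, 1, 1, 1, 1, 1], [1, 1, 1, 1, 1, 1, 1, 1, 1, 1], [1, 1, 1, 1, 1, 1, 1, 1, 1, 1, 1, 1, 1, 1, 1, 1, 1, 1, 1, 1]]

end CF.J4F
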