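import Cfsg.Agent.J4F.MyD
import Cfsg.Agent.J4F.My1

/-! Checks of conjugates. -/

set_option autoImplicit false
set_option maxRecDepth 1000000
set_option maxHeartbeats 0
set_option Elab.async false

namespace CF.J4F

open CF.Comp CF.Bt CF.Dce CF.Dce.J4

theorem kralt : lall (bkOK mL eL (full 12544) MyE racs raas racs rahs [439] rabi) ralt = true := by decide +kernel

theorem kraln : lall (bkOK mL eL (full 12544) MyE racs raas [] rahs [439] rabi) raln = true := by decide +kernel

theorem kramt : lall (bkOK mL eL (full 12544) MyE rads rabs rads rahs [425] rabi) ramt = true := by decide +kernel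

theorem kramn : lall (bkOK mL eL (full 12544) MyE rads rabs [] rahs [425] rabi) ramn = true := by decide +kernel

theorem kra : cntOK (eqM mL eL (full 12544) MyE) racs raas rads rabs rahs [439] [425] ralt raln ramt ramn 26880 1 30 = true := by decide +kernel

theorem krblt : lall (bkOK mL eL (full 12544) MyE rbcs rbas rbcs rbhs [385] rbbi) rblt = true := by decide +kernel

theorem krbln : lall (bkOK mL eL (full 12544) MyE rbcs rbas [] rbhs [385] rbbi) rbln = true := by decide +kernel

theorem krbmt : lall (bkOK mL eL (full 12544) MyE rbds rbbs rbds rbhs [455] rbbi) rbmt = true := by decide +kernel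

theorem krbmn : lall (bkOK mL eL (full 12544) MyE rbds rbbs [] rbhs [455] rbbi) rbmn = true := by decide +kernel

theorem krb : cntOK (eqM mL eL (full 12544) MyE) rbcs rbas rbds rbbs rbhs [385] [455] rblt rbln rbmt rbmn 2420 1 110 = true := by decide +kernel

theorem krclt : lall (bkOK mL eL (full 12544) MyE rccs rcas rccs rchs [469] rcbi) rclt = true := by decide +kernel

theorem krcln : lall (bkOK mL eL (full 12544) MyE rccs rcas [] rchs [469] rcbi) rcln = true := by decide +kernel

theorem krcmt : lall (bkOK mL eL (full 12544) MyE rcds rcbs rcds rchs [455] rcbi) rcmt = true := by decide +kernel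

theorem krcmn : lall (bkOK mL eL (full 12544) MyE rcds rcbs [] rchs [455] rcbi) rcmn = true := by decide +kernel

theorem krc : cntOK (eqM mL eL (full 12544) MyE) rccs rcas rcds rcbs rchs [469] [455] rclt rcln rcmt rcmn 2520 1 42 = true := by decide +kernel

theorem krdlt : lall (bkOK mL eL (full 12544) MyE rdcs rdas rdcs rdhs [241, 237] rdbi) rdlt = true := by decide +kernel

theorem krdln : lall (bkOK mL eL (full 12544) MyE rdcs rdas [] rdhs [241, 237] rdbi) rdln = true := by decide +kernel

theorem krdmt : lall (bkOK mL eL (full 12544) MyE rdds rdbs rdds rdhs [173] rdbi) rdmt = true := by decide +kernel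

theorem krdmn : lall (bkOK mL eL (full 12544) MyE rdds rdbs [] rdhs [173] rdbi) rdmn = true := by decide +kernel

theorem krd : cntOK (eqM mL eL (full 12544) MyE) rdcs rdas rdds rdbs rdhs [241, 237] [173] rdlt rdln rdmt rdmn 2420 1 44 = true := by decide +kernel

theorem krelt : lall (bkOK mL eL (full 12544) MyE recs reas recs rehs [495] rebi) relt = true := by decide +kernel

theorem kreln : lall (bkOK mL eL (full 12544) MyE recs reas [] rehs [495] rebi) reln = true := by decide +kernel

theorem kremt : lall (bkOK mL eL (full 12544) MyE reds rebs reds rehs [483] rebi) remt = true := by decide +kernel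

theorem kremn : lall (bkOK mL eL (full 12544) MyE reds rebs [] rehs [483] rebi) remn = true := by decide +kernel

theorem kre : cntOK (eqM mL eL (full 12544) MyE) recs reas reds rebs rehs [495] [483] relt reln remt remn 2520 1 21 = true := by decide +kernel

theorem krflt : lall (bkOK mL eL (full 12544) MyE rfcs rfas rfcs rfhs [481] rfbi) rflt = true := by decide +kernel

theorem krfln : lall (bkOK mL eL (full 12544) MyE rfcs rfas [] rfhs [481] rfbi) rfln = true := by decide +kernel

theorem krfmt : lall (bkOK mL eL (full 12544) MyE rfds rfbs rfds rfhs [483] rfbi) rfmt = true := by decide +kernel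

theorem krfmn : lall (bkOK mL eL (full 12544) MyE rfds rfbs [] rfhs [483] rfbi) rfmn = true := by decide +kernel

theorem krf : cntOK (eqM mL eL (full 12544) MyE) rfcs rfas rfds rfbs rfhs [481] [483] rflt rfln rfmt rfmn 5120 1 16 = true := by decide +kernel


end CF.J4F
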