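import Cfsg.Agent.Bt.Defs
import Cfsg.Agent.Dce.J4.Mat

/-! Data for the normaliser of the special group of order `2 ^ 15`. -/

set_option autoImplicit false
set_option maxRecDepth 1000000
set_option maxHeartbeats 0
set_option Elab.async false

namespace CF.J4F

open CF.Comp CF.Bt CF.Dce CF.Dce.J4

noncomputable def PfV : List Nat := [(nat_lit 27),
  (nat_lit 10),
  (nat_lit 12),
  (nat_lit 0),
  (nat_lit 30),
  (nat_lit 24),
  (nat_lit 18),
  (nat_lit 10),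
  (nat_lit 24),
  (nat_lit 12),
  (nat_lit 6),
  (nat_lit 10),
  (nat_lit 30),
  (nat_lit 0),
  (nat_lit 0),
  (nat_lit 0),
  (nat_lit 30),
  (nat_lit 0),
  (nat_lit 30),
  (nat_lit 30),
  (nat_lit 0),
  (nat_lit 0),
  (nat_lit 30),
  (nat_lit 0),
  (nat_lit 0),
  (nat_lit 30),
  (nat_lit 0),
  (nat_lit 30),
  (nat_lit 0),
  (nat_lit 0),
  (nat_lit 30),
  (nat_lit 30),
  (nat_lit 30),
  (nat_lit 0),
  (nat_lit 30),
  (nat_lit 0),
  (nat_lit 30),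
  (nat_lit 0),
  (nat_lit 0),
  (nat_lit 0),
  (nat_lit 0),
  (nat_lit 30),
  (nat_lit 30),
  (nat_lit 30),
  (nat_lit 30),
  (nat_lit 30),
  (nat_lit 30),
  (nat_lit 30),
  (nat_lit 30),
  (nat_lit 30),
  (nat_lit 30),
  (nat_lit 0),
  (nat_lit 0),
  (nat_lit 0),
  (nat_lit 0),
  (nat_lit 30),
  (nat_lit 30),
  (nat_lit 30),
  (nat_lit 0),
  (nat_lit 30),
  (nat_lit 0),
  (nat_lit 0),
  (nat_lit 0),
  (nat_lit 30),
  (nat_lit 30),
  (nat_lit 30),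
  (nat_lit 30),
  (nat_lit 0),
  (nat_lit 0),
  (nat_lit 0),
  (nat_lit 30),
  (nat_lit 30),
  (nat_lit 0),
  (nat_lit 0),
  (nat_lit 0),
  (nat_lit 30),
  (nat_lit 30),
  (nat_lit 30),
  (nat_lit 30),
  (nat_lit 30),
  (nat_lit 0),
  (nat_lit 0),
  (nat_lit 30),
  (nat_lit 0),
  (nat_lit 0),
  (nat_lit 0),
  (nat_lit 0),
  (nat_lit 0),
  (nat_lit 30),
  (nat_lit 0),
  (nat_lit 30),
  (nat_lit 30),
  (nat_lit 0),
  (nat_lit 30),
  (nat_lit 0),
  (nat_lit 0),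
  (nat_lit 0),
  (nat_lit 0),
  (nat_lit 0),
  (nat_lit 0),
  (nat_lit 30),
  (nat_lit 0),
  (nat_lit 30),
  (nat_lit 30),
  (nat_lit 30),
  (nat_lit 0),
  (nat_lit 0),
  (nat_lit 0),
  (nat_lit 0),
  (nat_lit 0),
  (nat_lit 0),
  (nat_lit 0)]
noncomputable def PfS : Net := (Net.cons (nat_lit 1) (nat_lit 4) (Net.cons (nat_lit 2) (nat_lit 1) (Net.cons (nat_lit 4) (nat_lit 1) (Net.cons (nat_lit 2) (nat_lit 3) (Net.cons (nat_lit 1) (nat_lit 1) Net.nil)))))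
noncomputable def PfN_0 : Net := Net.nil
noncomputable def PfN_1 : Net := Net.nil
noncomputable def PfN_2 : Net := Net.nil
noncomputable def PfN_3 : Net := (Net.cons (nat_lit 1) (nat_lit 4) (Net.cons (nat_lit 4) (nat_lit 1) (Net.cons (nat_lit 2) (nat_lit 1) (Net.cons (nat_lit 1) (nat_lit 1) Net.nil))))
noncomputable def PfN_4 : Net := (Net.cons (nat_lit 1) (nat_lit 1) Net.nil)
noncomputable def PfN_5 : Net := (Net.cons (nat_lit 1) (nat_lit 4) (Net.cons (nat_lit 2) (nat_lit 1) (Net.cons (nat_lit 4) (nat_lit 1) (Net.cons (nat_lit 2) (nat_lit 3) Net.nil))))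
noncomputable def PfN_6 : Net := Net.nil
noncomputable def PfN_7 : Net := Net.nil
noncomputable def PfN_8 : Net := Net.nil
noncomputable def PfN_9 : Net := Net.nil
noncomputable def PfN_10 : Net := Net.nil
noncomputable def PfN_11 : Net := Net.nil
noncomputable def PfN_12 : Net := Net.nil
noncomputable def PfN_13 : Net := Net.nil
noncomputable def PfN_14 : Net := Net.nil
noncomputable def PfN_15 : Net := Net.nil
noncomputable def PfN_16 : Net := Net.nil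
noncomputable def PfN_17 : Net := Net.nil
noncomputable def PfN_18 : Net := Net.nil
noncomputable def PfN_19 : Net := Net.nil
noncomputable def PfN_20 : Net := Net.nil
noncomputable def PfN_21 : Net := Net.nil
noncomputable def PfN : List Net := [PfN_0, PfN_1, PfN_2, PfN_3, PfN_4, PfN_5, PfN_6, PfN_7, PfN_8, PfN_9, PfN_10, PfN_11, PfN_12, PfN_13, PfN_14, PfN_15, PfN_16, PfN_17, PfN_18, PfN_19, PfN_20, PfN_21]
noncomputable def PfT : List (List Nat) := [[259], [261], [287], [285], [245], [303], [263], [7], [269], [271], [273], [275], [277], [279], [281], [283], [247], [249], [251], [253], [255], [257]]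
noncomputable def PfC : List Lvl := [⟨0, [[8]], 4⟩, ⟨1, [[9, 8]], 3⟩, ⟨2, [[7, 9, 8, 9, 7]], 2⟩, ⟨3, [[7, 9, 7, 7, 9, 7, 7, 9, 7]], 1⟩]
noncomputable def NLu : List (List (List Nat)) := [[[5], [1], [3, 1], [17, 9, 7, 3], [13, 9, 7, 3], [13, 7, 3, 1], [17, 11, 7, 5, 3], [7], [15, 13, 9, 7, 1], [29, 23, 19], [27, 25, 21, 19], [29, 27, 23, 19], [25, 23, 21], [27, 25, 23, 21, 19], [29, 25]], [[5], [3], [1], [7], [17, 15, 9, 7, 5, 3, 1], [15, 13, 9, 7, 5, 1], [17, 15, 13, 7, 3], [13, 11, 9, 7], [17, 15, 13, 11, 9, 7], [19], [21], [25], [23], [29, 21], [27, 21]], [[5], [3], [1], [7], [17, 15, 9, 7, 3], [15, 13, 9, 7, 1], [17, 15, 13, 7, 3], [13, 11, 9, 7, 5], [17, 15, 13, 11, 9, 7, 5], [19, 5, 1], [21, 5, 1], [25, 1], [23, 5], [29, 21, 1], [27, 21, 1]], [[1], [3], [5], [19, 17, 15, 7, 5], [29, 27, 23, 17, 13, 11, 7, 5], [29, 25, 23, 19, 17, 15, 7, 5, 3], [29, 27, 23, 21, 19, 13, 1], [27, 25,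 23, 19, 17, 11, 7, 1], [27, 17, 11, 7, 5, 3], [21, 15, 11, 7, 5, 3], [19, 17, 15, 13, 9, 5, 1], [27, 17, 15, 9, 7, 5], [29, 21, 9, 3, 1], [23, 15, 13, 7, 5, 1], [25, 19, 13, 11, 7]], [[1], [3], [5], [21, 7, 5, 1], [27, 25, 23, 19, 9, 3, 1], [29, 27, 25, 19, 11, 3], [27, 25, 23, 21, 13], [29, 27, 23, 15, 3, 1], [23, 17, 5, 3], [19], [21], [23], [25], [27], [29]], [[1], [3], [5], [15, 11, 7, 5], [17, 11, 9, 7, 5, 3], [17, 13, 7, 5, 3], [13], [17, 15, 13, 11, 7, 5, 3], [15, 13, 7, 3], [29, 27, 21, 19, 15, 11, 7], [25, 23, 21, 19, 17, 15, 13, 9, 3], [29, 25, 17, 15, 9, 7, 5, 3, 1], [27, 23, 21, 9, 1], [29, 25, 23, 21, 19, 15, 13, 7, 5, 3, 1], [27, 21, 13, 11, 7, 5]], [[3], [5, 3, 1], [5], [15, 9, 7, 5], [15, 13, 11, 9, 5], [17, 11, 9, 5, 3], [15, 11, 5], [17, 15, 13, 9, 5, 3], [15, 5, 3, 1], [29, 25], [29, 25, 21, 19], [29, 27, 23], [25, 23, 21, 19], [27, 25, 23, 19], [27, 25, 21]]]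

end CF.J4F
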