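import Cfsg.Agent.Bt.Defs

/-! Data for elements of prime order in `M₂₄`. -/

set_option autoImplicit false
set_option maxRecDepth 1000000
set_option maxHeartbeats 0
set_option Elab.async false

namespace CF.J4F

open CF.Comp CF.Bt

noncomputable def K3_1 : Tr := (.focus 1 (.xor 2 0 (.focus 0 (.base (nat_lit 16777212) (.op 4 0 (.focus 0 (.sym [[3]] (.cons [] 2 0 (.op 4 0 (.focus 0 (.cons [6, 3] 0 0 (.focus 5 (.focus 7 (.xor 8 0 (.focus 0 (.xor 9 3 (.focus 0 (.base (nat_lit 16777200) (.op 4 0 (.focus 0 (.cons [3] 0 0 (.base (nat_lit 16771936) (.op 4 6 (.and 1 0 (.dead0 0)))) (.cons [4] 0 0 (.base (nat_lit 16771936) (.op 4 6 (.and 1 0 (.dead0 0)))) (.cons [1] 0 0 (.base (nat_lit 16771936) (.op 4 1 (.and 1 0 (.dead0 0)))) (.cons [2] 0 0 (.base (nat_lit 16771936) (.op 4 6 (.and 1 0 (.dead0 0)))) (.cons [5, 4] 0 0 (.base (nat_lit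 16771936) (.op 4 6 (.and 1 0 (.dead0 0)))) (.cons [6, 1] 0 0 (.op 4 0 (.and 0 12 (.dead0 0))) (.cons [4, 1] 0 0 (.base (nat_lit 16771936) (.op 4 12 (.and 1 0 (.dead0 0)))) (.cons [1, 4] 0 0 (.base (nat_lit 16771936) (.op 4 6 (.and 1 0 (.dead0 0)))) (.cons [2, 3] 0 0 (.base (nat_lit 16771936) (.op 4 12 (.and 1 0 (.dead0 0)))) (.cons [4, 4] 0 0 (.base (nat_lit 16771936) (.op 4 6 (.and 1 0 (.dead0 0)))) (.cons [8, 1] 0 0 (.base (nat_lit 16771936) (.op 4 6 (.and 1 0 (.dead0 0)))) (.cons [10, 1] 0 0 (.base (nat_lit 16771936) (.op 4 6 (.and 1 0 (.dead0 0)))) (.cons [9, 4] 0 0 (.base (nat_lit 16771936) (.op 4 6 (.and 1 0 (.dead0 0)))) (.cons [9, 3] 0 0 (.base (nat_lit 16771936) (.op 4 1 (.and 1 0 (.dead0 0)))) (.cons [9, 1] 0 0 (.base (nat_lit 16771936) (.op 4 6 (.and 1 0 (.dead0 0)))) (.cons [7, 1] 0 0 (.op 4 0 (.and 0 15 (.dead0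 0))) (.cons [3, 6, 1] 0 0 (.base (nat_lit 16771936) (.op 4 1 (.and 1 0 (.dead0 0)))) .nil)))))))))))))))))))))))))) .nil))) (.cons [4] 2 0 (.op 4 0 (.focus 0 (.cons [6, 2] 0 0 (.focus 5 (.focus 7 (.xor 8 0 (.focus 0 (.xor 9 3 (.focus 0 (.base (nat_lit 16777200) (.op 4 0 (.focus 0 (.cons [] 0 0 (.base (nat_lit 16771936) (.op 4 1 (.and 1 0 (.dead0 0)))) (.cons [2] 0 0 (.op 4 0 (.and 0 12 (.dead0 0))) (.cons [1] 0 0 (.base (nat_lit 16771936) (.op 4 12 (.and 1 0 (.dead0 0)))) (.cons [4] 0 0 (.base (nat_lit 16771936) (.op 4 6 (.and 1 0 (.dead0 0)))) (.cons [5, 4] 0 0 (.base (nat_lit 16771936) (.op 4 6 (.and 1 0 (.dead0 0)))) (.cons [5, 1] 0 0 (.base (nat_lit 16771936) (.op 4 12 (.and 1 0 (.dead0 0)))) (.cons [2, 3] 0 0 (.base (nat_lit 16771936) (.op 4 6 (.and 1 0 (.dead0 0)))) (.cons [9, 4] 0 0 (.base (nat_lit 16771936) (.op 4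 6 (.and 1 0 (.dead0 0)))) (.cons [4, 4] 0 0 (.base (nat_lit 16771936) (.op 4 6 (.and 1 0 (.dead0 0)))) (.cons [9, 1] 0 0 (.base (nat_lit 16771936) (.op 4 6 (.and 1 0 (.dead0 0)))) (.cons [4, 1] 0 0 (.base (nat_lit 16771936) (.op 4 6 (.and 1 0 (.dead0 0)))) (.cons [8, 1] 0 0 (.base (nat_lit 16771936) (.op 4 6 (.and 1 0 (.dead0 0)))) (.cons [7, 1] 0 0 (.base (nat_lit 16771936) (.op 4 1 (.and 1 0 (.dead0 0)))) (.cons [10, 1] 0 0 (.base (nat_lit 16771936) (.op 4 6 (.and 1 0 (.dead0 0)))) (.cons [1, 4] 0 0 (.op 4 0 (.and 0 15 (.dead0 0))) (.cons [3, 6, 1] 0 0 (.base (nat_lit 16771936) (.op 4 6 (.and 1 0 (.dead0 0)))) (.cons [5, 2, 3] 0 0 (.base (nat_lit 16771936) (.op 4 6 (.and 1 0 (.dead0 0)))) .nil)))))))))))))))))))))))))) .nil))) (.cons [2] 2 0 (.op 4 0 (.focus 0 (.cons [14, 4] 0 0 (.focus 5 (.focus 7 (.xor 8 0 (.focus 0 (.xor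 9 3 (.focus 0 (.base (nat_lit 16777200) (.op 4 0 (.focus 0 (.cons [] 0 0 (.base (nat_lit 16771936) (.op 4 12 (.and 1 0 (.dead0 0)))) (.cons [2] 0 0 (.base (nat_lit 16771936) (.op 4 6 (.and 1 0 (.dead0 0)))) (.cons [1] 0 0 (.base (nat_lit 16771936) (.op 4 6 (.and 1 0 (.dead0 0)))) (.cons [4] 0 0 (.op 4 0 (.and 0 15 (.dead0 0))) (.cons [6, 1] 0 0 (.base (nat_lit 16771936) (.op 4 6 (.and 1 0 (.dead0 0)))) (.cons [8, 1] 0 0 (.op 4 0 (.and 0 12 (.dead0 0))) (.cons [4, 1] 0 0 (.base (nat_lit 16771936) (.op 4 12 (.and 1 0 (.dead0 0)))) (.cons [1, 4] 0 0 (.base (nat_lit 16771936) (.op 4 6 (.and 1 0 (.dead0 0)))) (.cons [7, 1] 0 0 (.base (nat_lit 16771936) (.op 4 6 (.and 1 0 (.dead0 0)))) (.cons [9, 3] 0 0 (.base (nat_lit 16771936) (.op 4 6 (.and 1 0 (.dead0 0)))) (.cons [9, 4] 0 0 (.base (nat_lit 16771936) (.op 4 1 (.and 1 0 (.dead0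 0)))) (.cons [9, 1] 0 0 (.base (nat_lit 16771936) (.op 4 6 (.and 1 0 (.dead0 0)))) (.cons [5, 1] 0 0 (.base (nat_lit 16771936) (.op 4 6 (.and 1 0 (.dead0 0)))) (.cons [5, 4] 0 0 (.base (nat_lit 16771936) (.op 4 6 (.and 1 0 (.dead0 0)))) (.cons [4, 4] 0 0 (.base (nat_lit 16771936) (.op 4 6 (.and 1 0 (.dead0 0)))) (.cons [10, 1] 0 0 (.base (nat_lit 16771936) (.op 4 6 (.and 1 0 (.dead0 0)))) (.cons [3, 6, 1] 0 0 (.base (nat_lit 16771936) (.op 4 6 (.and 1 0 (.dead0 0)))) .nil)))))))))))))))))))))))))) .nil))) (.cons [3] 2 0 (.op 4 0 (.focus 0 (.cons [13, 2] 0 0 (.focus 5 (.focus 7 (.xor 8 0 (.focus 0 (.xor 9 3 (.focus 0 (.base (nat_lit 16777200) (.op 4 0 (.focus 0 (.cons [] 0 0 (.base (nat_lit 16771936) (.op 4 6 (.and 1 0 (.dead0 0)))) (.cons [1] 0 0 (.base (nat_lit 16771936) (.op 4 6 (.and 1 0 (.dead0 0)))) (.cons [2] 0 0 (.op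 4 0 (.and 0 15 (.dead0 0))) (.cons [9, 4] 0 0 (.base (nat_lit 16771936) (.op 4 6 (.and 1 0 (.dead0 0)))) (.cons [9, 1] 0 0 (.op 4 0 (.and 0 12 (.dead0 0))) (.cons [4, 4] 0 0 (.base (nat_lit 16771936) (.op 4 1 (.and 1 0 (.dead0 0)))) (.cons [6, 1] 0 0 (.base (nat_lit 16771936) (.op 4 6 (.and 1 0 (.dead0 0)))) (.cons [9, 3] 0 0 (.base (nat_lit 16771936) (.op 4 6 (.and 1 0 (.dead0 0)))) (.cons [5, 1] 0 0 (.base (nat_lit 16771936) (.op 4 6 (.and 1 0 (.dead0 0)))) (.cons [2, 3] 0 0 (.base (nat_lit 16771936) (.op 4 1 (.and 1 0 (.dead0 0)))) (.cons [1, 4] 0 0 (.base (nat_lit 16771936) (.op 4 6 (.and 1 0 (.dead0 0)))) (.cons [5, 4] 0 0 (.base (nat_lit 16771936) (.op 7 12 (.and 1 0 (.dead0 0)))) (.cons [10, 1] 0 0 (.base (nat_lit 16771936) (.op 4 6 (.and 1 0 (.dead0 0)))) (.cons [4, 1] 0 0 (.base (nat_lit 16771936) (.op 4 6 (.and 1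 0 (.dead0 0)))) (.cons [7, 1] 0 0 (.base (nat_lit 16771936) (.op 4 6 (.and 1 0 (.dead0 0)))) (.cons [3, 6, 1] 0 0 (.base (nat_lit 16771936) (.op 7 12 (.and 1 0 (.dead0 0)))) (.cons [5, 2, 3] 0 0 (.base (nat_lit 16771936) (.op 4 6 (.and 1 0 (.dead0 0)))) .nil)))))))))))))))))))))))))) .nil))) (.cons [1] 0 0 (.op 4 0 (.and 0 8 (.dead0 0))) (.cons [12, 3] 2 0 (.op 4 0 (.focus 0 (.cons [13, 3] 0 0 (.focus 5 (.focus 7 (.xor 8 0 (.focus 0 (.xor 9 3 (.focus 0 (.base (nat_lit 16777200) (.op 4 0 (.focus 0 (.op 7 1 (.focus 0 (.cons [] 0 0 (.base (nat_lit 16771936) (.op 7 13 (.and 1 0 (.dead0 0)))) (.cons [4] 0 0 (.base (nat_lit 16771936) (.op 4 7 (.and 1 0 (.dead0 0)))) (.cons [3] 0 0 (.base (nat_lit 16771936) (.op 4 7 (.and 1 0 (.dead0 0)))) (.cons [2] 0 0 (.base (nat_lit 16771936) (.op 4 7 (.and 1 0 (.dead0 0)))) (.cons [5, 4] 0 0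 (.base (nat_lit 16771936) (.op 4 7 (.and 1 0 (.dead0 0)))) (.cons [9, 1] 0 0 (.base (nat_lit 16771936) (.op 4 7 (.and 1 0 (.dead0 0)))) (.cons [6, 1] 0 0 (.base (nat_lit 16771936) (.op 4 7 (.and 1 0 (.dead0 0)))) (.cons [9, 3] 0 0 (.base (nat_lit 16771936) (.op 4 1 (.and 1 0 (.dead0 0)))) (.cons [4, 4] 0 0 (.base (nat_lit 16771936) (.op 4 7 (.and 1 0 (.dead0 0)))) (.cons [8, 1] 0 0 (.base (nat_lit 16771936) (.op 4 7 (.and 1 0 (.dead0 0)))) (.cons [9, 4] 0 0 (.base (nat_lit 16771936) (.op 4 7 (.and 1 0 (.dead0 0)))) (.cons [5, 1] 0 0 (.base (nat_lit 16771936) (.op 4 7 (.and 1 0 (.dead0 0)))) (.cons [1, 4] 0 0 (.base (nat_lit 16771936) (.op 4 7 (.and 1 0 (.dead0 0)))) (.cons [10, 1] 0 0 (.base (nat_lit 16771936) (.op 4 7 (.and 1 0 (.dead0 0)))) (.cons [5, 2, 3] 0 0 (.base (nat_lit 16771936) (.op 7 13 (.and 1 0 (.dead0 0))))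 .nil)))))))))))))))))))))))))) .nil))) (.cons [11, 2] 0 0 (.op 4 0 (.and 0 5 (.dead0 0))) (.cons [6, 2] 2 0 (.op 4 0 (.focus 0 (.cons [11, 3] 0 0 (.focus 5 (.focus 7 (.xor 8 0 (.focus 0 (.xor 9 3 (.focus 0 (.base (nat_lit 16777200) (.op 4 0 (.focus 0 (.op 7 1 (.focus 0 (.cons [3] 0 0 (.base (nat_lit 16771936) (.op 4 1 (.and 1 0 (.dead0 0)))) (.cons [1] 0 0 (.base (nat_lit 16771936) (.op 4 7 (.and 1 0 (.dead0 0)))) (.cons [2] 0 0 (.base (nat_lit 16771936) (.op 4 7 (.and 1 0 (.dead0 0)))) (.cons [4, 4] 0 0 (.base (nat_lit 16771936) (.op 4 7 (.and 1 0 (.dead0 0)))) (.cons [10, 1] 0 0 (.base (nat_lit 16771936) (.op 4 1 (.and 1 0 (.dead0 0)))) (.cons [9, 4] 0 0 (.base (nat_lit 16771936) (.op 4 7 (.and 1 0 (.dead0 0)))) (.cons [6, 1] 0 0 (.base (nat_lit 16771936) (.op 4 7 (.and 1 0 (.dead0 0)))) (.cons [9, 1] 0 0 (.base (nat_lit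 16771936) (.op 7 13 (.and 1 0 (.dead0 0)))) (.cons [5, 1] 0 0 (.base (nat_lit 16771936) (.op 4 7 (.and 1 0 (.dead0 0)))) (.cons [7, 1] 0 0 (.base (nat_lit 16771936) (.op 4 7 (.and 1 0 (.dead0 0)))) (.cons [2, 3] 0 0 (.base (nat_lit 16771936) (.op 4 7 (.and 1 0 (.dead0 0)))) (.cons [9, 3] 0 0 (.base (nat_lit 16771936) (.op 7 13 (.and 1 0 (.dead0 0)))) (.cons [5, 4] 0 0 (.base (nat_lit 16771936) (.op 4 7 (.and 1 0 (.dead0 0)))) (.cons [8, 1] 0 0 (.base (nat_lit 16771936) (.op 4 7 (.and 1 0 (.dead0 0)))) (.cons [5, 2, 3] 0 0 (.base (nat_lit 16771936) (.op 4 1 (.and 1 0 (.dead0 0)))) .nil)))))))))))))))))))))))))) .nil))) .nil)))))))))))))))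
noncomputable def K3_2 : Tr := (.focus 1 (.xor 2 0 (.focus 0 (.base (nat_lit 16777212) (.op 4 0 (.focus 0 (.sym [[1]] (.cons [] 2 0 (.op 4 0 (.focus 0 (.cons [2] 0 0 (.focus 5 (.focus 7 (.xor 8 0 (.focus 0 (.xor 9 3 (.focus 0 (.base (nat_lit 16777200) (.op 4 0 (.focus 0 (.cons [3] 0 0 (.base (nat_lit 16771936) (.op 7 1 (.and 1 0 (.dead0 0)))) (.cons [1] 0 0 (.base (nat_lit 16771936) (.op 4 1 (.and 1 0 (.dead0 0)))) (.cons [4] 0 0 (.base (nat_lit 16771936) (.op 4 6 (.and 1 0 (.dead0 0)))) (.cons [2] 0 0 (.base (nat_lit 16771936) (.op 4 6 (.and 1 0 (.dead0 0)))) (.cons [1, 4] 0 0 (.base (nat_lit 16771936) (.op 4 6 (.and 1 0 (.dead0 0)))) (.cons [7, 1] 0 0 (.base (nat_lit 16771936) (.op 4 1 (.and 1 0 (.dead0 0)))) (.cons [10, 1] 0 0 (.base (nat_lit 16771936) (.op 4 6 (.and 1 0 (.dead0 0)))) (.cons [8, 1] 0 0 (.base (nat_lit 16771936)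 (.op 4 6 (.and 1 0 (.dead0 0)))) (.cons [9, 1] 0 0 (.base (nat_lit 16771936) (.op 4 6 (.and 1 0 (.dead0 0)))) (.cons [6, 1] 0 0 (.base (nat_lit 16771936) (.op 7 12 (.and 1 0 (.dead0 0)))) (.cons [5, 4] 0 0 (.base (nat_lit 16771936) (.op 4 6 (.and 1 0 (.dead0 0)))) (.cons [2, 3] 0 0 (.base (nat_lit 16771936) (.op 4 6 (.and 1 0 (.dead0 0)))) (.cons [9, 4] 0 0 (.base (nat_lit 16771936) (.op 4 6 (.and 1 0 (.dead0 0)))) (.cons [4, 4] 0 0 (.base (nat_lit 16771936) (.op 4 6 (.and 1 0 (.dead0 0)))) (.cons [9, 3] 0 0 (.op 4 0 (.and 0 15 (.dead0 0))) (.cons [3, 6, 1] 0 0 (.op 4 0 (.and 0 12 (.dead0 0))) (.cons [5, 2, 3] 0 0 (.base (nat_lit 16771936) (.op 4 1 (.and 1 0 (.dead0 0)))) .nil)))))))))))))))))))))))))) .nil))) (.cons [4] 2 0 (.op 4 0 (.focus 0 (.cons [6, 1] 0 0 (.focus 5 (.focus 7 (.xor 8 0 (.focus 0 (.xor 9 3 (.focus 0 (.base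 (nat_lit 16777200) (.op 4 0 (.focus 0 (.cons [] 0 0 (.base (nat_lit 16771936) (.op 4 6 (.and 1 0 (.dead0 0)))) (.cons [4] 0 0 (.op 4 0 (.and 0 12 (.dead0 0))) (.cons [1] 0 0 (.base (nat_lit 16771936) (.op 7 1 (.and 1 0 (.dead0 0)))) (.cons [10, 1] 0 0 (.base (nat_lit 16771936) (.op 4 6 (.and 1 0 (.dead0 0)))) (.cons [5, 1] 0 0 (.base (nat_lit 16771936) (.op 4 1 (.and 1 0 (.dead0 0)))) (.cons [6, 1] 0 0 (.base (nat_lit 16771936) (.op 7 12 (.and 1 0 (.dead0 0)))) (.cons [1, 4] 0 0 (.base (nat_lit 16771936) (.op 4 1 (.and 1 0 (.dead0 0)))) (.cons [9, 1] 0 0 (.base (nat_lit 16771936) (.op 4 6 (.and 1 0 (.dead0 0)))) (.cons [7, 1] 0 0 (.base (nat_lit 16771936) (.op 4 6 (.and 1 0 (.dead0 0)))) (.cons [5, 4] 0 0 (.base (nat_lit 16771936) (.op 4 6 (.and 1 0 (.dead0 0)))) (.cons [4, 1] 0 0 (.base (nat_lit 16771936) (.op 4 1 (.and 1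 0 (.dead0 0)))) (.cons [8, 1] 0 0 (.base (nat_lit 16771936) (.op 4 6 (.and 1 0 (.dead0 0)))) (.cons [4, 4] 0 0 (.base (nat_lit 16771936) (.op 4 6 (.and 1 0 (.dead0 0)))) (.cons [9, 3] 0 0 (.op 4 0 (.and 0 15 (.dead0 0))) (.cons [2, 3] 0 0 (.base (nat_lit 16771936) (.op 4 6 (.and 1 0 (.dead0 0)))) (.cons [5, 2, 3] 0 0 (.base (nat_lit 16771936) (.op 4 6 (.and 1 0 (.dead0 0)))) (.cons [3, 6, 1] 0 0 (.base (nat_lit 16771936) (.op 4 6 (.and 1 0 (.dead0 0)))) .nil)))))))))))))))))))))))))) .nil))) (.cons [3] 2 0 (.op 4 0 (.focus 0 (.cons [14, 3] 0 0 (.focus 5 (.focus 7 (.xor 8 0 (.focus 0 (.xor 9 3 (.focus 0 (.base (nat_lit 16777200) (.op 4 0 (.focus 0 (.cons [] 0 0 (.op 4 0 (.and 0 15 (.dead0 0))) (.cons [4] 0 0 (.op 4 0 (.and 0 12 (.dead0 0))) (.cons [2] 0 0 (.base (nat_lit 16771936) (.op 7 12 (.and 1 0 (.dead0 0)))) (.cons [1]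 0 0 (.base (nat_lit 16771936) (.op 4 6 (.and 1 0 (.dead0 0)))) (.cons [2, 3] 0 0 (.base (nat_lit 16771936) (.op 4 6 (.and 1 0 (.dead0 0)))) (.cons [5, 4] 0 0 (.base (nat_lit 16771936) (.op 4 1 (.and 1 0 (.dead0 0)))) (.cons [10, 1] 0 0 (.base (nat_lit 16771936) (.op 4 1 (.and 1 0 (.dead0 0)))) (.cons [7, 1] 0 0 (.base (nat_lit 16771936) (.op 4 6 (.and 1 0 (.dead0 0)))) (.cons [4, 4] 0 0 (.base (nat_lit 16771936) (.op 4 1 (.and 1 0 (.dead0 0)))) (.cons [1, 4] 0 0 (.base (nat_lit 16771936) (.op 4 6 (.and 1 0 (.dead0 0)))) (.cons [4, 1] 0 0 (.base (nat_lit 16771936) (.op 4 6 (.and 1 0 (.dead0 0)))) (.cons [9, 4] 0 0 (.base (nat_lit 16771936) (.op 4 1 (.and 1 0 (.dead0 0)))) (.cons [5, 1] 0 0 (.base (nat_lit 16771936) (.op 4 6 (.and 1 0 (.dead0 0)))) (.cons [9, 1] 0 0 (.base (nat_lit 16771936) (.op 4 6 (.and 1 0 (.dead0 0))))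 (.cons [9, 3] 0 0 (.base (nat_lit 16771936) (.op 4 6 (.and 1 0 (.dead0 0)))) (.cons [6, 1] 0 0 (.base (nat_lit 16771936) (.op 4 6 (.and 1 0 (.dead0 0)))) (.cons [3, 6, 1] 0 0 (.base (nat_lit 16771936) (.op 7 1 (.and 1 0 (.dead0 0)))) .nil)))))))))))))))))))))))))) .nil))) (.cons [1] 0 0 (.op 4 0 (.and 0 8 (.dead0 0))) (.cons [9, 2] 0 0 (.op 4 0 (.and 0 5 (.dead0 0))) (.cons [12, 2] 2 0 (.op 4 0 (.focus 0 (.cons [10, 1] 0 0 (.focus 5 (.focus 7 (.xor 8 0 (.focus 0 (.xor 9 3 (.focus 0 (.base (nat_lit 16777200) (.op 4 0 (.focus 0 (.cons [] 0 0 (.base (nat_lit 16771936) (.op 4 6 (.and 1 0 (.dead0 0)))) (.cons [3] 0 0 (.base (nat_lit 16771936) (.op 7 1 (.and 1 0 (.dead0 0)))) (.cons [2] 0 0 (.base (nat_lit 16771936) (.op 4 6 (.and 1 0 (.dead0 0)))) (.cons [4] 0 0 (.base (nat_lit 16771936) (.op 4 6 (.and 1 0 (.dead0 0)))) (.cons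 [1] 0 0 (.base (nat_lit 16771936) (.op 4 1 (.and 1 0 (.dead0 0)))) (.cons [5, 4] 0 0 (.op 4 0 (.and 0 12 (.dead0 0))) (.cons [10, 1] 0 0 (.base (nat_lit 16771936) (.op 4 1 (.and 1 0 (.dead0 0)))) (.cons [7, 1] 0 0 (.base (nat_lit 16771936) (.op 4 6 (.and 1 0 (.dead0 0)))) (.cons [5, 1] 0 0 (.base (nat_lit 16771936) (.op 7 12 (.and 1 0 (.dead0 0)))) (.cons [9, 3] 0 0 (.base (nat_lit 16771936) (.op 4 1 (.and 1 0 (.dead0 0)))) (.cons [1, 4] 0 0 (.base (nat_lit 16771936) (.op 4 6 (.and 1 0 (.dead0 0)))) (.cons [2, 3] 0 0 (.base (nat_lit 16771936) (.op 4 6 (.and 1 0 (.dead0 0)))) (.cons [4, 1] 0 0 (.base (nat_lit 16771936) (.op 4 6 (.and 1 0 (.dead0 0)))) (.cons [8, 1] 0 0 (.base (nat_lit 16771936) (.op 4 6 (.and 1 0 (.dead0 0)))) (.cons [9, 1] 0 0 (.base (nat_lit 16771936) (.op 4 6 (.and 1 0 (.dead0 0)))) (.cons [3, 6, 1] 0 0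 (.base (nat_lit 16771936) (.op 4 6 (.and 1 0 (.dead0 0)))) (.cons [5, 2, 3] 0 0 (.op 4 0 (.and 0 15 (.dead0 0))) .nil)))))))))))))))))))))))))) .nil))) (.cons [9, 4] 2 0 (.op 4 0 (.focus 0 (.cons [] 0 0 (.focus 5 (.focus 7 (.xor 8 0 (.focus 0 (.xor 9 3 (.focus 0 (.base (nat_lit 16777200) (.op 4 0 (.focus 0 (.cons [] 0 0 (.base (nat_lit 16771936) (.op 4 6 (.and 1 0 (.dead0 0)))) (.cons [2] 0 0 (.base (nat_lit 16771936) (.op 4 6 (.and 1 0 (.dead0 0)))) (.cons [4] 0 0 (.base (nat_lit 16771936) (.op 4 6 (.and 1 0 (.dead0 0)))) (.cons [1] 0 0 (.base (nat_lit 16771936) (.op 7 12 (.and 1 0 (.dead0 0)))) (.cons [3] 0 0 (.base (nat_lit 16771936) (.op 4 1 (.and 1 0 (.dead0 0)))) (.cons [5, 4] 0 0 (.op 4 0 (.and 0 12 (.dead0 0))) (.cons [10, 1] 0 0 (.base (nat_lit 16771936) (.op 4 1 (.and 1 0 (.dead0 0)))) (.cons [9, 4] 0 0 (.base (nat_lit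 16771936) (.op 4 6 (.and 1 0 (.dead0 0)))) (.cons [2, 3] 0 0 (.base (nat_lit 16771936) (.op 4 6 (.and 1 0 (.dead0 0)))) (.cons [4, 1] 0 0 (.base (nat_lit 16771936) (.op 4 6 (.and 1 0 (.dead0 0)))) (.cons [8, 1] 0 0 (.base (nat_lit 16771936) (.op 4 1 (.and 1 0 (.dead0 0)))) (.cons [5, 1] 0 0 (.base (nat_lit 16771936) (.op 7 1 (.and 1 0 (.dead0 0)))) (.cons [1, 4] 0 0 (.base (nat_lit 16771936) (.op 4 6 (.and 1 0 (.dead0 0)))) (.cons [9, 1] 0 0 (.base (nat_lit 16771936) (.op 4 6 (.and 1 0 (.dead0 0)))) (.cons [7, 1] 0 0 (.base (nat_lit 16771936) (.op 4 6 (.and 1 0 (.dead0 0)))) (.cons [4, 4] 0 0 (.base (nat_lit 16771936) (.op 4 6 (.and 1 0 (.dead0 0)))) (.cons [3, 6, 1] 0 0 (.op 4 0 (.and 0 15 (.dead0 0))) .nil)))))))))))))))))))))))))) .nil))) (.cons [12, 4] 2 0 (.op 4 0 (.focus 0 (.cons [6, 2] 0 0 (.focus 5 (.focus 7 (.xor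 8 0 (.focus 0 (.xor 9 3 (.focus 0 (.base (nat_lit 16777200) (.op 4 0 (.focus 0 (.cons [] 0 0 (.base (nat_lit 16771936) (.op 4 6 (.and 1 0 (.dead0 0)))) (.cons [2] 0 0 (.base (nat_lit 16771936) (.op 7 12 (.and 1 0 (.dead0 0)))) (.cons [1] 0 0 (.base (nat_lit 16771936) (.op 4 1 (.and 1 0 (.dead0 0)))) (.cons [3] 0 0 (.base (nat_lit 16771936) (.op 4 1 (.and 1 0 (.dead0 0)))) (.cons [1, 4] 0 0 (.op 4 0 (.and 0 12 (.dead0 0))) (.cons [5, 1] 0 0 (.base (nat_lit 16771936) (.op 4 6 (.and 1 0 (.dead0 0)))) (.cons [10, 1] 0 0 (.base (nat_lit 16771936) (.op 4 6 (.and 1 0 (.dead0 0)))) (.cons [7, 1] 0 0 (.base (nat_lit 16771936) (.op 4 6 (.and 1 0 (.dead0 0)))) (.cons [5, 4] 0 0 (.base (nat_lit 16771936) (.op 7 1 (.and 1 0 (.dead0 0)))) (.cons [9, 3] 0 0 (.base (nat_lit 16771936) (.op 4 6 (.and 1 0 (.dead0 0)))) (.cons [4, 1] 0 0 (.base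 (nat_lit 16771936) (.op 4 6 (.and 1 0 (.dead0 0)))) (.cons [4, 4] 0 0 (.base (nat_lit 16771936) (.op 4 6 (.and 1 0 (.dead0 0)))) (.cons [6, 1] 0 0 (.base (nat_lit 16771936) (.op 4 1 (.and 1 0 (.dead0 0)))) (.cons [9, 1] 0 0 (.base (nat_lit 16771936) (.op 4 6 (.and 1 0 (.dead0 0)))) (.cons [9, 4] 0 0 (.op 4 0 (.and 0 15 (.dead0 0))) (.cons [5, 2, 3] 0 0 (.base (nat_lit 16771936) (.op 4 6 (.and 1 0 (.dead0 0)))) (.cons [3, 6, 1] 0 0 (.base (nat_lit 16771936) (.op 4 1 (.and 1 0 (.dead0 0)))) .nil)))))))))))))))))))))))))) .nil))) .nil)))))))))))))))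
noncomputable def K3_3 : Tr := (.focus 1 (.xor 2 0 (.focus 0 (.sym [[1]] (.cons [] 2 1 (.op 4 0 (.focus 0 (.cons [] 0 1 (.focus 3 (.focus 5 (.xor 6 0 (.focus 0 (.xor 7 3 (.focus 0 (.base (nat_lit 16777200) (.op 4 0 (.focus 0 (.cons [] 0 1 (.base (nat_lit 16771936) (.focus 0 (.op 4 10 (.focus 0 (.cons [] 0 1 (.base (nat_lit 2162752) (.focus 0 (.cons [] 0 1 .triv (.cons [2] 0 0 (.op 4 17 (.and 0 1 (.dead0 0))) (.cons [1] 0 0 (.op 4 17 (.and 0 1 (.dead0 0))) .nil))))) .nil))))) (.cons [1] 0 0 (.base (nat_lit 16771936) (.op 4 6 (.and 1 0 (.dead0 0)))) (.cons [4] 0 0 (.base (nat_lit 16771936) (.op 4 6 (.and 1 0 (.dead0 0)))) (.cons [2] 0 0 (.base (nat_lit 16771936) (.op 4 6 (.and 1 0 (.dead0 0)))) (.cons [3] 0 0 (.op 4 0 (.and 0 13 (.dead0 0))) (.cons [9, 4] 0 0 (.base (nat_lit 16771936) (.op 4 6 (.and 1 0 (.dead0 0)))) (.cons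 [5, 1] 0 0 (.base (nat_lit 16771936) (.op 4 6 (.and 1 0 (.dead0 0)))) (.cons [4, 1] 0 0 (.base (nat_lit 16771936) (.focus 0 (.op 4 10 (.focus 0 (.cons [1] 0 0 (.base (nat_lit 2162752) (.op 4 4 (.and 1 0 (.dead0 0)))) .nil))))) (.cons [8, 1] 0 0 (.base (nat_lit 16771936) (.op 4 6 (.and 1 0 (.dead0 0)))) (.cons [7, 1] 0 0 (.base (nat_lit 16771936) (.op 4 1 (.and 1 0 (.dead0 0)))) (.cons [4, 4] 0 0 (.base (nat_lit 16771936) (.op 4 6 (.and 1 0 (.dead0 0)))) (.cons [9, 1] 0 0 (.base (nat_lit 16771936) (.op 4 1 (.and 1 0 (.dead0 0)))) (.cons [10, 1] 0 0 (.base (nat_lit 16771936) (.op 4 6 (.and 1 0 (.dead0 0)))) (.cons [9, 3] 0 0 (.base (nat_lit 16771936) (.op 4 6 (.and 1 0 (.dead0 0)))) (.cons [1, 4] 0 0 (.base (nat_lit 16771936) (.op 4 6 (.and 1 0 (.dead0 0)))) (.cons [5, 4] 0 0 (.base (nat_lit 16771936) (.op 4 6 (.and 1 0 (.dead0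 0)))) (.cons [5, 2, 3] 0 0 (.op 4 0 (.and 0 10 (.dead0 0))) .nil)))))))))))))))))))))))))) .nil))) (.cons [4] 2 0 (.op 4 0 (.focus 0 (.cons [4] 0 0 (.focus 3 (.focus 5 (.xor 6 0 (.focus 0 (.xor 7 3 (.focus 0 (.base (nat_lit 16777200) (.op 4 0 (.focus 0 (.cons [] 0 0 (.base (nat_lit 16771936) (.op 4 1 (.and 1 0 (.dead0 0)))) (.cons [3] 0 0 (.base (nat_lit 16771936) (.op 4 13 (.and 1 0 (.dead0 0)))) (.cons [4] 0 0 (.base (nat_lit 16771936) (.op 4 6 (.and 1 0 (.dead0 0)))) (.cons [2] 0 0 (.base (nat_lit 16771936) (.op 4 6 (.and 1 0 (.dead0 0)))) (.cons [9, 1] 0 0 (.base (nat_lit 16771936) (.op 4 6 (.and 1 0 (.dead0 0)))) (.cons [7, 1] 0 0 (.base (nat_lit 16771936) (.op 4 6 (.and 1 0 (.dead0 0)))) (.cons [8, 1] 0 0 (.op 4 0 (.and 0 10 (.dead0 0))) (.cons [4, 4] 0 0 (.base (nat_lit 16771936) (.op 4 6 (.and 1 0 (.dead0 0)))) (.cons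 [9, 4] 0 0 (.base (nat_lit 16771936) (.op 4 6 (.and 1 0 (.dead0 0)))) (.cons [5, 4] 0 0 (.base (nat_lit 16771936) (.op 4 6 (.and 1 0 (.dead0 0)))) (.cons [4, 1] 0 0 (.base (nat_lit 16771936) (.op 4 6 (.and 1 0 (.dead0 0)))) (.cons [2, 3] 0 0 (.base (nat_lit 16771936) (.op 4 6 (.and 1 0 (.dead0 0)))) (.cons [9, 3] 0 0 (.base (nat_lit 16771936) (.op 4 6 (.and 1 0 (.dead0 0)))) (.cons [5, 1] 0 0 (.base (nat_lit 16771936) (.op 4 13 (.and 1 0 (.dead0 0)))) (.cons [1, 4] 0 0 (.op 4 0 (.and 0 13 (.dead0 0))) (.cons [5, 2, 3] 0 0 (.base (nat_lit 16771936) (.op 4 6 (.and 1 0 (.dead0 0)))) (.cons [3, 6, 1] 0 0 (.base (nat_lit 16771936) (.op 4 6 (.and 1 0 (.dead0 0)))) .nil)))))))))))))))))))))))))) .nil))) (.cons [3] 2 0 (.op 4 0 (.focus 0 (.cons [6, 1] 0 0 (.focus 3 (.focus 5 (.xor 6 0 (.focus 0 (.xor 7 3 (.focus 0 (.base (nat_lit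 16777200) (.op 4 0 (.focus 0 (.cons [] 0 0 (.base (nat_lit 16771936) (.op 4 6 (.and 1 0 (.dead0 0)))) (.cons [3] 0 0 (.base (nat_lit 16771936) (.op 4 6 (.and 1 0 (.dead0 0)))) (.cons [1] 0 0 (.base (nat_lit 16771936) (.op 4 6 (.and 1 0 (.dead0 0)))) (.cons [4] 0 0 (.op 4 9 (.focus 0 (.cons [4] 0 0 (.base (nat_lit 2162752) (.op 4 15 (.and 1 0 (.dead0 0)))) .nil))) (.cons [2] 0 0 (.base (nat_lit 16771936) (.op 4 6 (.and 1 0 (.dead0 0)))) (.cons [4, 4] 0 0 (.base (nat_lit 16771936) (.op 4 6 (.and 1 0 (.dead0 0)))) (.cons [1, 4] 0 0 (.op 4 0 (.and 0 10 (.dead0 0))) (.cons [5, 1] 0 0 (.base (nat_lit 16771936) (.op 4 1 (.and 1 0 (.dead0 0)))) (.cons [6, 1] 0 0 (.base (nat_lit 16771936) (.op 4 6 (.and 1 0 (.dead0 0)))) (.cons [10, 1] 0 0 (.base (nat_lit 16771936) (.op 4 6 (.and 1 0 (.dead0 0)))) (.cons [5, 4] 0 0 (.base (nat_lit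 16771936) (.op 4 6 (.and 1 0 (.dead0 0)))) (.cons [9, 3] 0 0 (.op 4 9 (.focus 0 (.cons [5, 1] 0 0 (.base (nat_lit 2162752) (.op 4 15 (.and 1 0 (.dead0 0)))) .nil))) (.cons [7, 1] 0 0 (.base (nat_lit 16771936) (.op 4 6 (.and 1 0 (.dead0 0)))) (.cons [4, 1] 0 0 (.op 4 0 (.and 0 13 (.dead0 0))) (.cons [2, 3] 0 0 (.base (nat_lit 16771936) (.op 4 6 (.and 1 0 (.dead0 0)))) (.cons [5, 2, 3] 0 0 (.base (nat_lit 16771936) (.op 4 6 (.and 1 0 (.dead0 0)))) (.cons [3, 6, 1] 0 0 (.base (nat_lit 16771936) (.op 4 6 (.and 1 0 (.dead0 0)))) .nil)))))))))))))))))))))))))) .nil))) (.cons [12, 3] 0 0 (.op 4 2 (.and 0 1 (.dead0 0))) (.cons [9, 4] 0 0 (.op 4 5 (.and 0 1 (.dead0 0))) (.cons [1, 4] 0 0 (.op 4 0 (.and 0 3 (.dead0 0))) (.cons [9, 2] 2 0 (.op 4 0 (.focus 0 (.cons [11, 3] 0 0 (.focus 3 (.focus 5 (.xor 6 0 (.focus 0 (.xor 7 3 (.focus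 0 (.base (nat_lit 16777200) (.op 4 0 (.focus 0 (.cons [] 0 0 (.base (nat_lit 16771936) (.op 4 6 (.and 1 0 (.dead0 0)))) (.cons [3] 0 0 (.base (nat_lit 16771936) (.op 4 6 (.and 1 0 (.dead0 0)))) (.cons [4] 0 0 (.base (nat_lit 16771936) (.op 4 1 (.and 1 0 (.dead0 0)))) (.cons [1] 0 0 (.base (nat_lit 16771936) (.op 4 6 (.and 1 0 (.dead0 0)))) (.cons [2] 0 0 (.op 4 0 (.and 0 13 (.dead0 0))) (.cons [4, 4] 0 0 (.op 4 9 (.focus 0 (.cons [2] 0 0 (.base (nat_lit 2162752) (.op 4 3 (.and 1 0 (.dead0 0)))) .nil))) (.cons [6, 1] 0 0 (.base (nat_lit 16771936) (.op 4 1 (.and 1 0 (.dead0 0)))) (.cons [9, 4] 0 0 (.op 4 0 (.and 0 10 (.dead0 0))) (.cons [7, 1] 0 0 (.op 4 9 (.focus 0 (.cons [3, 1, 3] 0 0 (.base (nat_lit 10496) (.op 7 3 (.and 1 0 (.dead0 0)))) .nil))) (.cons [9, 1] 0 0 (.base (nat_lit 16771936) (.op 4 6 (.and 1 0 (.dead0 0))))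 (.cons [4, 1] 0 0 (.base (nat_lit 16771936) (.op 4 6 (.and 1 0 (.dead0 0)))) (.cons [1, 4] 0 0 (.base (nat_lit 16771936) (.op 4 6 (.and 1 0 (.dead0 0)))) (.cons [5, 4] 0 0 (.base (nat_lit 16771936) (.op 4 1 (.and 1 0 (.dead0 0)))) (.cons [8, 1] 0 0 (.base (nat_lit 16771936) (.op 4 6 (.and 1 0 (.dead0 0)))) (.cons [9, 3] 0 0 (.base (nat_lit 16771936) (.op 4 6 (.and 1 0 (.dead0 0)))) (.cons [5, 1] 0 0 (.base (nat_lit 16771936) (.op 4 6 (.and 1 0 (.dead0 0)))) (.cons [5, 2, 3] 0 0 (.base (nat_lit 16771936) (.op 4 6 (.and 1 0 (.dead0 0)))) .nil)))))))))))))))))))))))))) .nil))) (.cons [8, 2] 2 0 (.op 4 0 (.focus 0 (.cons [6, 3] 0 0 (.focus 3 (.focus 5 (.xor 6 0 (.focus 0 (.xor 7 3 (.focus 0 (.base (nat_lit 16777200) (.op 4 0 (.focus 0 (.cons [] 0 0 (.base (nat_lit 16771936) (.op 4 13 (.and 1 0 (.dead0 0)))) (.cons [2] 0 0 (.base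 (nat_lit 16771936) (.op 4 6 (.and 1 0 (.dead0 0)))) (.cons [1] 0 0 (.op 4 0 (.and 0 10 (.dead0 0))) (.cons [3] 0 0 (.base (nat_lit 16771936) (.op 4 6 (.and 1 0 (.dead0 0)))) (.cons [7, 1] 0 0 (.base (nat_lit 16771936) (.op 4 1 (.and 1 0 (.dead0 0)))) (.cons [4, 4] 0 0 (.base (nat_lit 16771936) (.op 4 6 (.and 1 0 (.dead0 0)))) (.cons [9, 4] 0 0 (.base (nat_lit 16771936) (.op 4 6 (.and 1 0 (.dead0 0)))) (.cons [9, 1] 0 0 (.base (nat_lit 16771936) (.op 4 1 (.and 1 0 (.dead0 0)))) (.cons [6, 1] 0 0 (.base (nat_lit 16771936) (.op 4 6 (.and 1 0 (.dead0 0)))) (.cons [2, 3] 0 0 (.base (nat_lit 16771936) (.op 4 13 (.and 1 0 (.dead0 0)))) (.cons [1, 4] 0 0 (.base (nat_lit 16771936) (.op 4 6 (.and 1 0 (.dead0 0)))) (.cons [5, 4] 0 0 (.base (nat_lit 16771936) (.op 4 6 (.and 1 0 (.dead0 0)))) (.cons [10, 1] 0 0 (.base (nat_lit 16771936)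 (.op 4 6 (.and 1 0 (.dead0 0)))) (.cons [8, 1] 0 0 (.base (nat_lit 16771936) (.op 4 6 (.and 1 0 (.dead0 0)))) (.cons [5, 1] 0 0 (.base (nat_lit 16771936) (.op 4 6 (.and 1 0 (.dead0 0)))) (.cons [9, 3] 0 0 (.op 4 0 (.and 0 13 (.dead0 0))) (.cons [3, 6, 1] 0 0 (.base (nat_lit 16771936) (.op 4 1 (.and 1 0 (.dead0 0)))) .nil)))))))))))))))))))))))))) .nil))) (.cons [12, 4] 2 0 (.op 4 0 (.focus 0 (.cons [10, 3] 0 0 (.focus 3 (.focus 5 (.xor 6 0 (.focus 0 (.xor 7 3 (.focus 0 (.base (nat_lit 16777200) (.op 4 0 (.focus 0 (.cons [] 0 0 (.op 4 0 (.and 0 10 (.dead0 0))) (.cons [3] 0 0 (.base (nat_lit 16771936) (.op 4 1 (.and 1 0 (.dead0 0)))) (.cons [1] 0 0 (.base (nat_lit 16771936) (.op 4 6 (.and 1 0 (.dead0 0)))) (.cons [4] 0 0 (.base (nat_lit 16771936) (.op 4 1 (.and 1 0 (.dead0 0)))) (.cons [1, 4] 0 0 (.base (nat_lit 16771936) (.op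 4 6 (.and 1 0 (.dead0 0)))) (.cons [9, 3] 0 0 (.base (nat_lit 16771936) (.op 4 6 (.and 1 0 (.dead0 0)))) (.cons [7, 1] 0 0 (.base (nat_lit 16771936) (.op 4 6 (.and 1 0 (.dead0 0)))) (.cons [5, 1] 0 0 (.base (nat_lit 16771936) (.op 4 6 (.and 1 0 (.dead0 0)))) (.cons [5, 4] 0 0 (.base (nat_lit 16771936) (.op 4 13 (.and 1 0 (.dead0 0)))) (.cons [10, 1] 0 0 (.base (nat_lit 16771936) (.op 4 6 (.and 1 0 (.dead0 0)))) (.cons [4, 1] 0 0 (.base (nat_lit 16771936) (.op 4 6 (.and 1 0 (.dead0 0)))) (.cons [9, 4] 0 0 (.base (nat_lit 16771936) (.op 4 6 (.and 1 0 (.dead0 0)))) (.cons [6, 1] 0 0 (.base (nat_lit 16771936) (.op 4 6 (.and 1 0 (.dead0 0)))) (.cons [4, 4] 0 0 (.op 4 0 (.and 0 13 (.dead0 0))) (.cons [9, 1] 0 0 (.base (nat_lit 16771936) (.op 4 6 (.and 1 0 (.dead0 0)))) (.cons [3, 6, 1] 0 0 (.base (nat_lit 16771936) (.op 4 13 (.and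 1 0 (.dead0 0)))) (.cons [5, 2, 3] 0 0 (.base (nat_lit 16771936) (.op 4 6 (.and 1 0 (.dead0 0)))) .nil)))))))))))))))))))))))))) .nil))) (.cons [11, 2] 0 0 (.op 4 0 (.and 0 6 (.dead0 0))) .nil))))))))))))))
noncomputable def K3 : Tr := (.sym [[1], [3], [5], [7]] (.cons [] 3 21 (.op 2 0 (.xor 0 1 (.focus 0 (.sym [[1], [3]] (.cons [] 3 3 K3_3 (.cons [4] 3 0 K3_2 (.cons [6, 3] 4 0 K3_1 (.cons [16, 4] 0 0 (.op 4 3 (.and 0 1 (.dead0 0))) (.cons [9, 4] 0 0 (.op 4 0 (.and 0 4 (.dead0 0))) .nil))))))))) .nil))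
noncomputable def K3K : List (List Nat) := [[10, 18, 15, 18, 19, 22, 24, 28], [7, 22, 13, 26, 17, 23, 27], [1, 25, 6, 21, 15, 19, 21, 23], [3, 8, 10, 12, 23, 15, 22]]
noncomputable def K3F : List (List Nat) := [[], [1]]
noncomputable def w3 : List Nat := [4, 1, 3, 1, 4, 1, 3, 1, 4, 1, 3, 1, 4, 1, 3, 1]
noncomputable def ms3 : List Nat := [0, 0, 128, 8, 32, 0, 0, 2, 0, 0, 0, 0, 0, 0, 192, 0, 0, 384, 0, 0, 0, 0, 0, 0, 0, 0, 0]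
noncomputable def us3 : List (List Nat × List Nat) := [([], [1]), ([], [3]), ([], [5]), ([177, 179, 181, 183, 189], [3]), ([7, 175, 179, 181, 183, 189], [1, 5]), ([7], [3, 5]), ([177, 181, 183, 187, 189], [5]), ([7, 175, 177, 181, 187, 189], [3]), ([179, 183, 189], [3]), ([7, 177, 179, 181, 183, 187, 189], []), ([179, 181], [1, 5])]
noncomputable def K5_1 : Tr := (.op 2 0 (.xor 0 1 (.focus 0 (.op 4 2 (.xor 2 0 (.focus 0 (.op 7 4 (.xor 4 0 (.focus 0 (.op 4 3 (.xor 6 0 (.focus 0 (.op 7 3 (.xor 8 0 (.focus 0 (.sym [[1]] (.cons [] 2 1 (.op 4 0 (.op 4 0 (.focus 0 (.cons [] 0 1 (.op 4 0 (.focus 0 (.cons [] 0 1 (.focus 14 (.focus 12 (.focus 10 (.focus 8 (.focus 6 (.xor 15 0 (.focus 0 (.xor 16 3 (.focus 0 (.xor 17 7 (.focus 0 (.xor 18 7 (.focus 0 (.op 4 4 (.xor 20 0 (.focus 0 (.cons [] 0 1 (.base (nat_lit 16771936) (.focus 0 (.focus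 4 (.focus 20 (.op 4 0 (.xor 24 0 (.focus 0 (.cons [] 0 1 (.base (nat_lit 2162752) (.focus 0 (.focus 20 (.focus 18 (.cons [] 0 1 .triv .nil))))) (.cons [1, 6, 4] 0 0 (.base (nat_lit 2162752) (.and 0 21 (.dead0 0))) .nil))))))))) (.cons [4] 0 0 (.op 5 0 (.and 1 0 (.dead0 0))) (.cons [2] 0 0 (.op 5 0 (.and 1 0 (.dead0 0))) (.cons [6, 1] 0 0 (.op 5 0 (.and 1 0 (.dead0 0))) (.cons [9, 4] 0 0 (.base (nat_lit 16771936) (.and 0 3 (.dead0 0))) (.cons [5, 1] 0 0 (.op 5 0 (.and 1 0 (.dead0 0))) (.cons [4, 1] 0 0 (.op 5 0 (.and 1 0 (.dead0 0))) (.cons [8, 1] 0 0 (.base (nat_lit 16771936) (.and 0 3 (.dead0 0))) (.cons [9, 1] 0 0 (.base (nat_lit 16771936) (.and 0 3 (.dead0 0))) (.cons [10, 1] 0 0 (.op 5 0 (.and 1 0 (.dead0 0))) (.cons [9, 3] 0 0 (.op 5 0 (.and 1 0 (.dead0 0))) (.cons [5, 4] 0 0 (.op 5 0 (.and 1 0 (.dead0 0))) (.cons [3,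 6, 1] 0 0 (.op 5 0 (.and 1 0 (.dead0 0))) (.cons [5, 2, 3] 0 0 (.op 5 0 (.and 1 0 (.dead0 0))) .nil)))))))))))))))))))))))))))))) .nil))) .nil)))) (.cons [4] 2 0 (.op 4 0 (.op 4 0 (.focus 0 (.cons [8, 3] 0 0 (.op 4 0 (.focus 0 (.cons [2] 0 0 (.focus 14 (.focus 12 (.focus 10 (.focus 8 (.focus 6 (.xor 15 0 (.focus 0 (.xor 16 3 (.focus 0 (.xor 17 7 (.focus 0 (.xor 18 7 (.focus 0 (.op 4 4 (.xor 20 0 (.focus 0 (.cons [] 0 0 (.base (nat_lit 16771936) (.and 0 3 (.dead0 0))) (.cons [3] 0 0 (.op 5 0 (.and 1 0 (.dead0 0))) (.cons [9, 4] 0 0 (.op 5 0 (.and 1 0 (.dead0 0))) (.cons [8, 1] 0 0 (.op 5 0 (.and 1 0 (.dead0 0))) (.cons [6, 1] 0 0 (.op 5 0 (.and 1 0 (.dead0 0))) (.cons [1, 4] 0 0 (.base (nat_lit 16771936) (.and 0 3 (.dead0 0))) (.cons [7, 1] 0 0 (.op 5 0 (.and 1 0 (.dead0 0))) (.cons [4, 4] 0 0 (.base (nat_lit 16771936) (.and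 0 3 (.dead0 0))) (.cons [10, 1] 0 0 (.op 5 0 (.and 1 0 (.dead0 0))) (.cons [4, 1] 0 0 (.op 5 0 (.and 1 0 (.dead0 0))) (.cons [5, 1] 0 0 (.base (nat_lit 16771936) (.and 0 3 (.dead0 0))) (.cons [9, 3] 0 0 (.op 5 0 (.and 1 0 (.dead0 0))) (.cons [5, 2, 3] 0 0 (.op 5 0 (.and 1 0 (.dead0 0))) (.cons [3, 6, 1] 0 0 (.op 5 0 (.and 1 0 (.dead0 0))) .nil)))))))))))))))))))))))))))))) .nil))) .nil)))) (.cons [3] 2 0 (.op 4 0 (.op 4 0 (.focus 0 (.cons [1, 4] 0 0 (.op 4 0 (.focus 0 (.cons [2] 0 0 (.focus 14 (.focus 12 (.focus 10 (.focus 8 (.focus 6 (.xor 15 0 (.focus 0 (.xor 16 3 (.focus 0 (.xor 17 7 (.focus 0 (.xor 18 7 (.focus 0 (.op 4 4 (.xor 20 0 (.focus 0 (.cons [] 0 0 (.op 5 0 (.and 1 0 (.dead0 0))) (.cons [1] 0 0 (.op 5 0 (.and 1 0 (.dead0 0))) (.cons [2] 0 0 (.base (nat_lit 16771936) (.and 0 3 (.dead0 0))) (.cons [4] 0 0 (.op 5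 0 (.and 1 0 (.dead0 0))) (.cons [8, 1] 0 0 (.base (nat_lit 16771936) (.and 0 3 (.dead0 0))) (.cons [4, 4] 0 0 (.op 5 0 (.and 1 0 (.dead0 0))) (.cons [5, 4] 0 0 (.op 5 0 (.and 1 0 (.dead0 0))) (.cons [5, 1] 0 0 (.base (nat_lit 16771936) (.and 0 3 (.dead0 0))) (.cons [1, 4] 0 0 (.op 5 0 (.and 1 0 (.dead0 0))) (.cons [9, 3] 0 0 (.op 5 0 (.and 1 0 (.dead0 0))) (.cons [7, 1] 0 0 (.op 5 0 (.and 1 0 (.dead0 0))) (.cons [9, 1] 0 0 (.base (nat_lit 16771936) (.and 0 3 (.dead0 0))) (.cons [4, 1] 0 0 (.op 5 0 (.and 1 0 (.dead0 0))) (.cons [3, 6, 1] 0 0 (.op 5 0 (.and 1 0 (.dead0 0))) .nil)))))))))))))))))))))))))))))) .nil))) .nil)))) (.cons [2] 2 0 (.op 4 0 (.op 4 0 (.focus 0 (.cons [3, 2] 0 0 (.op 4 0 (.focus 0 (.cons [10, 1] 0 0 (.focus 14 (.focus 12 (.focus 10 (.focus 8 (.focus 6 (.xor 15 0 (.focus 0 (.xor 16 3 (.focus 0 (.xor 17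 7 (.focus 0 (.xor 18 7 (.focus 0 (.op 4 4 (.xor 20 0 (.focus 0 (.cons [1] 0 0 (.op 5 0 (.and 1 0 (.dead0 0))) (.cons [2] 0 0 (.op 5 0 (.and 1 0 (.dead0 0))) (.cons [4] 0 0 (.base (nat_lit 16771936) (.and 0 3 (.dead0 0))) (.cons [9, 1] 0 0 (.op 5 0 (.and 1 0 (.dead0 0))) (.cons [2, 3] 0 0 (.op 5 0 (.and 1 0 (.dead0 0))) (.cons [8, 1] 0 0 (.base (nat_lit 16771936) (.and 0 3 (.dead0 0))) (.cons [4, 4] 0 0 (.base (nat_lit 16771936) (.and 0 3 (.dead0 0))) (.cons [4, 1] 0 0 (.op 5 0 (.and 1 0 (.dead0 0))) (.cons [5, 4] 0 0 (.op 5 0 (.and 1 0 (.dead0 0))) (.cons [9, 3] 0 0 (.op 5 0 (.and 1 0 (.dead0 0))) (.cons [7, 1] 0 0 (.base (nat_lit 16771936) (.and 0 3 (.dead0 0))) (.cons [10, 1] 0 0 (.op 5 0 (.and 1 0 (.dead0 0))) (.cons [5, 1] 0 0 (.op 5 0 (.and 1 0 (.dead0 0))) (.cons [3, 6, 1] 0 0 (.op 5 0 (.and 1 0 (.dead0 0))) .nil))))))))))))))))))))))))))))))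 .nil))) .nil)))) (.cons [6, 3] 2 0 (.op 4 0 (.op 4 0 (.focus 0 (.cons [12, 3] 0 0 (.op 4 0 (.focus 0 (.cons [2] 0 0 (.focus 14 (.focus 12 (.focus 10 (.focus 8 (.focus 6 (.xor 15 0 (.focus 0 (.xor 16 3 (.focus 0 (.xor 17 7 (.focus 0 (.xor 18 7 (.focus 0 (.op 4 4 (.xor 20 0 (.focus 0 (.cons [] 0 0 (.op 5 0 (.and 1 0 (.dead0 0))) (.cons [4] 0 0 (.op 5 0 (.and 1 0 (.dead0 0))) (.cons [2] 0 0 (.op 5 0 (.and 1 0 (.dead0 0))) (.cons [3] 0 0 (.op 5 0 (.and 1 0 (.dead0 0))) (.cons [8, 1] 0 0 (.base (nat_lit 16771936) (.and 0 3 (.dead0 0))) (.cons [2, 3] 0 0 (.op 5 0 (.and 1 0 (.dead0 0))) (.cons [4, 4] 0 0 (.op 5 0 (.and 1 0 (.dead0 0))) (.cons [9, 3] 0 0 (.op 5 0 (.and 1 0 (.dead0 0))) (.cons [4, 1] 0 0 (.op 5 0 (.and 1 0 (.dead0 0))) (.cons [7, 1] 0 0 (.base (nat_lit 16771936) (.and 0 3 (.dead0 0))) (.cons [6, 1] 0 0 (.op 5 0 (.and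 1 0 (.dead0 0))) (.cons [9, 4] 0 0 (.op 5 0 (.and 1 0 (.dead0 0))) (.cons [5, 2, 3] 0 0 (.base (nat_lit 16771936) (.and 0 3 (.dead0 0))) (.cons [3, 6, 1] 0 0 (.base (nat_lit 16771936) (.and 0 3 (.dead0 0))) .nil)))))))))))))))))))))))))))))) .nil))) .nil)))) (.cons [14, 3] 2 0 (.op 5 0 (.and 1 0 (.dead0 0))) (.cons [21, 3] 0 0 (.op 5 0 (.and 1 0 (.dead0 0))) .nil)))))))))))))))))))))))
noncomputable def K5 : Tr := (.sym [[1], [3]] (.cons [] 6 3 K5_1 (.cons [5, 3] 2 0 (.op 5 0 (.and 1 0 (.dead0 0))) .nil)))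
noncomputable def K5K : List (List Nat) := [[5, 9, 12, 17, 15, 17, 20, 21, 24, 27], [1, 8, 11, 13, 15, 22, 24]]
noncomputable def K5F : List (List Nat) := [[], [1]]
noncomputable def w5 : List Nat := [4, 1, 4, 1, 3, 1, 3, 1]
noncomputable def ms5 : List Nat := [0, 0, 0, 0, 0, 0, 0, 0, 0, 0, 0, 4, 0, 0, 0, 0, 0, 0, 0, 0, 0, 0, 0, 0, 0, 0, 0]
noncomputable def us5 : List (List Nat × List Nat) := [([], [1]), ([175, 179, 183, 187], [1]), ([7, 177, 179, 183], []), ([], [3]), ([], [5]), ([7, 175, 177, 179, 183, 187], [1, 3, 5]), ([179, 181, 185], []), ([175, 181, 183], [3]), ([7, 175, 177, 179, 185], [5]), ([7, 177, 179, 181, 183], [3, 5]), ([7, 175, 181, 183], [1])]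
noncomputable def K7_1 : Tr := (.op 2 0 (.xor 0 1 (.focus 0 (.op 4 2 (.xor 2 0 (.focus 0 (.op 7 4 (.xor 4 0 (.focus 0 (.op 4 3 (.xor 6 0 (.focus 0 (.op 7 3 (.xor 8 0 (.focus 0 (.sym [[1]] (.cons [] 1 1 (.focus 9 (.focus 7 (.focus 5 (.focus 3 (.focus 1 (.xor 10 0 (.focus 0 (.op 4 1 (.xor 12 0 (.focus 0 (.op 7 3 (.xor 14 0 (.focus 0 (.op 4 3 (.xor 16 0 (.focus 0 (.op 7 3 (.xor 18 0 (.focus 0 (.op 4 3 (.xor 20 0 (.focus 0 (.op 4 15 (.xor 22 0 (.focus 0 (.op 7 5 (.xor 24 0 (.focus 0 (.cons [] 0 1 (.focus 22 (.cons [] 0 1 (.focus 16 (.focus 26 (.focus 14 (.focus 24 (.focus 12 (.focus 22 (.focus 10 (.focus 20 (.focus 8 (.focus 18 (.focus 6 (.focus 4 (.focus 2 (.xor 27 1 (.focus 0 (.op 7 20 (.focus 0 (.cons [] 0 1 (.focus 18 (.cons [] 0 1 (.base (nat_lit 2162752) (.focus 0 (.focus 25 (.cons [] 0 1 .triv (.cons [1] 0 0 (.op 7 0 (.op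 4 8 (.and 1 0 (.dead0 0)))) .nil))))) .nil)) .nil)))))))))))))))))) .nil)) (.cons [2] 0 0 (.op 4 0 (.op 4 0 (.and 0 24 (.dead0 0)))) (.cons [1] 0 0 (.op 5 0 (.and 1 0 (.dead0 0))) (.cons [9, 4] 0 0 (.focus 22 (.cons [10, 1] 0 0 (.focus 16 (.focus 26 (.focus 14 (.focus 24 (.focus 12 (.focus 22 (.focus 10 (.focus 20 (.focus 8 (.focus 18 (.focus 6 (.focus 4 (.focus 2 (.xor 27 1 (.focus 0 (.op 7 20 (.focus 0 (.cons [10, 1] 0 0 (.base (nat_lit 16771936) (.and 0 19 (.dead0 0))) .nil)))))))))))))))))) .nil)) (.cons [1, 4] 0 0 (.focus 22 (.cons [13, 3] 0 0 (.focus 16 (.focus 26 (.focus 14 (.focus 24 (.focus 12 (.focus 22 (.focus 10 (.focus 20 (.focus 8 (.focus 18 (.focus 6 (.focus 4 (.focus 2 (.xor 27 1 (.focus 0 (.op 7 20 (.focus 0 (.cons [5, 4] 0 0 (.base (nat_lit 16771936) (.op 4 5 (.and 1 0 (.dead0 0)))) .nil))))))))))))))))))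 .nil)) (.cons [2, 4] 0 0 (.op 5 0 (.and 1 0 (.dead0 0))) (.cons [9, 2] 0 0 (.focus 22 (.cons [3] 0 0 (.focus 16 (.focus 26 (.focus 14 (.focus 24 (.focus 12 (.focus 22 (.focus 10 (.focus 20 (.focus 8 (.focus 18 (.focus 6 (.focus 4 (.focus 2 (.xor 27 1 (.focus 0 (.op 7 20 (.focus 0 (.cons [6, 1] 0 0 (.base (nat_lit 16771936) (.and 0 15 (.dead0 0))) .nil)))))))))))))))))) .nil)) (.cons [4, 2] 0 0 (.focus 22 (.cons [8, 2] 0 0 (.focus 16 (.focus 26 (.focus 14 (.focus 24 (.focus 12 (.focus 22 (.focus 10 (.focus 20 (.focus 8 (.focus 18 (.focus 6 (.focus 4 (.focus 2 (.xor 27 1 (.focus 0 (.op 7 20 (.focus 0 (.cons [8, 1] 0 0 (.base (nat_lit 16771936) (.and 0 15 (.dead0 0))) .nil)))))))))))))))))) .nil)) (.cons [12, 4] 0 0 (.op 5 0 (.and 1 0 (.dead0 0))) (.cons [5, 2] 0 0 (.focus 22 (.cons [] 0 0 (.focus 16 (.focus 26 (.focus 14 (.focus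 24 (.focus 12 (.focus 22 (.focus 10 (.focus 20 (.focus 8 (.focus 18 (.focus 6 (.focus 4 (.focus 2 (.xor 27 1 (.focus 0 (.op 7 20 (.focus 0 (.cons [10, 1] 0 0 (.base (nat_lit 16771936) (.and 0 19 (.dead0 0))) .nil)))))))))))))))))) .nil)) (.cons [11, 2] 0 0 (.focus 22 (.cons [3] 0 0 (.focus 16 (.focus 26 (.focus 14 (.focus 24 (.focus 12 (.focus 22 (.focus 10 (.focus 20 (.focus 8 (.focus 18 (.focus 6 (.focus 4 (.focus 2 (.xor 27 1 (.focus 0 (.op 7 20 (.focus 0 (.cons [2, 3] 0 0 (.base (nat_lit 16771936) (.and 0 23 (.dead0 0))) .nil)))))))))))))))))) .nil)) .nil))))))))))))))))))))))))))))))))))))))) (.cons [4] 1 0 (.focus 9 (.focus 7 (.focus 5 (.focus 3 (.focus 1 (.xor 10 0 (.focus 0 (.op 4 1 (.xor 12 0 (.focus 0 (.op 7 3 (.xor 14 0 (.focus 0 (.op 4 3 (.xor 16 0 (.focus 0 (.op 7 3 (.xor 18 0 (.focus 0 (.op 4 3 (.xor 20 0 (.focus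 0 (.op 4 15 (.xor 22 0 (.focus 0 (.op 7 5 (.xor 24 0 (.focus 0 (.op 7 17 (.xor 26 0 (.focus 0 (.cons [] 0 0 (.focus 24 (.cons [2] 0 0 (.focus 3 (.cons [1, 4] 0 0 (.base (nat_lit 16771936) (.and 0 23 (.dead0 0))) .nil)) .nil)) (.cons [4] 0 0 (.focus 24 (.cons [13, 3] 0 0 (.focus 3 (.cons [8, 1] 0 0 (.base (nat_lit 16771936) (.and 0 13 (.dead0 0))) .nil)) .nil)) (.cons [1] 0 0 (.focus 24 (.cons [13, 3] 0 0 (.focus 3 (.cons [10, 1] 0 0 (.base (nat_lit 16771936) (.and 0 23 (.dead0 0))) .nil)) .nil)) (.cons [6, 2] 0 0 (.focus 24 (.cons [3] 0 0 (.focus 3 (.cons [9, 3] 0 0 (.base (nat_lit 16771936) (.and 0 17 (.dead0 0))) .nil)) .nil)) (.cons [6, 4] 0 0 (.focus 24 (.cons [10, 1] 0 0 (.focus 3 (.cons [8, 1] 0 0 (.base (nat_lit 16771936) (.and 0 15 (.dead0 0))) .nil)) .nil)) (.cons [12, 2] 0 0 (.op 5 0 (.and 1 0 (.dead0 0))) (.cons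 [12, 3] 0 0 (.focus 24 (.cons [] 0 0 (.focus 3 (.cons [3] 0 0 (.base (nat_lit 16771936) (.and 0 15 (.dead0 0))) .nil)) .nil)) (.cons [8, 3] 0 0 (.op 5 0 (.and 1 0 (.dead0 0))) (.cons [12, 4] 0 0 (.op 5 0 (.and 1 0 (.dead0 0))) (.cons [1, 4] 0 0 (.focus 24 (.cons [2, 3] 0 0 (.focus 3 (.cons [6, 1] 0 0 (.base (nat_lit 16771936) (.and 0 17 (.dead0 0))) .nil)) .nil)) .nil))))))))))))))))))))))))))))))))))))))))) (.cons [1] 1 0 (.focus 9 (.focus 7 (.focus 5 (.focus 3 (.focus 1 (.xor 10 0 (.focus 0 (.op 4 1 (.xor 12 0 (.focus 0 (.op 7 3 (.xor 14 0 (.focus 0 (.op 4 3 (.xor 16 0 (.focus 0 (.op 7 3 (.xor 18 0 (.focus 0 (.op 4 3 (.xor 20 0 (.focus 0 (.op 4 15 (.xor 22 0 (.focus 0 (.op 7 5 (.xor 24 0 (.focus 0 (.op 7 17 (.xor 26 0 (.focus 0 (.cons [] 0 0 (.focus 24 (.cons [] 0 0 (.focus 3 (.cons [6, 1] 0 0 (.base (nat_lit 16771936) (.and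 0 13 (.dead0 0))) .nil)) .nil)) (.cons [2] 0 0 (.focus 24 (.cons [3] 0 0 (.focus 3 (.cons [1, 4] 0 0 (.base (nat_lit 16771936) (.and 0 25 (.dead0 0))) .nil)) .nil)) (.cons [12, 3] 0 0 (.focus 24 (.cons [10, 3] 0 0 (.focus 3 (.cons [9, 1] 0 0 (.base (nat_lit 16771936) (.and 0 25 (.dead0 0))) .nil)) .nil)) (.cons [4, 2] 0 0 (.focus 24 (.cons [8, 2] 0 0 (.focus 3 (.cons [9, 3] 0 0 (.base (nat_lit 16771936) (.and 0 19 (.dead0 0))) .nil)) .nil)) (.cons [11, 2] 0 0 (.focus 24 (.cons [3] 0 0 (.focus 3 (.cons [2] 0 0 (.base (nat_lit 16771936) (.and 0 13 (.dead0 0))) .nil)) .nil)) (.cons [12, 4] 0 0 (.op 5 0 (.and 1 0 (.dead0 0))) (.cons [5, 2] 0 0 (.op 5 0 (.and 1 0 (.dead0 0))) (.cons [2, 4] 0 0 (.focus 24 (.cons [1, 3] 0 0 (.focus 3 (.cons [9, 4] 0 0 (.base (nat_lit 16771936) (.and 0 17 (.dead0 0))) .nil)) .nil)) (.cons [3, 2] 0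 0 (.focus 24 (.cons [14, 4] 0 0 (.focus 3 (.cons [4, 4] 0 0 (.base (nat_lit 16771936) (.and 0 17 (.dead0 0))) .nil)) .nil)) (.cons [1, 12, 3] 0 0 (.op 5 0 (.and 1 0 (.dead0 0))) .nil))))))))))))))))))))))))))))))))))))))))) (.cons [2] 0 0 (.op 5 0 (.and 1 0 (.dead0 0))) (.cons [1, 4] 1 0 (.focus 9 (.focus 7 (.focus 5 (.focus 3 (.focus 1 (.xor 10 0 (.focus 0 (.op 4 1 (.xor 12 0 (.focus 0 (.op 7 3 (.xor 14 0 (.focus 0 (.op 4 3 (.xor 16 0 (.focus 0 (.op 7 3 (.xor 18 0 (.focus 0 (.op 4 3 (.xor 20 0 (.focus 0 (.op 4 15 (.xor 22 0 (.focus 0 (.op 7 5 (.xor 24 0 (.focus 0 (.op 7 17 (.xor 26 0 (.focus 0 (.cons [8, 3] 0 0 (.focus 24 (.cons [14, 4] 0 0 (.focus 3 (.cons [3] 0 0 (.base (nat_lit 16771936) (.and 0 19 (.dead0 0))) .nil)) .nil)) (.cons [12, 3] 0 0 (.focus 24 (.cons [] 0 0 (.focus 3 (.cons [9, 1] 0 0 (.base (nat_lit 16771936)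 (.and 0 13 (.dead0 0))) .nil)) .nil)) (.cons [12, 4] 0 0 (.op 5 0 (.and 1 0 (.dead0 0))) (.cons [9, 2] 0 0 (.focus 24 (.cons [2, 3] 0 0 (.focus 3 (.cons [3, 6, 1] 0 0 (.base (nat_lit 16771936) (.and 0 25 (.dead0 0))) .nil)) .nil)) (.cons [3, 2] 0 0 (.focus 24 (.cons [6, 2] 0 0 (.focus 3 (.cons [5, 1] 0 0 (.base (nat_lit 16771936) (.and 0 19 (.dead0 0))) .nil)) .nil)) (.cons [13, 4] 0 0 (.focus 24 (.cons [1] 0 0 (.focus 3 (.cons [6, 1] 0 0 (.base (nat_lit 16771936) (.and 0 23 (.dead0 0))) .nil)) .nil)) (.cons [9, 4] 0 0 (.op 5 0 (.and 1 0 (.dead0 0))) (.cons [1, 4] 0 0 (.op 5 0 (.and 1 0 (.dead0 0))) (.cons [8, 2] 0 0 (.focus 24 (.cons [13, 2] 0 0 (.focus 3 (.cons [9, 4] 0 0 (.base (nat_lit 16771936) (.and 0 13 (.dead0 0))) .nil)) .nil)) (.cons [1, 12, 3] 0 0 (.focus 24 (.cons [14, 3] 0 0 (.focus 3 (.cons [3, 6, 1] 0 0 (.base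 (nat_lit 16771936) (.and 0 23 (.dead0 0))) .nil)) .nil)) .nil))))))))))))))))))))))))))))))))))))))))) (.cons [14, 3] 0 0 (.op 4 0 (.op 4 0 (.and 0 8 (.dead0 0)))) (.cons [16, 4] 1 0 (.focus 9 (.focus 7 (.focus 5 (.focus 3 (.focus 1 (.xor 10 0 (.focus 0 (.op 4 1 (.xor 12 0 (.focus 0 (.op 7 3 (.xor 14 0 (.focus 0 (.op 4 3 (.xor 16 0 (.focus 0 (.op 7 3 (.xor 18 0 (.focus 0 (.op 4 3 (.xor 20 0 (.focus 0 (.op 4 15 (.xor 22 0 (.focus 0 (.op 7 5 (.xor 24 0 (.focus 0 (.op 7 17 (.xor 26 0 (.focus 0 (.cons [3] 0 0 (.focus 24 (.cons [2, 3] 0 0 (.focus 3 (.cons [4, 1] 0 0 (.base (nat_lit 16771936) (.and 0 25 (.dead0 0))) .nil)) .nil)) (.cons [4] 0 0 (.focus 24 (.cons [13, 3] 0 0 (.focus 3 (.cons [6, 1] 0 0 (.base (nat_lit 16771936) (.and 0 23 (.dead0 0))) .nil)) .nil)) (.cons [2] 0 0 (.focus 24 (.cons [] 0 0 (.focus 3 (.cons [8, 1] 0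 0 (.base (nat_lit 16771936) (.and 0 23 (.dead0 0))) .nil)) .nil)) (.cons [9, 2] 0 0 (.focus 24 (.cons [2, 3] 0 0 (.focus 3 (.cons [10, 1] 0 0 (.base (nat_lit 16771936) (.and 0 25 (.dead0 0))) .nil)) .nil)) (.cons [1, 4] 0 0 (.op 5 0 (.and 1 0 (.dead0 0))) (.cons [12, 3] 0 0 (.focus 24 (.cons [] 0 0 (.focus 3 (.cons [7, 1] 0 0 (.base (nat_lit 16771936) (.and 0 23 (.dead0 0))) .nil)) .nil)) (.cons [8, 2] 0 0 (.op 5 0 (.and 1 0 (.dead0 0))) (.cons [3, 2] 0 0 (.op 5 0 (.and 1 0 (.dead0 0))) (.cons [2, 4] 0 0 (.focus 24 (.cons [10, 1] 0 0 (.focus 3 (.cons [9, 3] 0 0 (.base (nat_lit 16771936) (.and 0 15 (.dead0 0))) .nil)) .nil)) (.cons [1, 12, 3] 0 0 (.focus 24 (.cons [14, 3] 0 0 (.focus 3 (.cons [2, 3] 0 0 (.base (nat_lit 16771936) (.and 0 23 (.dead0 0))) .nil)) .nil)) .nil))))))))))))))))))))))))))))))))))))))))) (.cons [11,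 4] 1 0 (.op 5 0 (.and 1 0 (.dead0 0))) (.cons [11, 3] 1 0 (.focus 9 (.focus 7 (.focus 5 (.focus 3 (.focus 1 (.xor 10 0 (.focus 0 (.op 4 1 (.xor 12 0 (.focus 0 (.op 7 3 (.xor 14 0 (.focus 0 (.op 4 3 (.xor 16 0 (.focus 0 (.op 7 3 (.xor 18 0 (.focus 0 (.op 4 3 (.xor 20 0 (.focus 0 (.op 4 15 (.xor 22 0 (.focus 0 (.op 7 5 (.xor 24 0 (.focus 0 (.op 7 17 (.xor 26 0 (.focus 0 (.cons [] 0 0 (.focus 24 (.cons [10, 3] 0 0 (.focus 3 (.cons [4, 1] 0 0 (.base (nat_lit 16771936) (.and 0 11 (.dead0 0))) .nil)) .nil)) (.cons [4] 0 0 (.focus 24 (.cons [] 0 0 (.focus 3 (.cons [7, 1] 0 0 (.base (nat_lit 16771936) (.and 0 11 (.dead0 0))) .nil)) .nil)) (.cons [3] 0 0 (.op 5 0 (.and 1 0 (.dead0 0))) (.cons [2, 4] 0 0 (.focus 24 (.cons [14, 4] 0 0 (.focus 3 (.cons [4] 0 0 (.base (nat_lit 16771936) (.and 0 17 (.dead0 0))) .nil)) .nil)) (.cons [9,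 2] 0 0 (.op 5 0 (.and 1 0 (.dead0 0))) (.cons [1, 4] 0 0 (.focus 24 (.cons [3] 0 0 (.focus 3 (.cons [9, 4] 0 0 (.base (nat_lit 16771936) (.and 0 15 (.dead0 0))) .nil)) .nil)) (.cons [3, 2] 0 0 (.op 5 0 (.and 1 0 (.dead0 0))) (.cons [8, 3] 0 0 (.focus 24 (.cons [6, 1] 0 0 (.focus 3 (.cons [9, 1] 0 0 (.base (nat_lit 16771936) (.and 0 19 (.dead0 0))) .nil)) .nil)) (.cons [6, 4] 0 0 (.focus 24 (.cons [11, 3] 0 0 (.focus 3 (.cons [1] 0 0 (.base (nat_lit 16771936) (.and 0 15 (.dead0 0))) .nil)) .nil)) (.cons [1, 12, 3] 0 0 (.focus 24 (.cons [9, 3] 0 0 (.focus 3 (.cons [10, 1] 0 0 (.base (nat_lit 16771936) (.and 0 19 (.dead0 0))) .nil)) .nil)) .nil))))))))))))))))))))))))))))))))))))))))) (.cons [20, 3] 1 0 (.focus 9 (.focus 7 (.focus 5 (.focus 3 (.focus 1 (.xor 10 0 (.focus 0 (.op 4 1 (.xor 12 0 (.focus 0 (.op 7 3 (.xor 14 0 (.focus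 0 (.op 4 3 (.xor 16 0 (.focus 0 (.op 7 3 (.xor 18 0 (.focus 0 (.op 4 3 (.xor 20 0 (.focus 0 (.op 4 15 (.xor 22 0 (.focus 0 (.op 7 5 (.xor 24 0 (.focus 0 (.op 7 17 (.xor 26 0 (.focus 0 (.cons [12, 3] 0 0 (.focus 24 (.cons [8, 2] 0 0 (.focus 3 (.cons [10, 1] 0 0 (.base (nat_lit 16771936) (.and 0 23 (.dead0 0))) .nil)) .nil)) (.cons [6, 2] 0 0 (.focus 24 (.cons [10, 3] 0 0 (.focus 3 (.cons [9, 3] 0 0 (.base (nat_lit 16771936) (.and 0 7 (.dead0 0))) .nil)) .nil)) (.cons [9, 2] 0 0 (.op 5 0 (.and 1 0 (.dead0 0))) (.cons [13, 4] 0 0 (.focus 24 (.cons [2] 0 0 (.focus 3 (.cons [10, 1] 0 0 (.base (nat_lit 16771936) (.and 0 25 (.dead0 0))) .nil)) .nil)) (.cons [12, 2] 0 0 (.focus 24 (.cons [1, 3] 0 0 (.focus 3 (.cons [5, 4] 0 0 (.base (nat_lit 16771936) (.and 0 17 (.dead0 0))) .nil)) .nil)) (.cons [2, 4] 0 0 (.focus 24 (.cons [9, 3]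 0 0 (.focus 3 (.cons [6, 1] 0 0 (.base (nat_lit 16771936) (.and 0 23 (.dead0 0))) .nil)) .nil)) (.cons [6, 4] 0 0 (.op 5 0 (.and 1 0 (.dead0 0))) (.cons [11, 2] 0 0 (.focus 24 (.cons [] 0 0 (.focus 3 (.cons [2, 3] 0 0 (.base (nat_lit 16771936) (.and 0 7 (.dead0 0))) .nil)) .nil)) (.cons [12, 4] 0 0 (.focus 24 (.cons [6, 2] 0 0 (.focus 3 (.cons [2] 0 0 (.base (nat_lit 16771936) (.and 0 17 (.dead0 0))) .nil)) .nil)) (.cons [1, 12, 3] 0 0 (.op 5 0 (.and 1 0 (.dead0 0))) .nil))))))))))))))))))))))))))))))))))))))))) (.cons [17, 4] 0 0 (.op 7 0 (.and 5 0 (.dead0 0))) .nil)))))))))))))))))))))))))))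
noncomputable def K7 : Tr := (.sym [[1], [3]] (.cons [] 8 2 K7_1 (.cons [15, 1] 1 0 (.op 5 0 (.and 1 0 (.dead0 0))) .nil)))
noncomputable def K7K : List (List Nat) := [[13, 8, 17, 12, 25, 14, 21, 20, 26, 21, 23, 28], [1, 15, 7, 12, 10, 13, 15, 25, 19, 24, 28]]
noncomputable def K7F : List (List Nat) := [[], [1]]
noncomputable def w7 : List Nat := [4, 1, 3, 1, 4, 1, 4, 1, 4, 1, 3, 1, 3, 1, 3, 1, 3, 1, 3, 1]
noncomputable def ms7 : List Nat := [0, 0, 0, 0, 0, 0, 0, 0, 0, 0, 0, 0, 0, 0, 0, 0, 0, 0, 3072, 0, 0, 0, 0, 0, 0, 0, 0]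
noncomputable def us7 : List (List Nat × List Nat) := [([], [1]), ([], [3]), ([175, 177, 185, 191], [3]), ([7, 175], [1]), ([179, 183, 187], [3]), ([175, 177, 183, 185, 187], [1, 3]), ([175, 179, 183], [1, 3]), ([179, 183, 191], []), ([175, 177, 179, 181, 191], [1, 3]), ([177, 179, 185], [3]), ([179, 185, 187, 191], [1])]
noncomputable def K11_1 : Tr := (.op 2 0 (.xor 0 1 (.focus 0 (.op 4 2 (.xor 2 0 (.focus 0 (.op 7 4 (.xor 4 0 (.focus 0 (.op 4 3 (.xor 6 0 (.focus 0 (.op 7 3 (.xor 8 0 (.focus 0 (.op 4 3 (.xor 10 0 (.focus 0 (.op 7 3 (.xor 12 0 (.focus 0 (.op 4 3 (.xor 14 0 (.focus 0 (.op 7 3 (.xor 16 0 (.focus 0 (.op 4 3 (.xor 18 0 (.focus 0 (.op 7 3 (.xor 20 0 (.focus 0 (.cons [] 0 0 (.focus 21 (.focus 19 (.focus 17 (.focus 15 (.focus 13 (.focus 11 (.focus 9 (.focus 7 (.focus 5 (.focus 3 (.focus 1 (.xor 22 0 (.focus 0 (.op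 4 1 (.xor 24 0 (.focus 0 (.op 7 3 (.xor 26 0 (.focus 0 (.op 4 3 (.xor 28 0 (.focus 0 (.op 7 3 (.xor 30 0 (.focus 0 (.op 4 3 (.xor 32 0 (.focus 0 (.op 7 3 (.xor 34 0 (.focus 0 (.op 4 3 (.xor 36 0 (.focus 0 (.op 7 3 (.xor 38 0 (.focus 0 (.cons [] 0 0 (.focus 16 (.cons [1, 3] 0 0 (.focus 39 (.cons [1, 4] 0 0 (.base (nat_lit 16771936) (.and 0 9 (.dead0 0))) .nil)) .nil)) (.cons [4] 0 0 (.focus 16 (.cons [13, 2] 0 0 (.focus 39 (.cons [4, 1] 0 0 (.base (nat_lit 16771936) (.and 0 9 (.dead0 0))) .nil)) .nil)) (.cons [11, 2] 0 0 (.op 5 0 (.and 1 0 (.dead0 0))) (.cons [4, 2] 0 0 (.op 5 0 (.and 1 0 (.dead0 0))) .nil))))))))))))))))))))))))))))))))))))))))) (.cons [4] 0 0 (.focus 21 (.focus 19 (.focus 17 (.focus 15 (.focus 13 (.focus 11 (.focus 9 (.focus 7 (.focus 5 (.focus 3 (.focus 1 (.xor 22 0 (.focus 0 (.op 4 1 (.xor 24 0 (.focus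 0 (.op 7 3 (.xor 26 0 (.focus 0 (.op 4 3 (.xor 28 0 (.focus 0 (.op 7 3 (.xor 30 0 (.focus 0 (.op 4 3 (.xor 32 0 (.focus 0 (.op 7 3 (.xor 34 0 (.focus 0 (.op 4 3 (.xor 36 0 (.focus 0 (.op 7 3 (.xor 38 0 (.focus 0 (.cons [] 0 0 (.focus 16 (.cons [6, 2] 0 0 (.focus 39 (.cons [] 0 0 (.base (nat_lit 16771936) (.and 0 13 (.dead0 0))) .nil)) .nil)) (.cons [4] 0 0 (.op 5 0 (.and 1 0 (.dead0 0))) (.cons [3, 2] 0 0 (.focus 16 (.cons [1, 3] 0 0 (.focus 39 (.cons [] 0 0 (.base (nat_lit 16771936) (.and 0 33 (.dead0 0))) .nil)) .nil)) (.cons [4, 2] 0 0 (.op 5 0 (.and 1 0 (.dead0 0))) .nil))))))))))))))))))))))))))))))))))))))))) (.cons [11, 3] 0 0 (.op 5 0 (.and 1 0 (.dead0 0))) (.cons [11, 4] 0 0 (.focus 21 (.focus 19 (.focus 17 (.focus 15 (.focus 13 (.focus 11 (.focus 9 (.focus 7 (.focus 5 (.focus 3 (.focus 1 (.xor 22 0 (.focus 0 (.op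 4 1 (.xor 24 0 (.focus 0 (.op 7 3 (.xor 26 0 (.focus 0 (.op 4 3 (.xor 28 0 (.focus 0 (.op 7 3 (.xor 30 0 (.focus 0 (.op 4 3 (.xor 32 0 (.focus 0 (.op 7 3 (.xor 34 0 (.focus 0 (.op 4 3 (.xor 36 0 (.focus 0 (.op 7 3 (.xor 38 0 (.focus 0 (.op 4 3 (.xor 40 0 (.focus 0 (.cons [] 0 0 (.focus 18 (.cons [8, 2] 0 0 (.focus 41 (.cons [7, 1] 0 0 (.base (nat_lit 16771936) (.and 0 11 (.dead0 0))) .nil)) .nil)) (.cons [12, 3] 0 0 (.focus 18 (.cons [2, 3] 0 0 (.focus 41 (.cons [5, 1] 0 0 (.base (nat_lit 16771936) (.and 0 11 (.dead0 0))) .nil)) .nil)) (.cons [9, 4] 0 0 (.op 5 0 (.and 1 0 (.dead0 0))) .nil))))))))))))))))))))))))))))))))))))))))))) (.cons [9, 4] 0 0 (.focus 21 (.focus 19 (.focus 17 (.focus 15 (.focus 13 (.focus 11 (.focus 9 (.focus 7 (.focus 5 (.focus 3 (.focus 1 (.xor 22 0 (.focus 0 (.op 4 1 (.xor 24 0 (.focus 0 (.op 7 3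 (.xor 26 0 (.focus 0 (.op 4 3 (.xor 28 0 (.focus 0 (.op 7 3 (.xor 30 0 (.focus 0 (.op 4 3 (.xor 32 0 (.focus 0 (.op 7 3 (.xor 34 0 (.focus 0 (.op 4 3 (.xor 36 0 (.focus 0 (.op 7 3 (.xor 38 0 (.focus 0 (.op 4 3 (.xor 40 0 (.focus 0 (.cons [] 0 0 (.focus 18 (.cons [6, 1] 0 0 (.focus 41 (.cons [9, 3] 0 0 (.base (nat_lit 16771936) (.and 0 13 (.dead0 0))) .nil)) .nil)) (.cons [5, 2] 0 0 (.focus 18 (.cons [10, 3] 0 0 (.focus 41 (.cons [9, 4] 0 0 (.base (nat_lit 16771936) (.and 0 37 (.dead0 0))) .nil)) .nil)) (.cons [9, 2] 0 0 (.op 5 0 (.and 1 0 (.dead0 0))) .nil))))))))))))))))))))))))))))))))))))))))))) (.cons [21, 2] 0 0 (.focus 21 (.focus 19 (.focus 17 (.focus 15 (.focus 13 (.focus 11 (.focus 9 (.focus 7 (.focus 5 (.focus 3 (.focus 1 (.xor 22 0 (.focus 0 (.op 4 1 (.xor 24 0 (.focus 0 (.op 7 3 (.xor 26 0 (.focus 0 (.op 4 3 (.xor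 28 0 (.focus 0 (.op 7 3 (.xor 30 0 (.focus 0 (.op 4 3 (.xor 32 0 (.focus 0 (.op 7 3 (.xor 34 0 (.focus 0 (.op 4 3 (.xor 36 0 (.focus 0 (.op 7 3 (.xor 38 0 (.focus 0 (.op 4 3 (.xor 40 0 (.focus 0 (.cons [3, 2] 0 0 (.focus 18 (.cons [] 0 0 (.focus 41 (.cons [5, 1] 0 0 (.base (nat_lit 16771936) (.and 0 37 (.dead0 0))) .nil)) .nil)) (.cons [12, 2] 0 0 (.op 5 0 (.and 1 0 (.dead0 0))) (.cons [9, 2] 0 0 (.focus 18 (.cons [] 0 0 (.focus 41 (.cons [6, 1] 0 0 (.base (nat_lit 16771936) (.and 0 37 (.dead0 0))) .nil)) .nil)) .nil))))))))))))))))))))))))))))))))))))))))))) (.cons [6, 3] 0 0 (.focus 21 (.focus 19 (.focus 17 (.focus 15 (.focus 13 (.focus 11 (.focus 9 (.focus 7 (.focus 5 (.focus 3 (.focus 1 (.xor 22 0 (.focus 0 (.op 4 1 (.xor 24 0 (.focus 0 (.op 7 3 (.xor 26 0 (.focus 0 (.op 4 3 (.xor 28 0 (.focus 0 (.op 7 3 (.xor 30 0 (.focus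 0 (.op 4 3 (.xor 32 0 (.focus 0 (.op 7 3 (.xor 34 0 (.focus 0 (.op 4 3 (.xor 36 0 (.focus 0 (.op 7 3 (.xor 38 0 (.focus 0 (.op 4 3 (.xor 40 0 (.focus 0 (.cons [1] 0 0 (.op 5 0 (.and 1 0 (.dead0 0))) (.cons [5, 2] 0 0 (.focus 18 (.cons [11, 3] 0 0 (.focus 41 (.cons [9, 1] 0 0 (.base (nat_lit 16771936) (.and 0 19 (.dead0 0))) .nil)) .nil)) (.cons [11, 2] 0 0 (.focus 18 (.cons [14, 4] 0 0 (.focus 41 (.cons [9, 1] 0 0 (.base (nat_lit 16771936) (.and 0 39 (.dead0 0))) .nil)) .nil)) .nil))))))))))))))))))))))))))))))))))))))))))) (.cons [1, 4] 0 0 (.op 5 0 (.and 1 0 (.dead0 0))) (.cons [7, 1] 0 0 (.focus 21 (.focus 19 (.focus 17 (.focus 15 (.focus 13 (.focus 11 (.focus 9 (.focus 7 (.focus 5 (.focus 3 (.focus 1 (.xor 22 0 (.focus 0 (.op 4 1 (.xor 24 0 (.focus 0 (.op 7 3 (.xor 26 0 (.focus 0 (.op 4 3 (.xor 28 0 (.focus 0 (.op 7 3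 (.xor 30 0 (.focus 0 (.op 4 3 (.xor 32 0 (.focus 0 (.op 7 3 (.xor 34 0 (.focus 0 (.op 4 3 (.xor 36 0 (.focus 0 (.op 7 3 (.xor 38 0 (.focus 0 (.op 4 3 (.xor 40 0 (.focus 0 (.cons [4] 0 0 (.focus 18 (.cons [12, 3] 0 0 (.focus 41 (.cons [5, 1] 0 0 (.base (nat_lit 16771936) (.and 0 19 (.dead0 0))) .nil)) .nil)) (.cons [6, 2] 0 0 (.focus 18 (.cons [6, 3] 0 0 (.focus 41 (.cons [6, 1] 0 0 (.base (nat_lit 16771936) (.and 0 39 (.dead0 0))) .nil)) .nil)) (.cons [4, 2] 0 0 (.op 5 0 (.and 1 0 (.dead0 0))) .nil))))))))))))))))))))))))))))))))))))))))))) (.cons [7, 4] 0 0 (.focus 21 (.focus 19 (.focus 17 (.focus 15 (.focus 13 (.focus 11 (.focus 9 (.focus 7 (.focus 5 (.focus 3 (.focus 1 (.xor 22 0 (.focus 0 (.op 4 1 (.xor 24 0 (.focus 0 (.op 7 3 (.xor 26 0 (.focus 0 (.op 4 3 (.xor 28 0 (.focus 0 (.op 7 3 (.xor 30 0 (.focus 0 (.op 4 3 (.xor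 32 0 (.focus 0 (.op 7 3 (.xor 34 0 (.focus 0 (.op 4 3 (.xor 36 0 (.focus 0 (.op 7 3 (.xor 38 0 (.focus 0 (.op 4 3 (.xor 40 0 (.focus 0 (.cons [3] 0 0 (.focus 18 (.cons [1] 0 0 (.focus 41 (.cons [3] 0 0 (.base (nat_lit 16771936) (.and 0 35 (.dead0 0))) .nil)) .nil)) (.cons [3, 2] 0 0 (.focus 18 (.cons [10, 1] 0 0 (.focus 41 (.cons [3, 6, 1] 0 0 (.base (nat_lit 16771936) (.and 0 15 (.dead0 0))) .nil)) .nil)) (.cons [12, 4] 0 0 (.op 5 0 (.and 1 0 (.dead0 0))) .nil))))))))))))))))))))))))))))))))))))))))))) (.cons [20, 3] 0 0 (.focus 21 (.focus 19 (.focus 17 (.focus 15 (.focus 13 (.focus 11 (.focus 9 (.focus 7 (.focus 5 (.focus 3 (.focus 1 (.xor 22 0 (.focus 0 (.op 4 1 (.xor 24 0 (.focus 0 (.op 7 3 (.xor 26 0 (.focus 0 (.op 4 3 (.xor 28 0 (.focus 0 (.op 7 3 (.xor 30 0 (.focus 0 (.op 4 3 (.xor 32 0 (.focus 0 (.op 7 3 (.xor 34 0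 (.focus 0 (.op 4 3 (.xor 36 0 (.focus 0 (.op 7 3 (.xor 38 0 (.focus 0 (.op 4 3 (.xor 40 0 (.focus 0 (.cons [] 0 0 (.focus 18 (.cons [13, 2] 0 0 (.focus 41 (.cons [2, 3] 0 0 (.base (nat_lit 16771936) (.and 0 15 (.dead0 0))) .nil)) .nil)) (.cons [6, 2] 0 0 (.op 5 0 (.and 1 0 (.dead0 0))) (.cons [12, 2] 0 0 (.focus 18 (.cons [2, 3] 0 0 (.focus 41 (.cons [3, 6, 1] 0 0 (.base (nat_lit 16771936) (.and 0 35 (.dead0 0))) .nil)) .nil)) .nil))))))))))))))))))))))))))))))))))))))))))) (.cons [10, 3] 0 0 (.focus 21 (.focus 19 (.focus 17 (.focus 15 (.focus 13 (.focus 11 (.focus 9 (.focus 7 (.focus 5 (.focus 3 (.focus 1 (.xor 22 0 (.focus 0 (.op 4 1 (.xor 24 0 (.focus 0 (.op 7 3 (.xor 26 0 (.focus 0 (.op 4 3 (.xor 28 0 (.focus 0 (.op 7 3 (.xor 30 0 (.focus 0 (.op 4 3 (.xor 32 0 (.focus 0 (.op 7 3 (.xor 34 0 (.focus 0 (.op 4 3 (.xor 36 0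 (.focus 0 (.op 7 3 (.xor 38 0 (.focus 0 (.op 4 3 (.xor 40 0 (.focus 0 (.cons [] 0 0 (.focus 18 (.cons [2] 0 0 (.focus 41 (.cons [9, 1] 0 0 (.base (nat_lit 16771936) (.and 0 17 (.dead0 0))) .nil)) .nil)) (.cons [3, 2] 0 0 (.focus 18 (.cons [6, 2] 0 0 (.focus 41 (.cons [8, 1] 0 0 (.base (nat_lit 16771936) (.and 0 41 (.dead0 0))) .nil)) .nil)) (.cons [13, 4] 0 0 (.op 5 0 (.and 1 0 (.dead0 0))) .nil))))))))))))))))))))))))))))))))))))))))))) (.cons [15, 4] 0 0 (.focus 21 (.focus 19 (.focus 17 (.focus 15 (.focus 13 (.focus 11 (.focus 9 (.focus 7 (.focus 5 (.focus 3 (.focus 1 (.xor 22 0 (.focus 0 (.op 4 1 (.xor 24 0 (.focus 0 (.op 7 3 (.xor 26 0 (.focus 0 (.op 4 3 (.xor 28 0 (.focus 0 (.op 7 3 (.xor 30 0 (.focus 0 (.op 4 3 (.xor 32 0 (.focus 0 (.op 7 3 (.xor 34 0 (.focus 0 (.op 4 3 (.xor 36 0 (.focus 0 (.op 7 3 (.xor 38 0 (.focus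 0 (.op 4 3 (.xor 40 0 (.focus 0 (.cons [] 0 0 (.focus 18 (.cons [2] 0 0 (.focus 41 (.cons [5, 1] 0 0 (.base (nat_lit 16771936) (.and 0 41 (.dead0 0))) .nil)) .nil)) (.cons [12, 4] 0 0 (.focus 18 (.cons [10, 3] 0 0 (.focus 41 (.cons [8, 1] 0 0 (.base (nat_lit 16771936) (.and 0 17 (.dead0 0))) .nil)) .nil)) (.cons [11, 2] 0 0 (.op 5 0 (.and 1 0 (.dead0 0))) .nil))))))))))))))))))))))))))))))))))))))))))) .nil))))))))))))))))))))))))))))))))))))))))))))))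
noncomputable def K11_2 : Tr := (.op 2 0 (.xor 0 1 (.focus 0 (.op 4 2 (.xor 2 0 (.focus 0 (.op 7 4 (.xor 4 0 (.focus 0 (.op 4 3 (.xor 6 0 (.focus 0 (.op 7 3 (.xor 8 0 (.focus 0 (.op 4 3 (.xor 10 0 (.focus 0 (.op 7 3 (.xor 12 0 (.focus 0 (.op 4 3 (.xor 14 0 (.focus 0 (.op 7 3 (.xor 16 0 (.focus 0 (.op 4 3 (.xor 18 0 (.focus 0 (.op 7 3 (.xor 20 0 (.focus 0 (.cons [] 0 1 (.focus 21 (.focus 19 (.focus 17 (.focus 15 (.focus 13 (.focus 11 (.focus 9 (.focus 7 (.focus 5 (.focus 3 (.focus 1 (.xor 22 0 (.focus 0 (.op 4 1 (.xor 24 0 (.focus 0 (.op 7 3 (.xor 26 0 (.focus 0 (.op 4 3 (.xor 28 0 (.focus 0 (.op 7 3 (.xor 30 0 (.focus 0 (.op 4 3 (.xor 32 0 (.focus 0 (.op 7 3 (.xor 34 0 (.focus 0 (.op 4 3 (.xor 36 0 (.focus 0 (.op 7 3 (.xor 38 0 (.focus 0 (.cons [] 0 1 (.focus 16 (.cons [] 0 1 (.focus 39 (.cons [] 0 1 (.focus 16 (.cons [] 0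 1 (.focus 39 (.cons [] 0 1 .triv .nil)) .nil)) .nil)) .nil)) (.cons [4] 0 0 (.focus 16 (.cons [10, 1] 0 0 (.focus 39 (.cons [5, 2, 3] 0 0 (.focus 16 (.cons [2, 3] 0 0 (.base (nat_lit 10496) (.and 0 16 (.dead0 0))) .nil)) .nil)) .nil)) (.cons [4, 2] 0 0 (.op 5 0 (.and 1 0 (.dead0 0))) (.cons [11, 2] 0 0 (.op 5 0 (.and 1 0 (.dead0 0))) .nil))))))))))))))))))))))))))))))))))))))))) (.cons [4] 0 0 (.focus 21 (.focus 19 (.focus 17 (.focus 15 (.focus 13 (.focus 11 (.focus 9 (.focus 7 (.focus 5 (.focus 3 (.focus 1 (.xor 22 0 (.focus 0 (.op 4 1 (.xor 24 0 (.focus 0 (.op 7 3 (.xor 26 0 (.focus 0 (.op 4 3 (.xor 28 0 (.focus 0 (.op 7 3 (.xor 30 0 (.focus 0 (.op 4 3 (.xor 32 0 (.focus 0 (.op 7 3 (.xor 34 0 (.focus 0 (.op 4 3 (.xor 36 0 (.focus 0 (.op 7 3 (.xor 38 0 (.focus 0 (.cons [] 0 0 (.focus 16 (.cons [3] 0 0 (.focus 39 (.cons [7,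 1] 0 0 (.base (nat_lit 16771936) (.and 0 11 (.dead0 0))) .nil)) .nil)) (.cons [4] 0 0 (.op 5 0 (.and 1 0 (.dead0 0))) (.cons [3, 2] 0 0 (.focus 16 (.cons [10, 3] 0 0 (.focus 39 (.cons [9, 4] 0 0 (.base (nat_lit 16771936) (.and 0 35 (.dead0 0))) .nil)) .nil)) (.cons [4, 2] 0 0 (.op 5 0 (.and 1 0 (.dead0 0))) .nil))))))))))))))))))))))))))))))))))))))))) (.cons [1, 4] 0 0 (.op 5 0 (.and 1 0 (.dead0 0))) (.cons [6, 3] 0 0 (.focus 21 (.focus 19 (.focus 17 (.focus 15 (.focus 13 (.focus 11 (.focus 9 (.focus 7 (.focus 5 (.focus 3 (.focus 1 (.xor 22 0 (.focus 0 (.op 4 1 (.xor 24 0 (.focus 0 (.op 7 3 (.xor 26 0 (.focus 0 (.op 4 3 (.xor 28 0 (.focus 0 (.op 7 3 (.xor 30 0 (.focus 0 (.op 4 3 (.xor 32 0 (.focus 0 (.op 7 3 (.xor 34 0 (.focus 0 (.op 4 3 (.xor 36 0 (.focus 0 (.op 7 3 (.xor 38 0 (.focus 0 (.cons [1] 0 0 (.op 5 0 (.and 1 0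 (.dead0 0))) (.cons [11, 2] 0 0 (.focus 16 (.cons [2, 3] 0 0 (.focus 39 (.cons [4, 1] 0 0 (.base (nat_lit 16771936) (.and 0 39 (.dead0 0))) .nil)) .nil)) (.cons [5, 2] 0 0 (.focus 16 (.cons [14, 3] 0 0 (.focus 39 (.cons [] 0 0 (.base (nat_lit 16771936) (.and 0 15 (.dead0 0))) .nil)) .nil)) (.cons [12, 2] 0 0 (.op 5 0 (.and 1 0 (.dead0 0))) .nil))))))))))))))))))))))))))))))))))))))))) (.cons [11, 4] 0 0 (.focus 21 (.focus 19 (.focus 17 (.focus 15 (.focus 13 (.focus 11 (.focus 9 (.focus 7 (.focus 5 (.focus 3 (.focus 1 (.xor 22 0 (.focus 0 (.op 4 1 (.xor 24 0 (.focus 0 (.op 7 3 (.xor 26 0 (.focus 0 (.op 4 3 (.xor 28 0 (.focus 0 (.op 7 3 (.xor 30 0 (.focus 0 (.op 4 3 (.xor 32 0 (.focus 0 (.op 7 3 (.xor 34 0 (.focus 0 (.op 4 3 (.xor 36 0 (.focus 0 (.op 7 3 (.xor 38 0 (.focus 0 (.cons [] 0 0 (.focus 16 (.cons [6, 2] 0 0 (.focus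 39 (.cons [9, 4] 0 0 (.base (nat_lit 16771936) (.and 0 9 (.dead0 0))) .nil)) .nil)) (.cons [2] 0 0 (.op 5 0 (.and 1 0 (.dead0 0))) (.cons [12, 3] 0 0 (.focus 16 (.cons [12, 3] 0 0 (.focus 39 (.cons [4, 1] 0 0 (.base (nat_lit 16771936) (.and 0 9 (.dead0 0))) .nil)) .nil)) (.cons [9, 4] 0 0 (.op 5 0 (.and 1 0 (.dead0 0))) .nil))))))))))))))))))))))))))))))))))))))))) (.cons [10, 3] 0 0 (.focus 21 (.focus 19 (.focus 17 (.focus 15 (.focus 13 (.focus 11 (.focus 9 (.focus 7 (.focus 5 (.focus 3 (.focus 1 (.xor 22 0 (.focus 0 (.op 4 1 (.xor 24 0 (.focus 0 (.op 7 3 (.xor 26 0 (.focus 0 (.op 4 3 (.xor 28 0 (.focus 0 (.op 7 3 (.xor 30 0 (.focus 0 (.op 4 3 (.xor 32 0 (.focus 0 (.op 7 3 (.xor 34 0 (.focus 0 (.op 4 3 (.xor 36 0 (.focus 0 (.op 7 3 (.xor 38 0 (.focus 0 (.cons [] 0 0 (.focus 16 (.cons [4] 0 0 (.focus 39 (.cons [1] 0 0 (.base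 (nat_lit 16771936) (.and 0 17 (.dead0 0))) .nil)) .nil)) (.cons [4] 0 0 (.op 5 0 (.and 1 0 (.dead0 0))) (.cons [3, 2] 0 0 (.focus 16 (.cons [14, 3] 0 0 (.focus 39 (.cons [4, 1] 0 0 (.base (nat_lit 16771936) (.and 0 37 (.dead0 0))) .nil)) .nil)) (.cons [13, 4] 0 0 (.op 5 0 (.and 1 0 (.dead0 0))) .nil))))))))))))))))))))))))))))))))))))))))) (.cons [11, 3] 0 0 (.op 5 0 (.and 1 0 (.dead0 0))) (.cons [7, 1] 0 0 (.focus 21 (.focus 19 (.focus 17 (.focus 15 (.focus 13 (.focus 11 (.focus 9 (.focus 7 (.focus 5 (.focus 3 (.focus 1 (.xor 22 0 (.focus 0 (.op 4 1 (.xor 24 0 (.focus 0 (.op 7 3 (.xor 26 0 (.focus 0 (.op 4 3 (.xor 28 0 (.focus 0 (.op 7 3 (.xor 30 0 (.focus 0 (.op 4 3 (.xor 32 0 (.focus 0 (.op 7 3 (.xor 34 0 (.focus 0 (.op 4 3 (.xor 36 0 (.focus 0 (.op 7 3 (.xor 38 0 (.focus 0 (.cons [4] 0 0 (.focus 16 (.cons [13, 3] 0 0 (.focus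 39 (.cons [8, 1] 0 0 (.base (nat_lit 16771936) (.and 0 15 (.dead0 0))) .nil)) .nil)) (.cons [4, 2] 0 0 (.op 5 0 (.and 1 0 (.dead0 0))) (.cons [6, 2] 0 0 (.focus 16 (.cons [3] 0 0 (.focus 39 (.cons [9, 3] 0 0 (.base (nat_lit 16771936) (.and 0 39 (.dead0 0))) .nil)) .nil)) (.cons [12, 3] 0 0 (.op 5 0 (.and 1 0 (.dead0 0))) .nil))))))))))))))))))))))))))))))))))))))))) (.cons [20, 3] 0 0 (.focus 21 (.focus 19 (.focus 17 (.focus 15 (.focus 13 (.focus 11 (.focus 9 (.focus 7 (.focus 5 (.focus 3 (.focus 1 (.xor 22 0 (.focus 0 (.op 4 1 (.xor 24 0 (.focus 0 (.op 7 3 (.xor 26 0 (.focus 0 (.op 4 3 (.xor 28 0 (.focus 0 (.op 7 3 (.xor 30 0 (.focus 0 (.op 4 3 (.xor 32 0 (.focus 0 (.op 7 3 (.xor 34 0 (.focus 0 (.op 4 3 (.xor 36 0 (.focus 0 (.op 7 3 (.xor 38 0 (.focus 0 (.cons [] 0 0 (.focus 16 (.cons [5, 3] 0 0 (.focus 39 (.cons [8, 1] 0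 0 (.base (nat_lit 16771936) (.and 0 11 (.dead0 0))) .nil)) .nil)) (.cons [12, 3] 0 0 (.op 5 0 (.and 1 0 (.dead0 0))) (.cons [6, 2] 0 0 (.op 5 0 (.and 1 0 (.dead0 0))) (.cons [12, 2] 0 0 (.focus 16 (.cons [6, 1] 0 0 (.focus 39 (.cons [5, 2, 3] 0 0 (.base (nat_lit 16771936) (.and 0 35 (.dead0 0))) .nil)) .nil)) .nil))))))))))))))))))))))))))))))))))))))))) (.cons [7, 4] 0 0 (.focus 21 (.focus 19 (.focus 17 (.focus 15 (.focus 13 (.focus 11 (.focus 9 (.focus 7 (.focus 5 (.focus 3 (.focus 1 (.xor 22 0 (.focus 0 (.op 4 1 (.xor 24 0 (.focus 0 (.op 7 3 (.xor 26 0 (.focus 0 (.op 4 3 (.xor 28 0 (.focus 0 (.op 7 3 (.xor 30 0 (.focus 0 (.op 4 3 (.xor 32 0 (.focus 0 (.op 7 3 (.xor 34 0 (.focus 0 (.op 4 3 (.xor 36 0 (.focus 0 (.op 7 3 (.xor 38 0 (.focus 0 (.cons [3] 0 0 (.focus 16 (.cons [12, 3] 0 0 (.focus 39 (.cons [8, 1] 0 0 (.base (nat_lit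 16771936) (.and 0 35 (.dead0 0))) .nil)) .nil)) (.cons [3, 2] 0 0 (.focus 16 (.cons [4] 0 0 (.focus 39 (.cons [5, 4] 0 0 (.base (nat_lit 16771936) (.and 0 11 (.dead0 0))) .nil)) .nil)) (.cons [13, 4] 0 0 (.op 5 0 (.and 1 0 (.dead0 0))) (.cons [12, 4] 0 0 (.op 5 0 (.and 1 0 (.dead0 0))) .nil))))))))))))))))))))))))))))))))))))))))) (.cons [15, 4] 0 0 (.focus 21 (.focus 19 (.focus 17 (.focus 15 (.focus 13 (.focus 11 (.focus 9 (.focus 7 (.focus 5 (.focus 3 (.focus 1 (.xor 22 0 (.focus 0 (.op 4 1 (.xor 24 0 (.focus 0 (.op 7 3 (.xor 26 0 (.focus 0 (.op 4 3 (.xor 28 0 (.focus 0 (.op 7 3 (.xor 30 0 (.focus 0 (.op 4 3 (.xor 32 0 (.focus 0 (.op 7 3 (.xor 34 0 (.focus 0 (.op 4 3 (.xor 36 0 (.focus 0 (.op 7 3 (.xor 38 0 (.focus 0 (.cons [] 0 0 (.focus 16 (.cons [12, 3] 0 0 (.focus 39 (.cons [5, 4] 0 0 (.base (nat_lit 16771936) (.and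 0 37 (.dead0 0))) .nil)) .nil)) (.cons [12, 4] 0 0 (.focus 16 (.cons [9, 3] 0 0 (.focus 39 (.cons [9, 3] 0 0 (.base (nat_lit 16771936) (.and 0 17 (.dead0 0))) .nil)) .nil)) (.cons [11, 2] 0 0 (.op 5 0 (.and 1 0 (.dead0 0))) (.cons [1, 12, 3] 0 0 (.op 5 0 (.and 1 0 (.dead0 0))) .nil))))))))))))))))))))))))))))))))))))))))) (.cons [9, 4] 0 0 (.focus 21 (.focus 19 (.focus 17 (.focus 15 (.focus 13 (.focus 11 (.focus 9 (.focus 7 (.focus 5 (.focus 3 (.focus 1 (.xor 22 0 (.focus 0 (.op 4 1 (.xor 24 0 (.focus 0 (.op 7 3 (.xor 26 0 (.focus 0 (.op 4 3 (.xor 28 0 (.focus 0 (.op 7 3 (.xor 30 0 (.focus 0 (.op 4 3 (.xor 32 0 (.focus 0 (.op 7 3 (.xor 34 0 (.focus 0 (.op 4 3 (.xor 36 0 (.focus 0 (.op 7 3 (.xor 38 0 (.focus 0 (.cons [] 0 0 (.focus 16 (.cons [10, 3] 0 0 (.focus 39 (.cons [4] 0 0 (.base (nat_lit 16771936) (.and 0 13 (.dead0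 0))) .nil)) .nil)) (.cons [9, 2] 0 0 (.op 5 0 (.and 1 0 (.dead0 0))) (.cons [1, 4] 0 0 (.op 5 0 (.and 1 0 (.dead0 0))) (.cons [5, 2] 0 0 (.focus 16 (.cons [13, 2] 0 0 (.focus 39 (.cons [4, 4] 0 0 (.base (nat_lit 16771936) (.and 0 33 (.dead0 0))) .nil)) .nil)) .nil))))))))))))))))))))))))))))))))))))))))) (.cons [21, 2] 0 0 (.focus 21 (.focus 19 (.focus 17 (.focus 15 (.focus 13 (.focus 11 (.focus 9 (.focus 7 (.focus 5 (.focus 3 (.focus 1 (.xor 22 0 (.focus 0 (.op 4 1 (.xor 24 0 (.focus 0 (.op 7 3 (.xor 26 0 (.focus 0 (.op 4 3 (.xor 28 0 (.focus 0 (.op 7 3 (.xor 30 0 (.focus 0 (.op 4 3 (.xor 32 0 (.focus 0 (.op 7 3 (.xor 34 0 (.focus 0 (.op 4 3 (.xor 36 0 (.focus 0 (.op 7 3 (.xor 38 0 (.focus 0 (.cons [] 0 0 (.op 5 0 (.and 1 0 (.dead0 0))) (.cons [9, 2] 0 0 (.focus 16 (.cons [6, 2] 0 0 (.focus 39 (.cons [5, 4] 0 0 (.base (nat_lit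 16771936) (.and 0 13 (.dead0 0))) .nil)) .nil)) (.cons [12, 2] 0 0 (.op 5 0 (.and 1 0 (.dead0 0))) (.cons [3, 2] 0 0 (.focus 16 (.cons [13, 2] 0 0 (.focus 39 (.cons [3, 6, 1] 0 0 (.base (nat_lit 16771936) (.and 0 13 (.dead0 0))) .nil)) .nil)) .nil))))))))))))))))))))))))))))))))))))))))) .nil))))))))))))))))))))))))))))))))))))))))))))))
noncomputable def K11 : Tr := (.sym [[1]] (.cons [] 10 1 K11_2 (.cons [1] 10 0 K11_1 (.cons [5, 1] 0 0 (.op 5 0 (.and 1 0 (.dead0 0))) (.cons [18, 3] 0 0 (.op 5 0 (.and 1 0 (.dead0 0))) .nil)))))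
noncomputable def K11K : List (List Nat) := [[3, 8, 20, 12, 22, 15, 20, 23, 21, 27]]
noncomputable def K11F : List (List Nat) := [[], [1]]
noncomputable def w11 : List Nat := [4, 1, 4, 1, 4, 1, 3, 1, 3, 1, 3, 1]
noncomputable def ms11 : List Nat := [0, 0, 0, 0, 0, 0, 0, 0, 0, 0, 0, 0, 0, 0, 0, 0, 230, 0, 0, 0, 0, 0, 0, 0, 0, 0, 0]
noncomputable def us11 : List (List Nat × List Nat) := [([7, 175, 177, 179], []), ([175, 179, 181, 183, 187], []), ([7, 175, 179, 181, 183, 187, 193], []), ([181, 183, 189], []), ([], [1]), ([175, 177, 179, 181, 189], [1]), ([179, 181, 187, 189, 193], []), ([7, 175, 177, 179, 183, 187, 189], [1]), ([7, 175, 183, 191], [1]), ([7, 175, 179, 181, 187, 189], []), ([175, 177, 187, 191], [1])]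
noncomputable def K23 : Tr := (.sym [[1]] (.cons [] 22 1 (.op 7 0 (.op 7 0 (.op 7 0 (.op 7 0 (.op 7 0 (.op 7 0 (.op 7 0 (.focus 0 (.cons [] 0 1 (.focus 5 (.cons [] 0 1 (.op 7 1 (.op 7 0 (.op 7 0 (.op 7 0 (.op 7 0 (.op 7 0 (.op 7 0 (.focus 0 (.cons [] 0 1 (.op 4 17 (.op 4 0 (.op 4 0 (.op 4 0 (.focus 0 (.cons [] 0 1 (.focus 4 (.cons [] 0 1 (.focus 4 (.cons [] 0 1 .triv .nil)) .nil)) .nil)))))) .nil))))))))) .nil)) .nil))))))))) (.cons [24, 3] 0 0 (.op 5 0 (.and 1 0 (.dead0 0))) .nil)))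
noncomputable def K23K : List (List Nat) := [[1, 7]]
noncomputable def K23F : List (List Nat) := [[], [1]]
noncomputable def w23 : List Nat := [3, 1]
noncomputable def ms23 : List Nat := [0, 0, 0, 0, 0, 0, 0, 0, 0, 0, 0, 0, 0, 0, 0, 0, 22, 0, 0, 0, 0, 0, 0, 0, 0, 0, 0]
noncomputable def us23 : List (List Nat × List Nat) := [([179, 181, 187, 189, 193], []), ([175, 179, 181, 187, 189, 193], []), ([7, 175, 185], []), ([7, 175, 177, 179, 181, 183, 187, 189], []), ([7, 189, 191, 193], []), ([179, 187, 193], []), ([177, 179, 185, 191, 193], []), ([7, 177, 183, 187, 189, 191], []), ([7, 175, 179, 181, 183, 185, 189, 191, 193], []), ([179, 191, 193], []), ([7, 183, 185, 189, 191, 193], [])]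

end CF.J4F
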