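import Cfsg.Agent.Bt.Defs
import Cfsg.Agent.Dce.J4.Mat

/-! Data for elements of order three. -/

set_option autoImplicit false
set_option maxRecDepth 1000000
set_option maxHeartbeats 0
set_option Elab.async false

namespace CF.J4F

open CF.Comp CF.Bt CF.Dce CF.Dce.J4

noncomputable def CwV : List Nat := [(nat_lit 0xc9bd360c8dbf063e9a3),
  (nat_lit 0x188afee960b4bd46c5b2),
  (nat_lit 0x17a416e5ca61ee8eaae4),
  (nat_lit 0x8a6c45925af1caac280),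
  (nat_lit 0x10d4da4bf6187e455e96),
  (nat_lit 0x1ad6a7e165c654da35d0),
  (nat_lit 0x199ab14c874d35eaa7b2),
  (nat_lit 0x486a72f9057a0e04ba),
  (nat_lit 0x2b7f7b5d9347151e580),
  (nat_lit 0x76382e8533cd7afb834),
  (nat_lit 0xe29685fcb5d0b57c22e),
  (nat_lit 0xb49163be2679f5941ba),
  (nat_lit 0xbb1f6c0516440f0181e),
  (nat_lit 0x1dee013da0babe1fc518),
  (nat_lit 0x9a1440a442744356ff8),
  (nat_lit 0xa3c4cf2543e2c31158),
  (nat_lit 0x1ffeb3f7b5f9badab2fe),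
  (nat_lit 0xb017c491b62e5574500),
  (nat_lit 0x16fc3332d49d1c2ccc5e),
  (nat_lit 0x1f5d773890ba5819a3a6),
  (nat_lit 0x1d4dc5f285f95cdcd440),
  (nat_lit 0x144f4537e49dfa2aaae0),
  (nat_lit 0x16fc3332d49d1c2ccc5e),
  (nat_lit 0x1dee013da0babe1fc518),
  (nat_lit 0x203fc8c7a0643a13ba0),
  (nat_lit 0x210b2ca154304c577e6),
  (nat_lit 0),
  (nat_lit 0x14ffcfbeae9b5f8df7fe),
  (nat_lit 0x16ef7d74bbd85b488018),
  (nat_lit 0x1d4dc5f285f95cdcd440),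
  (nat_lit 0x1dfd4f7bcffff97b895e),
  (nat_lit 0x210b2ca154304c577e6),
  (nat_lit 0x210b2ca154304c577e6),
  (nat_lit 0xa3c4cf2543e2c31158),
  (nat_lit 0x134e466f4547644c46),
  (nat_lit 0xba2b8863e2107945458),
  (nat_lit 0x145c0b718bd8bd4ee6a6),
  (nat_lit 0x1dee013da0babe1fc518),
  (nat_lit 0x16ef7d74bbd85b488018),
  (nat_lit 0x16ef7d74bbd85b488018),
  (nat_lit 0x2a038435f45a1622af8),
  (nat_lit 0xb12320f7427a2330946),
  (nat_lit 0x145c0b718bd8bd4ee6a6),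
  (nat_lit 0xb08a894a06a5a75d1e),
  (nat_lit 0x911ce830e21e19232e6),
  (nat_lit 0x1d5e8bb4eabc1bb89806),
  (nat_lit 0xbb1f6c0516440f0181e),
  (nat_lit 0x1d5e8bb4eabc1bb89806),
  (nat_lit 0x1ffeb3f7b5f9badab2fe),
  (nat_lit 0x2b376053000e60666be),
  (nat_lit 0x16fc3332d49d1c2ccc5e),
  (nat_lit 0x203fc8c7a0643a13ba0),
  (nat_lit 0x203fc8c7a0643a13ba0),
  (nat_lit 0x144f4537e49dfa2aaae0),
  (nat_lit 0x2a038435f45a1622af8),
  (nat_lit 0x2b376053000e60666be),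
  (nat_lit 0xb12320f7427a2330946),
  (nat_lit 0x210b2ca154304c577e6),
  (nat_lit 0xb017c491b62e5574500),
  (nat_lit 0x134e466f4547644c46),
  (nat_lit 0x144f4537e49dfa2aaae0),
  (nat_lit 0x14ec81f8c1de18e9bbb8),
  (nat_lit 0x14ec81f8c1de18e9bbb8),
  (nat_lit 0x165ff7fdf1defeefdd06),
  (nat_lit 0x134e466f4547644c46),
  (nat_lit 0x9b20a4c2b62035123be),
  (nat_lit 0x145c0b718bd8bd4ee6a6),
  (nat_lit 0x14ec81f8c1de18e9bbb8),
  (nat_lit 0x1f4e397effff1f7defe0),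
  (nat_lit 0x164cb9bb9e9bb98b9140),
  (nat_lit 0x1ffeb3f7b5f9badab2fe),
  (nat_lit 0x1ffeb3f7b5f9badab2fe),
  (nat_lit 0x203fc8c7a0643a13ba0),
  (nat_lit 0x2a038435f45a1622af8),
  (nat_lit 0xba2b8863e2107945458),
  (nat_lit 0x911ce830e21e19232e6),
  (nat_lit 0x2b376053000e60666be),
  (nat_lit 0x14ffcfbeae9b5f8df7fe),
  (nat_lit 0x145c0b718bd8bd4ee6a6),
  (nat_lit 0x911ce830e21e19232e6),
  (nat_lit 0x1f4e397effff1f7defe0),
  (nat_lit 0x144f4537e49dfa2aaae0),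
  (nat_lit 0x210b2ca154304c577e6),
  (nat_lit 0x2a038435f45a1622af8),
  (nat_lit 0x2a038435f45a1622af8),
  (nat_lit 0),
  (nat_lit 0),
  (nat_lit 0),
  (nat_lit 0x1ffeb3f7b5f9badab2fe),
  (nat_lit 0),
  (nat_lit 0x1ffeb3f7b5f9badab2fe),
  (nat_lit 0x1ffeb3f7b5f9badab2fe),
  (nat_lit 0),
  (nat_lit 0x1ffeb3f7b5f9badab2fe),
  (nat_lit 0),
  (nat_lit 0),
  (nat_lit 0),
  (nat_lit 0),
  (nat_lit 0),
  (nat_lit 0),
  (nat_lit 0x1ffeb3f7b5f9badab2fe),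
  (nat_lit 0),
  (nat_lit 0x1ffeb3f7b5f9badab2fe),
  (nat_lit 0x1ffeb3f7b5f9badab2fe),
  (nat_lit 0x1ffeb3f7b5f9badab2fe),
  (nat_lit 0),
  (nat_lit 0),
  (nat_lit 0),
  (nat_lit 0),
  (nat_lit 0),
  (nat_lit 0),
  (nat_lit 0)]
noncomputable def CwS : Net := (Net.cons (nat_lit 1) (nat_lit 0x150401155104045050) (Net.cons (nat_lit 2) (nat_lit 0x1133131123023210310) (Net.cons (nat_lit 4) (nat_lit 0xc000b0a0305050404) (Net.cons (nat_lit 8) (nat_lit 0xe0075006100a10000) (Net.cons (nat_lit 16) (nat_lit 0x43cc000000a3) (Net.cons (nat_lit 32) (nat_lit 4936) (Net.cons (nat_lit 64) (nat_lit 6143) (Net.cons (nat_lit 32) (nat_lit 2521285097) (Net.cons (nat_lit 16) (nat_lit 0xfa4900001f80) (Net.cons (nat_lit 8) (nat_lit 0x12007e007a00ee00e7) (Net.cons (nat_lit 4) (nat_lit 0x200010f070a030b00) (Net.cons (nat_lit 2) (nat_lit 0x1303100210310111102) (Net.cons (nat_lit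 1) (nat_lit 0x4400114145041505111) Net.nil)))))))))))))
noncomputable def CwN_0 : Net := (Net.cons (nat_lit 1) (nat_lit 0x4005040450011005000) (Net.cons (nat_lit 2) (nat_lit 0x3002133201111320310) (Net.cons (nat_lit 4) (nat_lit 0x1040c00060c0d0a0502) (Net.cons (nat_lit 8) (nat_lit 0xf00d8000e00d20000) (Net.cons (nat_lit 16) (nat_lit 0x433800001283) (Net.cons (nat_lit 32) (nat_lit 836) (Net.cons (nat_lit 64) (nat_lit 5103) (Net.cons (nat_lit 32) (nat_lit 393503496) (Net.cons (nat_lit 16) (nat_lit 0x27950000535c) (Net.cons (nat_lit 8) (nat_lit 0x1700a4005d006f00b8) (Net.cons (nat_lit 4) (nat_lit 0x1010b010e060a090302) (Net.cons (nat_lit 2) (nat_lit 0x3212010301311012222) (Net.cons (nat_lit 1) (nat_lit 0x4401041104455455154) Net.nil)))))))))))))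
noncomputable def CwN_1 : Net := (Net.cons (nat_lit 1) (nat_lit 0x451410144114040400) (Net.cons (nat_lit 2) (nat_lit 0x2010303010331133310) (Net.cons (nat_lit 4) (nat_lit 0x509080f0a02060202) (Net.cons (nat_lit 8) (nat_lit 0x1c00cc00b000c40000) (Net.cons (nat_lit 16) (nat_lit 0xa9a100000fca) (Net.cons (nat_lit 32) (nat_lit 5185) (Net.cons (nat_lit 64) (nat_lit 8143) (Net.cons (nat_lit 32) (nat_lit 2220896193) (Net.cons (nat_lit 16) (nat_lit 0x1c0700008c16) (Net.cons (nat_lit 8) (nat_lit 0x12006300d800c90006) (Net.cons (nat_lit 4) (nat_lit 0xe040c000f0a09080e) (Net.cons (nat_lit 2) (nat_lit 0x3300201112301001210) (Net.cons (nat_lit 1) (nat_lit 0x11101145054044504) Net.nil)))))))))))))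
noncomputable def CwN_2 : Net := Net.nil
noncomputable def CwN_3 : Net := (Net.cons (nat_lit 1) (nat_lit 0x411144500550400410) (Net.cons (nat_lit 2) (nat_lit 0x3121221110121201011) (Net.cons (nat_lit 4) (nat_lit 0x50c0c00010c0d070a) (Net.cons (nat_lit 8) (nat_lit 0x10000b006200800020) (Net.cons (nat_lit 16) (nat_lit 0x980e000019b2) (Net.cons (nat_lit 32) (nat_lit 1065) (Net.cons (nat_lit 64) (nat_lit 7679) (Net.cons (nat_lit 32) (nat_lit 726331396) (Net.cons (nat_lit 16) (nat_lit 0x1ea9000097a0) (Net.cons (nat_lit 8) (nat_lit 0x16003c004f0051008d) (Net.cons (nat_lit 4) (nat_lit 0xe0e040109090c030f) (Net.cons (nat_lit 2) (nat_lit 0x323112231301020220) (Net.cons (nat_lit 1) (nat_lit 0x55140150105140004) Net.nil)))))))))))))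
noncomputable def CwN_4 : Net := (Net.cons (nat_lit 1) (nat_lit 0x4111544411045510005) (Net.cons (nat_lit 2) (nat_lit 0x1010322013130220000) (Net.cons (nat_lit 4) (nat_lit 0x102020401060f000100) (Net.cons (nat_lit 8) (nat_lit 0x11008f00f4005500c0) (Net.cons (nat_lit 16) (nat_lit 0x617200001189) (Net.cons (nat_lit 32) (nat_lit 3425) (Net.cons (nat_lit 64) (nat_lit 8175) (Net.cons (nat_lit 32) (nat_lit 690931192) (Net.cons (nat_lit 16) (nat_lit 0x8e4300005bb2) (Net.cons (nat_lit 8) (nat_lit 0x1e00d6000000980074) (Net.cons (nat_lit 4) (nat_lit 0x807010e0c0107090c) (Net.cons (nat_lit 2) (nat_lit 0x1012013111033020331) (Net.cons (nat_lit 1) (nat_lit 0x4001101450555051110) Net.nil)))))))))))))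
noncomputable def CwN : List Net := [CwN_0, CwN_1, CwN_2, CwN_3, CwN_4]
noncomputable def CwT : List (List Nat) := [[297], [289], [331], [321], [323]]
noncomputable def CwC : List Lvl := [⟨0, [[1], [4, 1]], 6⟩, ⟨2, [[4], [1, 4, 2]], 6⟩, ⟨1, [[2, 2, 2, 3, 2, 2, 4, 2, 3, 2]], 2⟩, ⟨3, [[1, 3, 2, 4, 2, 4, 2, 4, 2, 3, 2], [2, 4, 1, 3, 1, 1, 3, 1, 4, 1, 4, 1], [3, 2, 2, 2, 3, 2, 2, 2, 3, 2, 4, 2, 2]], 2⟩]
noncomputable def P3b : List (List Nat × List Nat) := [([43], []), ([43, 43], [291, 315, 297, 290, 297, 297, 297, 289, 298, 289, 297, 289, 298, 297, 290, 297, 297, 297, 289, 298, 289, 297, 289, 298, 292]), ([289], [291, 315, 297, 290, 297, 297, 297, 289, 298, 289, 297, 289, 298, 297, 290, 297, 297, 297, 289, 298, 289, 297, 289, 298]), ([43, 289], [291, 297, 290, 297, 297, 297, 289, 298, 289, 297, 289, 298, 297, 290, 297, 297, 297, 289, 298, 289, 297,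 289, 298]), ([43, 43, 289], [291, 317, 317]), ([289, 289], [291]), ([43, 289, 289], [291, 316]), ([43, 43, 289, 289], [291, 315]), ([315], [291, 315, 317]), ([43, 315], [291, 317]), ([43, 43, 315], [291, 317, 290]), ([289, 315], [291, 297, 290, 298, 290, 297, 290, 298, 298, 298, 289, 298]), ([43, 289, 315], [291, 316, 297, 290, 298, 290, 297, 290, 298, 298, 298, 289, 298]), ([43, 43, 289, 315], [291, 315, 297, 290, 298, 290, 297, 290, 298, 298, 298, 289, 298]), ([289, 289, 315], [291, 319, 297, 290, 297, 297, 297, 289, 298, 289, 297, 289, 298]), ([43, 289, 289, 315], [291, 317, 297, 290, 298, 290, 297, 290, 298, 298, 298, 289, 298]), ([43, 43, 289, 289, 315], [291, 297, 290, 298, 290, 297, 290, 298, 298, 298, 289, 298, 319]), ([315, 315], [291, 315, 319]), ([43, 315, 315], [291, 319]), ([43, 43, 315, 315], [291, 319, 289]), ([289, 315, 315], [291,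 317, 297, 290, 297, 297, 297, 289, 298, 289, 297, 289, 298]), ([43, 289, 315, 315], [291, 297, 290, 298, 290, 297, 290, 298, 298, 298, 289, 298, 317]), ([43, 43, 289, 315, 315], [291, 319, 297, 290, 298, 290, 297, 290, 298, 298, 298, 289, 298]), ([289, 289, 315, 315], [291, 297, 290, 297, 297, 297, 289, 298, 289, 297, 289, 298]), ([43, 289, 289, 315, 315], [291, 316, 297, 290, 297, 297, 297, 289, 298, 289, 297, 289, 298]), ([43, 43, 289, 289, 315, 315], [291, 315, 297, 290, 297, 297, 297, 289, 298, 289, 297, 289, 298])]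
noncomputable def c6Bb : Tr := (.sym [[1], [3], [5], [7], [9], [11]] (.cons [] 3 32 (.base (nat_lit 0xbb3fecf7f67e7f77ffe) (.focus 0 (.sym [[1], [3], [5], [7], [9]] (.cons [] 1 1 (.base (nat_lit 0x100200000000000002) (.focus 0 (.cons [] 0 1 (.base (nat_lit 0xa3c4cf2543e2c31158) (.focus 0 (.op 4 0 (.focus 0 (.cons [] 0 1 .triv (.cons [5] 0 0 (.base (nat_lit 64) (.op 4 4 (.and 1 0 (.dead0 0)))) (.cons [3] 0 0 (.op 5 0 (.and 1 0 (.dead0 0))) (.cons [4] 0 0 (.op 5 0 (.and 1 0 (.dead0 0))) (.cons [1, 3] 0 0 (.base (nat_lit 64) (.op 4 4 (.and 1 0 (.dead0 0)))) (.cons [1, 5] 0 0 (.op 5 0 (.and 1 0 (.dead0 0))) (.cons [5, 1] 0 0 (.op 5 0 (.and 1 0 (.dead0 0))) (.cons [4, 1] 0 0 (.base (nat_lit 64) (.op 4 4 (.and 1 0 (.dead0 0)))) (.cons [1, 4, 1] 0 0 (.op 5 0 (.and 1 0 (.dead0 0))) (.cons [1, 3, 1] 0 0 (.op 5 0 (.and 1 0 (.dead0 0))) (.cons [5, 1, 3] 0 0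 (.op 5 0 (.and 1 0 (.dead0 0))) (.cons [3, 5, 1] 0 0 (.op 5 0 (.and 1 0 (.dead0 0))) (.cons [1, 4, 1, 4] 0 0 (.base (nat_lit 64) (.op 4 4 (.and 1 0 (.dead0 0)))) (.cons [5, 3, 3, 1] 0 0 (.op 5 0 (.and 1 0 (.dead0 0))) (.cons [5, 4, 1, 4] 0 0 (.op 5 0 (.and 1 0 (.dead0 0))) (.cons [5, 1, 4, 1, 4] 0 0 (.base (nat_lit 64) (.op 4 4 (.and 1 0 (.dead0 0)))) .nil)))))))))))))))))))) (.cons [1] 0 0 (.base (nat_lit 0x1000180001000000) (.op 5 0 (.and 1 0 (.dead0 0)))) (.cons [2] 0 0 (.base (nat_lit 0x1000180001000000) (.op 5 0 (.and 1 0 (.dead0 0)))) .nil))))) (.cons [4] 1 0 (.base (nat_lit 0x100200000000000002) (.op 4 1 (.and 1 0 (.dead0 0)))) (.cons [4, 2] 1 0 (.op 5 0 (.and 1 0 (.dead0 0))) (.cons [2, 3] 0 0 (.op 5 0 (.and 1 0 (.dead0 0))) (.cons [1, 4] 1 0 (.base (nat_lit 0x4080120000000000000) (.op 5 0 (.and 1 0 (.dead0 0)))) (.cons [2, 3, 1] 0 0 (.op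 5 0 (.and 1 0 (.dead0 0))) (.cons [1, 4, 1] 1 0 (.base (nat_lit 0x4080120000000000000) (.op 5 0 (.and 1 0 (.dead 0)))) (.cons [2, 3, 2] 1 0 (.op 5 0 (.and 1 0 (.dead0 0))) .nil))))))))))) (.cons [3] 2 0 (.op 5 0 (.and 1 0 (.dead0 0))) (.cons [3, 1] 2 0 (.op 5 0 (.and 1 0 (.dead0 0))) (.cons [5, 2, 6, 1, 3] 0 0 (.base (nat_lit 0xbb3fecf7f67e7f77ffe) (.op 5 0 (.and 1 0 (.dead 0)))) .nil)))))
noncomputable def c6BbK : List (List Nat) := [[7, 1, 9, 7, 3], [1, 3, 10, 8, 9, 9, 3, 2, 3], [9, 9, 7, 10, 2, 7], [8, 1, 9, 9, 2, 7], [1, 4, 8, 1, 1, 7, 7], [7, 3, 2, 7, 3, 9, 7, 3]]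
noncomputable def c6BbF : List (List Nat) := [[], [1]]
noncomputable def c6Cb : Tr := (.sym [[1], [3], [5], [7], [9], [11]] (.cons [] 3 32 (.base (nat_lit 0xbb3fecf7f67e7f77ffe) (.focus 0 (.sym [[1], [3], [5], [7], [9]] (.cons [] 1 1 (.base (nat_lit 0x100200000000000002) (.focus 0 (.cons [] 0 1 (.base (nat_lit 0xa3c4cf2543e2c31158) (.focus 0 (.op 4 0 (.focus 0 (.cons [] 0 1 .triv (.cons [5] 0 0 (.base (nat_lit 64) (.op 4 4 (.and 1 0 (.dead0 0)))) (.cons [3] 0 0 (.op 5 0 (.and 1 0 (.dead0 0))) (.cons [4] 0 0 (.op 5 0 (.and 1 0 (.dead0 0))) (.cons [1, 3] 0 0 (.base (nat_lit 64) (.op 4 4 (.and 1 0 (.dead0 0)))) (.cons [1, 5] 0 0 (.op 5 0 (.and 1 0 (.dead0 0))) (.cons [5, 1] 0 0 (.op 5 0 (.and 1 0 (.dead0 0))) (.cons [4, 1] 0 0 (.base (nat_lit 64) (.op 4 4 (.and 1 0 (.dead0 0)))) (.cons [1, 4, 1] 0 0 (.op 5 0 (.and 1 0 (.dead0 0))) (.cons [1, 3, 1] 0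 0 (.op 5 0 (.and 1 0 (.dead0 0))) (.cons [5, 1, 3] 0 0 (.op 5 0 (.and 1 0 (.dead0 0))) (.cons [3, 5, 1] 0 0 (.op 5 0 (.and 1 0 (.dead0 0))) (.cons [1, 4, 1, 4] 0 0 (.base (nat_lit 64) (.op 4 4 (.and 1 0 (.dead0 0)))) (.cons [5, 3, 3, 1] 0 0 (.op 5 0 (.and 1 0 (.dead0 0))) (.cons [5, 4, 1, 4] 0 0 (.op 5 0 (.and 1 0 (.dead0 0))) (.cons [5, 1, 4, 1, 4] 0 0 (.base (nat_lit 64) (.op 4 4 (.and 1 0 (.dead0 0)))) .nil)))))))))))))))))))) (.cons [1] 0 0 (.base (nat_lit 0x1000180001000000) (.op 5 0 (.and 1 0 (.dead0 0)))) (.cons [2] 0 0 (.base (nat_lit 0x1000180001000000) (.op 5 0 (.and 1 0 (.dead0 0)))) .nil))))) (.cons [4] 1 0 (.base (nat_lit 0x100200000000000002) (.op 4 1 (.and 1 0 (.dead0 0)))) (.cons [4, 2] 1 0 (.op 5 0 (.and 1 0 (.dead0 0))) (.cons [2, 3] 0 0 (.op 5 0 (.and 1 0 (.dead0 0))) (.cons [1, 4] 1 0 (.base (nat_lit 0x4080120000000000000) (.op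 5 0 (.and 1 0 (.dead0 0)))) (.cons [2, 3, 1] 0 0 (.op 5 0 (.and 1 0 (.dead0 0))) (.cons [1, 4, 1] 1 0 (.base (nat_lit 0x4080120000000000000) (.op 5 0 (.and 1 0 (.dead 0)))) (.cons [2, 3, 2] 1 0 (.op 5 0 (.and 1 0 (.dead0 0))) .nil))))))))))) (.cons [3] 2 0 (.op 5 0 (.and 1 0 (.dead0 0))) (.cons [3, 1] 2 0 (.op 5 0 (.and 1 0 (.dead0 0))) (.cons [5, 2, 6, 1, 3] 0 0 (.base (nat_lit 0xbb3fecf7f67e7f77ffe) (.op 5 0 (.and 1 0 (.dead 0)))) .nil)))))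
noncomputable def c6CbK : List (List Nat) := [[7, 1, 9, 7, 3], [1, 3, 10, 8, 9, 9, 3, 2, 3], [9, 9, 7, 10, 2, 7], [8, 1, 9, 9, 2, 7], [1, 4, 8, 1, 1, 7, 7], [7, 3, 2, 7, 3, 9, 7, 3]]
noncomputable def c6CbF : List (List Nat) := [[], [1]]
noncomputable def c6Bc : List Lvl := [⟨0, [[7], [4, 8, 10, 2]], 3⟩, ⟨1, [[4, 8, 10, 2, 8], [8, 1, 9, 7, 3, 7, 7], [1, 9, 7, 3, 8, 1, 9, 7, 3, 8]], 2⟩]
noncomputable def c12Ab : Tr := (.sym [[1], [3], [5], [7]] (.cons [] 3 8 (.base (nat_lit 0xbb3fecf7f67e7f77ffe) (.focus 0 (.op 4 0 (.focus 0 (.sym [[1], [3], [5]] (.cons [] 1 1 (.base (nat_lit 0x100200000000000002) (.focus 0 (.cons [] 0 1 (.base (nat_lit 0x1000180001000000) (.op 4 0 (.focus 0 (.op 7 1 (.focus 0 (.cons [] 0 1 .triv .nil)))))) (.cons [1] 0 0 (.base (nat_lit 0xa3c4cf2543e2c31158) (.op 7 1 (.and 1 0 (.dead0 0)))) (.cons [2] 0 0 (.base (nat_lit 0xa3c4cf2543e2c31158)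 (.op 7 1 (.and 1 0 (.dead0 0)))) .nil))))) (.cons [3] 1 0 (.base (nat_lit 0x3002800420000142c20) (.op 4 1 (.and 1 0 (.dead0 0)))) (.cons [1] 1 0 (.base (nat_lit 0x3002800420000142c20) (.op 4 1 (.and 1 0 (.dead0 0)))) (.cons [6, 1] 1 0 (.base (nat_lit 0x8001000182405204280) (.op 4 1 (.and 1 0 (.dead0 0)))) (.cons [4, 2] 1 0 (.op 8 0 (.and 1 0 (.dead0 0))) (.cons [2, 3] 0 0 (.op 5 0 (.and 1 0 (.dead0 0))) (.cons [1, 4, 1] 1 0 (.base (nat_lit 0x100200000000000002) (.op 7 1 (.and 1 0 (.dead0 0)))) (.cons [1, 4, 2] 1 0 (.base (nat_lit 0x100200000000000002) (.op 4 1 (.and 1 0 (.dead0 0)))) (.cons [2, 3, 2] 1 0 (.op 5 0 (.and 1 0 (.dead0 0))) (.cons [2, 4, 2, 3, 2] 1 0 (.op 5 0 (.and 1 0 (.dead0 0))) .nil))))))))))))))) (.cons [3] 3 0 (.op 8 0 (.and 1 0 (.dead0 0))) (.cons [3, 1] 3 0 (.op 8 0 (.and 1 0 (.dead0 0))) (.cons [1, 3] 1 0 (.op 8 0 (.and 1 0 (.dead0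 0))) (.cons [3, 3] 1 0 (.op 8 0 (.and 1 0 (.dead0 0))) (.cons [3, 6, 1, 3] 1 0 (.op 5 0 (.and 1 0 (.dead0 0))) (.cons [5, 7, 2, 2] 1 0 (.base (nat_lit 0xbb3fecf7f67e7f77ffe) (.op 5 0 (.and 1 0 (.dead 0)))) (.cons [5, 2, 6, 1, 3] 0 0 (.op 5 0 (.and 1 0 (.dead0 0))) .nil)))))))))
noncomputable def c12AbK : List (List Nat) := [[7, 9, 9, 7, 9, 2], [7, 4, 2, 7, 1, 9, 7], [10, 4, 9, 4, 9, 7, 9], [8]]
noncomputable def c12AbF : List (List Nat) := [[], [1], [1, 1]]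
noncomputable def c12Bb : Tr := (.sym [[1], [3], [5], [7]] (.cons [] 3 8 (.base (nat_lit 0xbb3fecf7f67e7f77ffe) (.focus 0 (.op 4 0 (.focus 0 (.sym [[1], [3], [5]] (.cons [] 1 1 (.base (nat_lit 0x100200000000000002) (.focus 0 (.cons [] 0 1 (.base (nat_lit 0x1000180001000000) (.op 4 0 (.focus 0 (.op 7 1 (.focus 0 (.cons [] 0 1 .triv .nil)))))) (.cons [1] 0 0 (.base (nat_lit 0xa3c4cf2543e2c31158) (.op 7 1 (.and 1 0 (.dead0 0)))) (.cons [2] 0 0 (.base (nat_lit 0xa3c4cf2543e2c31158) (.op 7 1 (.and 1 0 (.dead0 0)))) .nil))))) (.cons [3] 1 0 (.base (nat_lit 0x3002800420000142c20) (.op 4 1 (.and 1 0 (.dead0 0)))) (.cons [1] 1 0 (.base (nat_lit 0x3002800420000142c20) (.op 4 1 (.and 1 0 (.dead0 0)))) (.cons [6, 1] 1 0 (.base (nat_lit 0x8001000182405204280) (.op 4 1 (.and 1 0 (.dead0 0)))) (.cons [4, 2] 1 0 (.op 8 0 (.and 1 0 (.dead0 0))) (.cons [2, 3] 0 0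 (.op 5 0 (.and 1 0 (.dead0 0))) (.cons [1, 4, 1] 1 0 (.base (nat_lit 0x100200000000000002) (.op 7 1 (.and 1 0 (.dead0 0)))) (.cons [1, 4, 2] 1 0 (.base (nat_lit 0x100200000000000002) (.op 4 1 (.and 1 0 (.dead0 0)))) (.cons [2, 3, 2] 1 0 (.op 5 0 (.and 1 0 (.dead0 0))) (.cons [2, 4, 2, 3, 2] 1 0 (.op 5 0 (.and 1 0 (.dead0 0))) .nil))))))))))))))) (.cons [3] 3 0 (.op 8 0 (.and 1 0 (.dead0 0))) (.cons [3, 1] 3 0 (.op 8 0 (.and 1 0 (.dead0 0))) (.cons [1, 3] 1 0 (.op 8 0 (.and 1 0 (.dead0 0))) (.cons [3, 3] 1 0 (.op 8 0 (.and 1 0 (.dead0 0))) (.cons [3, 6, 1, 3] 1 0 (.op 5 0 (.and 1 0 (.dead0 0))) (.cons [5, 7, 2, 2] 1 0 (.base (nat_lit 0xbb3fecf7f67e7f77ffe) (.op 5 0 (.and 1 0 (.dead 0)))) (.cons [5, 2, 6, 1, 3] 0 0 (.op 5 0 (.and 1 0 (.dead0 0))) .nil)))))))))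
noncomputable def c12BbK : List (List Nat) := [[7, 9, 9, 7, 9, 2], [7, 4, 2, 7, 1, 9, 7], [10, 4, 9, 4, 9, 7, 9], [8]]
noncomputable def c12BbF : List (List Nat) := [[], [1], [1, 1]]
noncomputable def c12Ac : List Lvl := [⟨0, [[7]], 3⟩, ⟨1, [[10, 2, 8, 1, 3, 7, 7], [8, 4, 2, 7, 1, 9, 8]], 2⟩]
noncomputable def c24Ab : Tr := (.sym [[1], [3]] (.cons [] 3 2 (.base (nat_lit 0x144c0130809818088000) (.op 4 0 (.focus 0 (.op 2 0 (.op 7 2 (.xor 1 0 (.focus 0 (.sym [[1]] (.cons [] 1 1 (.focus 2 (.xor 3 4 (.focus 0 (.base (nat_lit 0x100200000000000002) (.focus 0 (.cons [] 0 1 (.focus 7 (.focus 5 (.xor 6 9 (.focus 0 (.op 4 10 (.op 4 0 (.xor 9 0 (.focus 0 (.base (nat_lit 0xa3c4cf2543e2c31158) (.focus 0 (.cons [] 0 1 .triv .nil))))))))))) .nil)))))) (.cons [1, 4, 1] 1 0 (.base (nat_lit 0x100200000000000002) (.op 7 1 (.op 7 0 (.and 2 0 (.dead0 0))))) (.cons [3,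 1, 3] 1 0 (.base (nat_lit 0x4080120000000000000) (.op 7 1 (.and 1 0 (.dead0 0)))) (.cons [4, 1, 3] 1 0 (.base (nat_lit 0x100200000000000002) (.op 7 1 (.op 7 0 (.and 2 0 (.dead0 0))))) (.cons [1, 4, 2, 4] 1 0 (.base (nat_lit 0x4080120000000000000) (.op 7 1 (.and 1 0 (.dead0 0)))) (.cons [2, 3, 1, 4, 2] 1 0 (.focus 2 (.xor 3 4 (.focus 0 (.base (nat_lit 0x100200000000000002) (.focus 0 (.cons [2] 0 0 (.focus 7 (.focus 5 (.xor 6 9 (.focus 0 (.op 4 10 (.op 4 0 (.xor 9 0 (.focus 0 (.base (nat_lit 0xa3c4cf2543e2c31158) (.focus 0 (.cons [4, 1, 5, 1] 0 0 (.base (nat_lit 512) (.op 7 7 (.and 1 0 (.dead0 0)))) .nil))))))))))) .nil)))))) .nil)))))))))))))) (.cons [3] 3 0 (.op 11 0 (.and 1 0 (.dead0 0))) (.cons [1] 3 0 (.op 11 0 (.and 1 0 (.dead0 0))) (.cons [3, 1] 3 0 (.op 11 0 (.and 1 0 (.dead0 0))) (.cons [1, 3] 3 0 (.op 11 0 (.and 1 0 (.dead0 0))) (.cons [3,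 3] 3 0 (.op 11 0 (.and 1 0 (.dead0 0))) (.cons [1, 1] 3 0 (.op 11 0 (.and 1 0 (.dead0 0))) (.cons [1, 1, 1] 3 0 (.op 11 0 (.and 1 0 (.dead0 0))) (.cons [6, 2, 2] 3 0 (.op 11 0 (.and 1 0 (.dead0 0))) (.cons [3, 6, 1, 3] 1 0 (.op 8 0 (.and 1 0 (.dead0 0))) (.cons [5, 7, 2, 2] 3 0 (.base (nat_lit 0xbb3fecf7f67e7f77ffe) (.op 4 1 (.and 1 0 (.dead0 0)))) (.cons [1, 6, 1, 1] 1 0 (.op 8 0 (.and 1 0 (.dead0 0))) (.cons [5, 2, 6, 1, 3] 0 0 (.op 5 0 (.and 1 0 (.dead0 0))) .nil))))))))))))))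
noncomputable def c24AbK : List (List Nat) := [[7, 7, 7, 7], [8]]
noncomputable def c24AbF : List (List Nat) := [[], [1], [1, 1], [1, 1, 1, 1]]
noncomputable def c24Bb : Tr := (.sym [[1], [3]] (.cons [] 3 2 (.base (nat_lit 0x144c0130809818088000) (.op 4 0 (.focus 0 (.op 2 0 (.op 7 2 (.xor 1 0 (.focus 0 (.sym [[1]] (.cons [] 1 1 (.focus 2 (.xor 3 4 (.focus 0 (.base (nat_lit 0x100200000000000002) (.focus 0 (.cons [] 0 1 (.focus 7 (.focus 5 (.xor 6 9 (.focus 0 (.base (nat_lit 0x1000180001000000) (.op 4 0 (.op 4 0 (.focus 0 (.cons [] 0 1 .triv .nil))))))))) .nil)))))) (.cons [1, 4, 1] 1 0 (.base (nat_lit 0x100200000000000002) (.op 7 1 (.op 7 0 (.and 2 0 (.dead0 0))))) (.cons [3, 1, 3] 1 0 (.base (nat_lit 0x4080120000000000000) (.op 7 1 (.and 1 0 (.dead0 0)))) (.cons [4, 1, 3] 1 0 (.base (nat_lit 0x100200000000000002) (.op 7 1 (.op 7 0 (.and 2 0 (.dead0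 0))))) (.cons [1, 4, 2, 4] 1 0 (.base (nat_lit 0x4080120000000000000) (.op 7 1 (.and 1 0 (.dead0 0)))) (.cons [2, 3, 1, 4, 2] 1 0 (.focus 2 (.xor 3 4 (.focus 0 (.base (nat_lit 0x100200000000000002) (.focus 0 (.cons [2] 0 0 (.focus 7 (.focus 5 (.xor 6 9 (.focus 0 (.op 4 10 (.op 4 0 (.xor 9 0 (.focus 0 (.base (nat_lit 0xa3c4cf2543e2c31158) (.focus 0 (.cons [4, 1, 5, 1] 0 0 (.base (nat_lit 512) (.op 7 7 (.and 1 0 (.dead0 0)))) .nil))))))))))) .nil)))))) .nil)))))))))))))) (.cons [3] 3 0 (.op 11 0 (.and 1 0 (.dead0 0))) (.cons [1] 3 0 (.op 11 0 (.and 1 0 (.dead0 0))) (.cons [3, 1] 3 0 (.op 11 0 (.and 1 0 (.dead0 0))) (.cons [1, 3] 3 0 (.op 11 0 (.and 1 0 (.dead0 0))) (.cons [3, 3] 3 0 (.op 11 0 (.and 1 0 (.dead0 0))) (.cons [1, 1] 3 0 (.op 11 0 (.and 1 0 (.dead0 0))) (.cons [1, 1, 1] 3 0 (.op 11 0 (.and 1 0 (.dead0 0))) (.cons [6, 2, 2] 3 0 (.op 11 0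 (.and 1 0 (.dead0 0))) (.cons [3, 6, 1, 3] 1 0 (.op 8 0 (.and 1 0 (.dead0 0))) (.cons [5, 7, 2, 2] 3 0 (.base (nat_lit 0xbb3fecf7f67e7f77ffe) (.op 4 1 (.and 1 0 (.dead0 0)))) (.cons [1, 6, 1, 1] 1 0 (.op 8 0 (.and 1 0 (.dead0 0))) (.cons [5, 2, 6, 1, 3] 0 0 (.op 5 0 (.and 1 0 (.dead0 0))) .nil))))))))))))))
noncomputable def c24BbK : List (List Nat) := [[7, 7, 7, 7], [8]]
noncomputable def c24BbF : List (List Nat) := [[], [1], [1, 1], [1, 1, 1, 1]]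
noncomputable def c24Ac : List Lvl := [⟨0, [[7]], 3⟩, ⟨1, [[8, 8, 8, 8]], 1⟩]
noncomputable def c12Cb : Tr := (.sym [[1], [3]] (.cons [] 3 1 (.base (nat_lit 0x144c0130809818088000) (.op 4 0 (.focus 0 (.op 2 0 (.xor 0 2 (.focus 0 (.op 7 3 (.xor 2 0 (.focus 0 (.op 4 4 (.xor 4 0 (.focus 0 (.cons [] 0 1 (.focus 7 (.focus 2 (.focus 5 (.focus 3 (.base (nat_lit 0x100200000000000002) (.focus 0 (.cons [] 0 1 (.focus 9 (.focus 7 (.focus 5 (.focus 3 (.xor 8 2 (.focus 0 (.base (nat_lit 0x1000000400000142c20) (.op 7 0 (.focus 0 (.cons [] 0 1 .triv .nil)))))))))) .nil))))))) (.cons [4, 2] 0 0 (.base (nat_lit 0x100200000000000002) (.op 8 0 (.and 1 0 (.dead0 0)))) (.cons [2, 3] 0 0 (.base (nat_lit 0x4080120000000000000) (.op 8 0 (.and 1 0 (.dead0 0)))) (.cons [3, 2] 0 0 (.base (nat_lit 0x100200000000000002) (.op 8 0 (.and 1 0 (.dead0 0)))) (.cons [2, 4] 0 0 (.base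 (nat_lit 0x4080120000000000000) (.op 8 0 (.and 1 0 (.dead0 0)))) (.cons [3, 1, 3] 0 0 (.base (nat_lit 0x4080120000000000000) (.op 8 0 (.and 1 0 (.dead 0)))) (.cons [1, 4, 2, 3, 2] 0 0 (.base (nat_lit 0x4080120000000000000) (.op 8 0 (.and 1 0 (.dead 0)))) .nil))))))))))))))))))) (.cons [3] 3 0 (.base (nat_lit 0x144c0130809818088000) (.op 4 0 (.focus 0 (.op 2 0 (.xor 0 2 (.focus 0 (.op 7 3 (.xor 2 0 (.focus 0 (.op 4 4 (.xor 4 0 (.focus 0 (.cons [4] 0 0 (.base (nat_lit 0x4080120000000000000) (.op 8 0 (.and 1 0 (.dead 0)))) (.cons [4, 2] 0 0 (.base (nat_lit 0x4080120000000000000) (.op 8 0 (.and 1 0 (.dead0 0)))) (.cons [6, 1] 0 0 (.base (nat_lit 0x4080120000000000000) (.op 8 0 (.and 1 0 (.dead0 0)))) (.cons [3, 2, 4] 0 0 (.base (nat_lit 0x100200000000000002) (.op 8 0 (.and 1 0 (.dead0 0)))) (.cons [3, 2, 3, 1] 0 0 (.base (nat_lit 0x100200000000000002)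 (.op 8 0 (.and 1 0 (.dead0 0)))) (.cons [4, 1, 3, 2] 0 0 (.base (nat_lit 0x4080120000000000000) (.op 8 0 (.and 1 0 (.dead 0)))) (.cons [1, 3, 1, 4, 2] 0 0 (.focus 7 (.focus 2 (.focus 5 (.focus 3 (.base (nat_lit 0x100200000000000002) (.focus 0 (.cons [1] 0 0 (.focus 9 (.focus 7 (.focus 5 (.focus 3 (.xor 8 2 (.focus 0 (.op 7 2 (.xor 10 0 (.focus 0 (.base (nat_lit 0x1000000400000142c20) (.op 7 0 (.focus 0 (.cons [1, 3, 1, 4] 0 0 (.base (nat_lit 32) (.op 4 7 (.and 1 0 (.dead0 0)))) .nil))))))))))))) .nil))))))) .nil))))))))))))))))))) (.cons [2, 2] 3 0 (.op 8 0 (.and 1 0 (.dead0 0))) (.cons [3, 1] 3 0 (.base (nat_lit 0xbb3fecf7f67e7f77ffe) (.op 5 0 (.and 1 0 (.dead0 0)))) (.cons [5, 2, 2] 3 0 (.op 8 0 (.base (nat_lit 0xbb3fecf7f67e7f77ffe) (.and 1 0 (.op 4 1 (.and 1 0 (.dead 0)))))) (.cons [1, 1, 1] 3 0 (.base (nat_lit 0xbb3fecf7f67e7f77ffe) (.op 4 0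 (.and 1 0 (.op 7 2 (.and 1 0 (.dead 0)))))) (.cons [2, 3, 1] 1 0 (.op 8 0 (.and 1 0 (.dead0 0))) (.cons [5, 1, 6, 1, 1] 0 0 (.op 5 0 (.and 1 0 (.dead0 0))) .nil)))))))))
noncomputable def c12CbK : List (List Nat) := [[2, 10, 8, 10, 2, 10, 8], [9, 1, 9, 9, 2, 9, 9, 1]]
noncomputable def c12CbF : List (List Nat) := [[], [1], [1, 1]]
noncomputable def c33Ab : Tr := (.sym [[1]] (.cons [] 10 1 (.base (nat_lit 0x144c0130809818088000) (.op 4 0 (.op 4 0 (.op 4 0 (.focus 0 (.op 2 0 (.xor 0 4 (.focus 0 (.xor 1 4 (.focus 0 (.op 7 6 (.op 7 0 (.xor 4 0 (.focus 0 (.op 7 1 (.xor 6 0 (.focus 0 (.cons [] 0 1 (.focus 5 (.focus 6 (.focus 1 (.xor 8 10 (.focus 0 (.base (nat_lit 0x100200000000000002) (.focus 0 (.cons [] 0 1 (.focus 8 (.focus 9 (.focus 2 (.focus 4 (.xor 11 0 (.focus 0 (.base (nat_lit 0x1000180001000000) (.op 7 0 (.op 7 0 (.op 7 0 (.focus 0 (.cons [] 0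 1 .triv .nil)))))))))))) .nil)))))))) (.cons [4, 1, 3] 0 0 (.base (nat_lit 0x100200000000000002) (.op 4 1 (.op 4 0 (.and 2 0 (.dead0 0))))) (.cons [3, 2, 4, 2] 0 0 (.base (nat_lit 0x100200000000000002) (.op 4 1 (.op 4 0 (.and 2 0 (.dead0 0))))) (.cons [2, 4, 2, 3, 2] 0 0 (.base (nat_lit 0x100200000000000002) (.op 4 1 (.op 4 0 (.and 2 0 (.dead0 0))))) .nil))))))))))))))))))))) (.cons [3] 10 0 (.base (nat_lit 0xbb3fecf7f67e7f77ffe) (.op 4 1 (.and 1 0 (.dead0 0)))) (.cons [3, 3] 10 0 (.base (nat_lit 0xbb3fecf7f67e7f77ffe) (.op 4 1 (.and 1 0 (.dead0 0)))) (.cons [7, 2, 2] 10 0 (.base (nat_lit 0xbb3fecf7f67e7f77ffe) (.op 4 1 (.and 1 0 (.dead0 0)))) (.cons [3, 3, 1] 10 0 (.base (nat_lit 0xbb3fecf7f67e7f77ffe) (.op 4 1 (.and 1 0 (.dead0 0)))) (.cons [6, 1, 1] 10 0 (.base (nat_lit 0xbb3fecf7f67e7f77ffe) (.op 4 1 (.op 4 0 (.op 4 0 (.and 3 0 (.dead0 0))))))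 (.cons [3, 6, 1, 3] 10 0 (.base (nat_lit 0xbb3fecf7f67e7f77ffe) (.op 4 1 (.and 1 0 (.dead0 0)))) .nil))))))))
noncomputable def c33AbK : List (List Nat) := [[1]]
noncomputable def c33AbF : List (List Nat) := [[], [1]]
noncomputable def c33Bb : Tr := (.sym [[1]] (.cons [] 10 1 (.base (nat_lit 0x144c0130809818088000) (.op 7 0 (.op 7 0 (.op 7 0 (.focus 0 (.op 2 0 (.xor 0 4 (.focus 0 (.xor 1 4 (.focus 0 (.op 4 6 (.op 4 0 (.xor 4 0 (.focus 0 (.op 4 1 (.xor 6 0 (.focus 0 (.cons [] 0 1 (.focus 5 (.focus 6 (.focus 1 (.xor 8 10 (.focus 0 (.base (nat_lit 0x100200000000000002) (.focus 0 (.cons [] 0 1 (.focus 8 (.focus 9 (.focus 2 (.focus 4 (.xor 11 0 (.focus 0 (.base (nat_lit 0x1000180001000000) (.op 4 0 (.op 4 0 (.op 4 0 (.focus 0 (.cons [] 0 1 .triv .nil)))))))))))) .nil)))))))) (.cons [4, 1, 3] 0 0 (.base (nat_lit 0x100200000000000002) (.op 7 1 (.op 7 0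 (.and 2 0 (.dead0 0))))) (.cons [3, 2, 4, 2] 0 0 (.base (nat_lit 0x100200000000000002) (.op 7 1 (.op 7 0 (.and 2 0 (.dead0 0))))) (.cons [2, 4, 2, 3, 2] 0 0 (.base (nat_lit 0x100200000000000002) (.op 7 1 (.op 7 0 (.and 2 0 (.dead0 0))))) .nil))))))))))))))))))))) (.cons [3] 10 0 (.base (nat_lit 0xbb3fecf7f67e7f77ffe) (.op 4 1 (.and 1 0 (.dead0 0)))) (.cons [3, 3] 10 0 (.base (nat_lit 0xbb3fecf7f67e7f77ffe) (.op 4 1 (.and 1 0 (.dead0 0)))) (.cons [7, 2, 2] 10 0 (.base (nat_lit 0xbb3fecf7f67e7f77ffe) (.op 4 1 (.and 1 0 (.dead0 0)))) (.cons [3, 3, 1] 10 0 (.base (nat_lit 0xbb3fecf7f67e7f77ffe) (.op 4 1 (.and 1 0 (.dead0 0)))) (.cons [6, 1, 1] 10 0 (.base (nat_lit 0xbb3fecf7f67e7f77ffe) (.op 4 1 (.op 4 0 (.op 4 0 (.and 3 0 (.dead0 0)))))) (.cons [3, 6, 1, 3] 10 0 (.base (nat_lit 0xbb3fecf7f67e7f77ffe) (.op 4 1 (.and 1 0 (.dead0 0)))) .nil))))))))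
noncomputable def c33BbK : List (List Nat) := [[1]]
noncomputable def c33BbF : List (List Nat) := [[], [1]]
noncomputable def c66Ab : Tr := (.sym [[1]] (.cons [] 10 1 (.base (nat_lit 0x144c0130809818088000) (.op 4 0 (.op 4 0 (.op 4 0 (.focus 0 (.op 2 0 (.xor 0 4 (.focus 0 (.xor 1 4 (.focus 0 (.op 7 6 (.op 7 0 (.xor 4 0 (.focus 0 (.op 7 1 (.xor 6 0 (.focus 0 (.cons [] 0 1 (.focus 5 (.focus 6 (.focus 1 (.xor 8 10 (.focus 0 (.base (nat_lit 0x100200000000000002) (.focus 0 (.cons [] 0 1 (.focus 8 (.focus 9 (.focus 2 (.focus 4 (.xor 11 0 (.focus 0 (.base (nat_lit 0x1000180001000000) (.op 7 0 (.op 7 0 (.op 7 0 (.focus 0 (.cons [] 0 1 .triv .nil)))))))))))) .nil)))))))) (.cons [4, 1, 3] 0 0 (.base (nat_lit 0x100200000000000002) (.op 4 1 (.op 4 0 (.and 2 0 (.dead0 0))))) (.cons [3, 2, 4, 2] 0 0 (.base (nat_lit 0x100200000000000002) (.op 4 1 (.op 4 0 (.and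 2 0 (.dead0 0))))) (.cons [2, 4, 2, 3, 2] 0 0 (.base (nat_lit 0x100200000000000002) (.op 4 1 (.op 4 0 (.and 2 0 (.dead0 0))))) .nil))))))))))))))))))))) (.cons [3] 10 0 (.base (nat_lit 0xbb3fecf7f67e7f77ffe) (.op 4 1 (.and 1 0 (.dead0 0)))) (.cons [3, 3] 10 0 (.base (nat_lit 0xbb3fecf7f67e7f77ffe) (.op 4 1 (.and 1 0 (.dead0 0)))) (.cons [7, 2, 2] 10 0 (.base (nat_lit 0xbb3fecf7f67e7f77ffe) (.op 4 1 (.and 1 0 (.dead0 0)))) (.cons [3, 3, 1] 10 0 (.base (nat_lit 0xbb3fecf7f67e7f77ffe) (.op 4 1 (.and 1 0 (.dead0 0)))) (.cons [6, 1, 1] 10 0 (.base (nat_lit 0xbb3fecf7f67e7f77ffe) (.op 4 1 (.op 4 0 (.op 4 0 (.and 3 0 (.dead0 0)))))) (.cons [3, 6, 1, 3] 10 0 (.base (nat_lit 0xbb3fecf7f67e7f77ffe) (.op 4 1 (.and 1 0 (.dead0 0)))) .nil))))))))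
noncomputable def c66AbK : List (List Nat) := [[1]]
noncomputable def c66AbF : List (List Nat) := [[], [1]]
noncomputable def c66Bb : Tr := (.sym [[1]] (.cons [] 10 1 (.base (nat_lit 0x144c0130809818088000) (.op 7 0 (.op 7 0 (.op 7 0 (.focus 0 (.op 2 0 (.xor 0 4 (.focus 0 (.xor 1 4 (.focus 0 (.op 4 6 (.op 4 0 (.xor 4 0 (.focus 0 (.op 4 1 (.xor 6 0 (.focus 0 (.cons [] 0 1 (.focus 5 (.focus 6 (.focus 1 (.xor 8 10 (.focus 0 (.base (nat_lit 0x100200000000000002) (.focus 0 (.cons [] 0 1 (.focus 8 (.focus 9 (.focus 2 (.focus 4 (.xor 11 0 (.focus 0 (.base (nat_lit 0x1000180001000000) (.op 4 0 (.op 4 0 (.op 4 0 (.focus 0 (.cons [] 0 1 .triv .nil)))))))))))) .nil)))))))) (.cons [4, 1, 3] 0 0 (.base (nat_lit 0x100200000000000002) (.op 7 1 (.op 7 0 (.and 2 0 (.dead0 0))))) (.cons [3, 2, 4, 2] 0 0 (.base (nat_lit 0x100200000000000002) (.op 7 1 (.op 7 0 (.and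 2 0 (.dead0 0))))) (.cons [2, 4, 2, 3, 2] 0 0 (.base (nat_lit 0x100200000000000002) (.op 7 1 (.op 7 0 (.and 2 0 (.dead0 0))))) .nil))))))))))))))))))))) (.cons [3] 10 0 (.base (nat_lit 0xbb3fecf7f67e7f77ffe) (.op 4 1 (.and 1 0 (.dead0 0)))) (.cons [3, 3] 10 0 (.base (nat_lit 0xbb3fecf7f67e7f77ffe) (.op 4 1 (.and 1 0 (.dead0 0)))) (.cons [7, 2, 2] 10 0 (.base (nat_lit 0xbb3fecf7f67e7f77ffe) (.op 4 1 (.and 1 0 (.dead0 0)))) (.cons [3, 3, 1] 10 0 (.base (nat_lit 0xbb3fecf7f67e7f77ffe) (.op 4 1 (.and 1 0 (.dead0 0)))) (.cons [6, 1, 1] 10 0 (.base (nat_lit 0xbb3fecf7f67e7f77ffe) (.op 4 1 (.op 4 0 (.op 4 0 (.and 3 0 (.dead0 0)))))) (.cons [3, 6, 1, 3] 10 0 (.base (nat_lit 0xbb3fecf7f67e7f77ffe) (.op 4 1 (.and 1 0 (.dead0 0)))) .nil))))))))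
noncomputable def c66BbK : List (List Nat) := [[1]]
noncomputable def c66BbF : List (List Nat) := [[], [1]]
noncomputable def n6Bb : Tr := (.op 5 0 (.dead 0))
noncomputable def n6BbK : List (List Nat) := []
noncomputable def n6BbF : List (List Nat) := [[], [1]]
noncomputable def n6Cb : Tr := (.op 5 0 (.dead 0))
noncomputable def n6CbK : List (List Nat) := []
noncomputable def n6CbF : List (List Nat) := [[], [1]]
noncomputable def n12Ab : Tr := (.op 5 0 (.dead 0))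
noncomputable def n12AbK : List (List Nat) := []
noncomputable def n12AbF : List (List Nat) := [[], [1], [1, 1]]
noncomputable def n12Bb : Tr := (.op 5 0 (.dead 0))
noncomputable def n12BbK : List (List Nat) := []
noncomputable def n12BbF : List (List Nat) := [[], [1], [1, 1]]
noncomputable def n33b : Tr := (.sym [[1]] (.cons [] 10 0 (.base (nat_lit 0x144c0130809818088000) (.op 4 0 (.op 4 0 (.op 4 0 (.focus 0 (.op 2 0 (.xor 0 4 (.focus 0 (.xor 1 4 (.focus 0 (.op 7 6 (.op 7 0 (.xor 4 0 (.focus 0 (.op 7 1 (.xor 6 0 (.focus 0 (.cons [2, 3, 2] 0 0 (.base (nat_lit 0x100200000000000002) (.op 4 1 (.op 4 0 (.and 2 0 (.dead0 0))))) (.cons [3, 1, 3, 1] 0 0 (.focus 5 (.focus 6 (.focus 1 (.xor 8 10 (.focus 0 (.base (nat_lit 0x100200000000000002) (.focus 0 (.cons [] 0 0 (.focus 8 (.focus 9 (.focus 2 (.focus 4 (.xor 11 0 (.focus 0 (.base (nat_lit 0x1000180001000000)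 (.op 7 0 (.op 7 0 (.op 7 0 (.focus 0 (.cons [4, 1] 0 0 (.base (nat_lit 128) (.op 4 10 (.op 4 0 (.op 4 0 (.and 3 0 (.dead0 0)))))) .nil)))))))))))) .nil)))))))) (.cons [2, 3, 1, 3] 0 0 (.base (nat_lit 0x100200000000000002) (.op 4 1 (.op 4 0 (.and 2 0 (.dead0 0))))) (.cons [1, 3, 1, 3, 1] 0 0 (.base (nat_lit 0x100200000000000002) (.op 4 1 (.op 4 0 (.and 2 0 (.dead0 0))))) .nil))))))))))))))))))))) (.cons [3] 10 0 (.base (nat_lit 0xbb3fecf7f67e7f77ffe) (.op 4 1 (.and 1 0 (.dead0 0)))) (.cons [3, 3] 10 0 (.base (nat_lit 0xbb3fecf7f67e7f77ffe) (.op 4 1 (.and 1 0 (.dead0 0)))) (.cons [7, 2, 2] 10 0 (.base (nat_lit 0xbb3fecf7f67e7f77ffe) (.op 4 1 (.and 1 0 (.dead0 0)))) (.cons [3, 3, 1] 10 0 (.base (nat_lit 0xbb3fecf7f67e7f77ffe) (.op 4 1 (.and 1 0 (.dead0 0)))) (.cons [6, 1, 1] 10 0 (.base (nat_lit 0xbb3fecf7f67e7f77ffe) (.op 4 1 (.op 4 0 (.op 4 0 (.and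 3 0 (.dead0 0)))))) (.cons [3, 6, 1, 3] 10 0 (.base (nat_lit 0xbb3fecf7f67e7f77ffe) (.op 4 1 (.and 1 0 (.dead0 0)))) .nil))))))))
noncomputable def n33bK : List (List Nat) := [[1]]
noncomputable def n33bF : List (List Nat) := [[], [1]]
noncomputable def n66b : Tr := (.sym [[1]] (.cons [] 10 0 (.base (nat_lit 0x144c0130809818088000) (.op 4 0 (.op 4 0 (.op 4 0 (.focus 0 (.op 2 0 (.xor 0 4 (.focus 0 (.xor 1 4 (.focus 0 (.op 7 6 (.op 7 0 (.xor 4 0 (.focus 0 (.op 7 1 (.xor 6 0 (.focus 0 (.cons [2, 3, 2] 0 0 (.base (nat_lit 0x100200000000000002) (.op 4 1 (.op 4 0 (.and 2 0 (.dead0 0))))) (.cons [3, 1, 3, 1] 0 0 (.focus 5 (.focus 6 (.focus 1 (.xor 8 10 (.focus 0 (.base (nat_lit 0x100200000000000002) (.focus 0 (.cons [] 0 0 (.focus 8 (.focus 9 (.focus 2 (.focus 4 (.xor 11 0 (.focus 0 (.base (nat_lit 0x1000180001000000) (.op 7 0 (.op 7 0 (.op 7 0 (.focus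 0 (.cons [4, 1] 0 0 (.base (nat_lit 128) (.op 4 10 (.op 4 0 (.op 4 0 (.and 3 0 (.dead0 0)))))) .nil)))))))))))) .nil)))))))) (.cons [2, 3, 1, 3] 0 0 (.base (nat_lit 0x100200000000000002) (.op 4 1 (.op 4 0 (.and 2 0 (.dead0 0))))) (.cons [1, 3, 1, 3, 1] 0 0 (.base (nat_lit 0x100200000000000002) (.op 4 1 (.op 4 0 (.and 2 0 (.dead0 0))))) .nil))))))))))))))))))))) (.cons [3] 10 0 (.base (nat_lit 0xbb3fecf7f67e7f77ffe) (.op 4 1 (.and 1 0 (.dead0 0)))) (.cons [3, 3] 10 0 (.base (nat_lit 0xbb3fecf7f67e7f77ffe) (.op 4 1 (.and 1 0 (.dead0 0)))) (.cons [7, 2, 2] 10 0 (.base (nat_lit 0xbb3fecf7f67e7f77ffe) (.op 4 1 (.and 1 0 (.dead0 0)))) (.cons [3, 3, 1] 10 0 (.base (nat_lit 0xbb3fecf7f67e7f77ffe) (.op 4 1 (.and 1 0 (.dead0 0)))) (.cons [6, 1, 1] 10 0 (.base (nat_lit 0xbb3fecf7f67e7f77ffe) (.op 4 1 (.op 4 0 (.op 4 0 (.and 3 0 (.dead0 0)))))) (.cons [3, 6,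 1, 3] 10 0 (.base (nat_lit 0xbb3fecf7f67e7f77ffe) (.op 4 1 (.and 1 0 (.dead0 0)))) .nil))))))))
noncomputable def n66bK : List (List Nat) := [[1]]
noncomputable def n66bF : List (List Nat) := [[], [1]]
noncomputable def c3tb : Tr := (.sym [[1]] (.cons [] 10 1 (.base (nat_lit 0x144c0130809818088000) (.op 4 0 (.op 4 0 (.op 4 0 (.focus 0 (.op 2 0 (.xor 0 4 (.focus 0 (.xor 1 4 (.focus 0 (.op 7 6 (.op 7 0 (.xor 4 0 (.focus 0 (.op 7 1 (.xor 6 0 (.focus 0 (.cons [] 0 1 (.focus 5 (.focus 6 (.focus 1 (.xor 8 10 (.focus 0 (.base (nat_lit 0x100200000000000002) (.focus 0 (.cons [] 0 1 (.focus 8 (.focus 9 (.focus 2 (.focus 4 (.xor 11 0 (.focus 0 (.base (nat_lit 0x1000180001000000) (.op 7 0 (.op 7 0 (.op 7 0 (.focus 0 (.cons [] 0 1 .triv .nil)))))))))))) .nil)))))))) (.cons [4, 1, 3] 0 0 (.base (nat_lit 0x100200000000000002) (.op 4 1 (.op 4 0 (.and 2 0 (.dead0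 0))))) (.cons [3, 2, 4, 2] 0 0 (.base (nat_lit 0x100200000000000002) (.op 4 1 (.op 4 0 (.and 2 0 (.dead0 0))))) (.cons [2, 4, 2, 3, 2] 0 0 (.base (nat_lit 0x100200000000000002) (.op 4 1 (.op 4 0 (.and 2 0 (.dead0 0))))) .nil))))))))))))))))))))) (.cons [3] 10 0 (.base (nat_lit 0xbb3fecf7f67e7f77ffe) (.op 4 1 (.and 1 0 (.dead0 0)))) (.cons [3, 3] 10 0 (.base (nat_lit 0xbb3fecf7f67e7f77ffe) (.op 4 1 (.and 1 0 (.dead0 0)))) (.cons [7, 2, 2] 10 0 (.base (nat_lit 0xbb3fecf7f67e7f77ffe) (.op 4 1 (.and 1 0 (.dead0 0)))) (.cons [3, 3, 1] 10 0 (.base (nat_lit 0xbb3fecf7f67e7f77ffe) (.op 4 1 (.and 1 0 (.dead0 0)))) (.cons [6, 1, 1] 10 0 (.base (nat_lit 0xbb3fecf7f67e7f77ffe) (.op 4 1 (.op 4 0 (.op 4 0 (.and 3 0 (.dead0 0)))))) (.cons [3, 6, 1, 3] 10 0 (.base (nat_lit 0xbb3fecf7f67e7f77ffe) (.op 4 1 (.and 1 0 (.dead0 0)))) .nil))))))))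
noncomputable def c3tbK : List (List Nat) := [[1]]
noncomputable def c3tbF : List (List Nat) := [[], [1]]

end CF.J4F
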