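import Cfsg.Agent.Bt.Defs
import Cfsg.Agent.Dce.J4.Mat

/-! Data for elements of even order. -/

set_option autoImplicit false
set_option maxRecDepth 1000000
set_option maxHeartbeats 0
set_option Elab.async false

namespace CF.J4F

open CF.Comp CF.Bt CF.Dce CF.Dce.J4

noncomputable def BqV : List Nat := [(nat_lit 0xc9bd360c8dbf063e9a3),
  (nat_lit 0x188afee960b4bd46c5b2),
  (nat_lit 0x17a416e5ca61ee8eaae4),
  (nat_lit 0x8a6c45925af1caac280),
  (nat_lit 0x10d4da4bf6187e455e96),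
  (nat_lit 0x1ad6a7e165c654da35d0),
  (nat_lit 0x199ab14c874d35eaa7b2),
  (nat_lit 0x486a72f9057a0e04ba),
  (nat_lit 0x2b7f7b5d9347151e580),
  (nat_lit 0x76382e8533cd7afb834),
  (nat_lit 0xe29685fcb5d0b57c22e),
  (nat_lit 0xb49163be2679f5941ba),
  (nat_lit 0xbb1f6c0516440f0181e),
  (nat_lit 0x1dee013da0babe1fc518),
  (nat_lit 0x9a1440a442744356ff8),
  (nat_lit 0xa3c4cf2543e2c31158),
  (nat_lit 0x1ffeb3f7b5f9badab2fe),
  (nat_lit 0xb017c491b62e5574500),
  (nat_lit 0x16fc3332d49d1c2ccc5e),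
  (nat_lit 0x1f5d773890ba5819a3a6),
  (nat_lit 0x1d4dc5f285f95cdcd440),
  (nat_lit 0x144f4537e49dfa2aaae0),
  (nat_lit 0x16fc3332d49d1c2ccc5e),
  (nat_lit 0x1dee013da0babe1fc518),
  (nat_lit 0x203fc8c7a0643a13ba0),
  (nat_lit 0x210b2ca154304c577e6),
  (nat_lit 0),
  (nat_lit 0x14ffcfbeae9b5f8df7fe),
  (nat_lit 0x16ef7d74bbd85b488018),
  (nat_lit 0x1d4dc5f285f95cdcd440),
  (nat_lit 0x1dfd4f7bcffff97b895e),
  (nat_lit 0x210b2ca154304c577e6),
  (nat_lit 0x210b2ca154304c577e6),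
  (nat_lit 0xa3c4cf2543e2c31158),
  (nat_lit 0x134e466f4547644c46),
  (nat_lit 0xba2b8863e2107945458),
  (nat_lit 0x145c0b718bd8bd4ee6a6),
  (nat_lit 0x1dee013da0babe1fc518),
  (nat_lit 0x16ef7d74bbd85b488018),
  (nat_lit 0x16ef7d74bbd85b488018),
  (nat_lit 0x2a038435f45a1622af8),
  (nat_lit 0xb12320f7427a2330946),
  (nat_lit 0x145c0b718bd8bd4ee6a6),
  (nat_lit 0xb08a894a06a5a75d1e),
  (nat_lit 0x911ce830e21e19232e6),
  (nat_lit 0x1d5e8bb4eabc1bb89806),
  (nat_lit 0xbb1f6c0516440f0181e),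
  (nat_lit 0x1d5e8bb4eabc1bb89806),
  (nat_lit 0x1ffeb3f7b5f9badab2fe),
  (nat_lit 0x2b376053000e60666be),
  (nat_lit 0x16fc3332d49d1c2ccc5e),
  (nat_lit 0x203fc8c7a0643a13ba0),
  (nat_lit 0x203fc8c7a0643a13ba0),
  (nat_lit 0x144f4537e49dfa2aaae0),
  (nat_lit 0x2a038435f45a1622af8),
  (nat_lit 0x2b376053000e60666be),
  (nat_lit 0xb12320f7427a2330946),
  (nat_lit 0x210b2ca154304c577e6),
  (nat_lit 0xb017c491b62e5574500),
  (nat_lit 0x134e466f4547644c46),
  (nat_lit 0x144f4537e49dfa2aaae0),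
  (nat_lit 0x14ec81f8c1de18e9bbb8),
  (nat_lit 0x14ec81f8c1de18e9bbb8),
  (nat_lit 0x165ff7fdf1defeefdd06),
  (nat_lit 0x134e466f4547644c46),
  (nat_lit 0x9b20a4c2b62035123be),
  (nat_lit 0x145c0b718bd8bd4ee6a6),
  (nat_lit 0x14ec81f8c1de18e9bbb8),
  (nat_lit 0x1f4e397effff1f7defe0),
  (nat_lit 0x164cb9bb9e9bb98b9140),
  (nat_lit 0x1ffeb3f7b5f9badab2fe),
  (nat_lit 0x1ffeb3f7b5f9badab2fe),
  (nat_lit 0x203fc8c7a0643a13ba0),
  (nat_lit 0x2a038435f45a1622af8),
  (nat_lit 0xba2b8863e2107945458),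
  (nat_lit 0x911ce830e21e19232e6),
  (nat_lit 0x2b376053000e60666be),
  (nat_lit 0x14ffcfbeae9b5f8df7fe),
  (nat_lit 0x145c0b718bd8bd4ee6a6),
  (nat_lit 0x911ce830e21e19232e6),
  (nat_lit 0x1f4e397effff1f7defe0),
  (nat_lit 0x144f4537e49dfa2aaae0),
  (nat_lit 0x210b2ca154304c577e6),
  (nat_lit 0x2a038435f45a1622af8),
  (nat_lit 0x2a038435f45a1622af8),
  (nat_lit 0),
  (nat_lit 0),
  (nat_lit 0),
  (nat_lit 0x1ffeb3f7b5f9badab2fe),
  (nat_lit 0),
  (nat_lit 0x1ffeb3f7b5f9badab2fe),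
  (nat_lit 0x1ffeb3f7b5f9badab2fe),
  (nat_lit 0),
  (nat_lit 0x1ffeb3f7b5f9badab2fe),
  (nat_lit 0),
  (nat_lit 0),
  (nat_lit 0),
  (nat_lit 0),
  (nat_lit 0),
  (nat_lit 0),
  (nat_lit 0x1ffeb3f7b5f9badab2fe),
  (nat_lit 0),
  (nat_lit 0x1ffeb3f7b5f9badab2fe),
  (nat_lit 0x1ffeb3f7b5f9badab2fe),
  (nat_lit 0x1ffeb3f7b5f9badab2fe),
  (nat_lit 0),
  (nat_lit 0),
  (nat_lit 0),
  (nat_lit 0),
  (nat_lit 0),
  (nat_lit 0),
  (nat_lit 0)]
noncomputable def BqS : Net := (Net.cons (nat_lit 1) (nat_lit 0x150401155104045050) (Net.cons (nat_lit 2) (nat_lit 0x1133131123023210310) (Net.cons (nat_lit 4) (nat_lit 0xc000b0a0305050404) (Net.cons (nat_lit 8) (nat_lit 0xe0075006100a10000) (Net.cons (nat_lit 16) (nat_lit 0x43cc000000a3) (Net.cons (nat_lit 32) (nat_lit 4936) (Net.cons (nat_lit 64) (nat_lit 6143) (Net.cons (nat_lit 32) (nat_lit 2521285097) (Net.cons (nat_lit 16) (nat_lit 0xfa4900001f80) (Net.cons (nat_lit 8) (nat_lit 0x12007e007a00ee00e7)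 (Net.cons (nat_lit 4) (nat_lit 0x200010f070a030b00) (Net.cons (nat_lit 2) (nat_lit 0x1303100210310111102) (Net.cons (nat_lit 1) (nat_lit 0x4400114145041505111) Net.nil)))))))))))))
noncomputable def BqN_0 : Net := (Net.cons (nat_lit 1) (nat_lit 0x1050511050000504404) (Net.cons (nat_lit 2) (nat_lit 0x30202030210100210) (Net.cons (nat_lit 4) (nat_lit 0x7000408040e000800) (Net.cons (nat_lit 8) (nat_lit 0x10002000300510000) (Net.cons (nat_lit 16) (nat_lit 0xa3e100000000) (Net.cons (nat_lit 32) (nat_lit 352) (Net.cons (nat_lit 64) (nat_lit 352) (Net.cons (nat_lit 32) (nat_lit 2728984928) (Net.cons (nat_lit 16) (nat_lit 0xadfd00005500) (Net.cons (nat_lit 8) (nat_lit 0x15008200c3009f00a0) (Net.cons (nat_lit 4) (nat_lit 0x7000408040a040604) (Net.cons (nat_lit 2) (nat_lit 0x2230200030030122032) (Net.cons (nat_lit 1) (nat_lit 0x1050511050000504404) Net.nil)))))))))))))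
noncomputable def BqN_1 : Net := (Net.cons (nat_lit 1) (nat_lit 0x1405051041445441100) (Net.cons (nat_lit 2) (nat_lit 0x1300000300011100220) (Net.cons (nat_lit 4) (nat_lit 0xe020e090508000e04) (Net.cons (nat_lit 8) (nat_lit 0x1800300024009c0000) (Net.cons (nat_lit 16) (nat_lit 0x5d7800001900) (Net.cons (nat_lit 32) (nat_lit 7528) (Net.cons (nat_lit 64) (nat_lit 7528) (Net.cons (nat_lit 32) (nat_lit 1186071656) (Net.cons (nat_lit 16) (nat_lit 0xe6ee0000a600) (Net.cons (nat_lit 8) (nat_lit 0x1300a5008d00e500a4) (Net.cons (nat_lit 4) (nat_lit 0xd0f010305050c0d08) (Net.cons (nat_lit 2) (nat_lit 0x3311210023001333032) (Net.cons (nat_lit 1) (nat_lit 0x4145515554511504540) Net.nil)))))))))))))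
noncomputable def BqN_2 : Net := (Net.cons (nat_lit 1) (nat_lit 0x4000141100141414040) (Net.cons (nat_lit 2) (nat_lit 0x3211211033030100200) (Net.cons (nat_lit 4) (nat_lit 0x40a050801020d0300) (Net.cons (nat_lit 8) (nat_lit 0x1001100840000) (Net.cons (nat_lit 16) (nat_lit 0x32e100000000) (Net.cons (nat_lit 32) (nat_lit 704) (Net.cons (nat_lit 64) (nat_lit 704) (Net.cons (nat_lit 32) (nat_lit 808518336) (Net.cons (nat_lit 16) (nat_lit 0xa7f700008d00) (Net.cons (nat_lit 8) (nat_lit 0x900390001001e0070) (Net.cons (nat_lit 4) (nat_lit 0x60a0508090e050b08) (Net.cons (nat_lit 2) (nat_lit 0x3211211033030100200) (Net.cons (nat_lit 1) (nat_lit 0x4000141100141414041) Net.nil)))))))))))))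
noncomputable def BqN_3 : Net := Net.nil
noncomputable def BqN_4 : Net := Net.nil
noncomputable def BqN_5 : Net := Net.nil
noncomputable def BqN_6 : Net := Net.nil
noncomputable def BqN_7 : Net := Net.nil
noncomputable def BqN_8 : Net := Net.nil
noncomputable def BqN_9 : Net := Net.nil
noncomputable def BqN_10 : Net := Net.nil
noncomputable def BqN_11 : Net := Net.nil
noncomputable def BqN_12 : Net := Net.nil
noncomputable def BqN_13 : Net := Net.nil
noncomputable def BqN_14 : Net := Net.nil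
noncomputable def BqN_15 : Net := Net.nil
noncomputable def BqN_16 : Net := Net.nil
noncomputable def BqN_17 : Net := (Net.cons (nat_lit 1) (nat_lit 0x4005040450011005000) (Net.cons (nat_lit 2) (nat_lit 0x3002133201111320310) (Net.cons (nat_lit 4) (nat_lit 0x1040c00060c0d0a0502) (Net.cons (nat_lit 8) (nat_lit 0xf00d8000e00d20000) (Net.cons (nat_lit 16) (nat_lit 0x433800001283) (Net.cons (nat_lit 32) (nat_lit 836) (Net.cons (nat_lit 64) (nat_lit 5103) (Net.cons (nat_lit 32) (nat_lit 393503496) (Net.cons (nat_lit 16) (nat_lit 0x27950000535c) (Net.cons (nat_lit 8) (nat_lit 0x1700a4005d006f00b8) (Net.cons (nat_lit 4) (nat_lit 0x1010b010e060a090302) (Net.cons (nat_lit 2) (nat_lit 0x3212010301311012222) (Net.cons (nat_lit 1) (nat_lit 0x4401041104455455154) Net.nil)))))))))))))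
noncomputable def BqN_18 : Net := Net.nil
noncomputable def BqN_19 : Net := (Net.cons (nat_lit 1) (nat_lit 0x4011445015104101145) (Net.cons (nat_lit 2) (nat_lit 0x21130021223111110) (Net.cons (nat_lit 4) (nat_lit 0x10f030f0c0402050600) (Net.cons (nat_lit 8) (nat_lit 0x1d0034002900450080) (Net.cons (nat_lit 16) (nat_lit 0xbc600001008) (Net.cons (nat_lit 32) (nat_lit 876) (Net.cons (nat_lit 64) (nat_lit 6140) (Net.cons (nat_lit 32) (nat_lit 1786480557) (Net.cons (nat_lit 16) (nat_lit 0x56a200002a54) (Net.cons (nat_lit 8) (nat_lit 0x600c50036009b0058) (Net.cons (nat_lit 4) (nat_lit 0xc000c0a0903040f0d) (Net.cons (nat_lit 2) (nat_lit 0x2013213303200300200) (Net.cons (nat_lit 1) (nat_lit 0x1511451541410440155) Net.nil)))))))))))))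
noncomputable def BqN_20 : Net := (Net.cons (nat_lit 1) (nat_lit 0x4440504015150) (Net.cons (nat_lit 2) (nat_lit 0x320210103100021000) (Net.cons (nat_lit 4) (nat_lit 0x505060c0007090100) (Net.cons (nat_lit 8) (nat_lit 0xb4007100200000) (Net.cons (nat_lit 16) (nat_lit 0x985200000850) (Net.cons (nat_lit 32) (nat_lit 818) (Net.cons (nat_lit 64) (nat_lit 3954) (Net.cons (nat_lit 32) (nat_lit 1007331050) (Net.cons (nat_lit 16) (nat_lit 0x3d9f00002e78) (Net.cons (nat_lit 8) (nat_lit 0x11006100a400a000d0) (Net.cons (nat_lit 4) (nat_lit 0x10c03030806020e0400) (Net.cons (nat_lit 2) (nat_lit 0x1331301012211330110) (Net.cons (nat_lit 1) (nat_lit 0x4440504015150) Net.nil)))))))))))))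
noncomputable def BqN_21 : Net := (Net.cons (nat_lit 1) (nat_lit 0x1550015014504154140) (Net.cons (nat_lit 2) (nat_lit 0x200001023000201000) (Net.cons (nat_lit 4) (nat_lit 0xe0c0f0c0208060202) (Net.cons (nat_lit 8) (nat_lit 0x900a200ff003900a0) (Net.cons (nat_lit 16) (nat_lit 0xf52600000090) (Net.cons (nat_lit 32) (nat_lit 1839) (Net.cons (nat_lit 64) (nat_lit 6079) (Net.cons (nat_lit 32) (nat_lit 1192277479) (Net.cons (nat_lit 16) (nat_lit 0x187b0000bd14) (Net.cons (nat_lit 8) (nat_lit 0x120031002600690002) (Net.cons (nat_lit 4) (nat_lit 0x106080e0a04080e0c00) (Net.cons (nat_lit 2) (nat_lit 0x3301300111132100022) (Net.cons (nat_lit 1) (nat_lit 0x1111044440401044514) Net.nil)))))))))))))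
noncomputable def BqN_22 : Net := Net.nil
noncomputable def BqN_23 : Net := Net.nil
noncomputable def BqN_24 : Net := (Net.cons (nat_lit 1) (nat_lit 0x140414450540400040) (Net.cons (nat_lit 2) (nat_lit 0x3110301001211000) (Net.cons (nat_lit 4) (nat_lit 0x1060b04070a0b0c0000) (Net.cons (nat_lit 8) (nat_lit 0x160081008800bd0040) (Net.cons (nat_lit 16) (nat_lit 0x6c0d000011a0) (Net.cons (nat_lit 32) (nat_lit 3399) (Net.cons (nat_lit 64) (nat_lit 7679) (Net.cons (nat_lit 32) (nat_lit 1640828231) (Net.cons (nat_lit 16) (nat_lit 0x30f700008478) (Net.cons (nat_lit 8) (nat_lit 0x6004b008c00ae0050) (Net.cons (nat_lit 4) (nat_lit 0x10a070e0b0c07080408) (Net.cons (nat_lit 2) (nat_lit 0x2001131303111201100) (Net.cons (nat_lit 1) (nat_lit 0x140414450540400040) Net.nil)))))))))))))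
noncomputable def BqN_25 : Net := (Net.cons (nat_lit 1) (nat_lit 0x454410054150114500) (Net.cons (nat_lit 2) (nat_lit 0x1331022312302210300) (Net.cons (nat_lit 4) (nat_lit 0x10a0b0100090c080d00) (Net.cons (nat_lit 8) (nat_lit 0x14008400bd00810000) (Net.cons (nat_lit 16) (nat_lit 0x168100000500) (Net.cons (nat_lit 32) (nat_lit 6051) (Net.cons (nat_lit 64) (nat_lit 6075) (Net.cons (nat_lit 32) (nat_lit 2649982963) (Net.cons (nat_lit 16) (nat_lit 0x469d00000500) (Net.cons (nat_lit 8) (nat_lit 0x40094008f009500f0) (Net.cons (nat_lit 4) (nat_lit 0x1080b01020f0e080900) (Net.cons (nat_lit 2) (nat_lit 0x1331022312302210300) (Net.cons (nat_lit 1) (nat_lit 0x454410054050114440) Net.nil)))))))))))))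
noncomputable def BqN_26 : Net := (Net.cons (nat_lit 1) (nat_lit 0x140414450540400040) (Net.cons (nat_lit 2) (nat_lit 0x3110301001211000) (Net.cons (nat_lit 4) (nat_lit 0x1060b04070a0b0c0000) (Net.cons (nat_lit 8) (nat_lit 0x160081008800bd0040) (Net.cons (nat_lit 16) (nat_lit 0x6c0d000011a0) (Net.cons (nat_lit 32) (nat_lit 3399) (Net.cons (nat_lit 64) (nat_lit 7679) (Net.cons (nat_lit 32) (nat_lit 1640828231) (Net.cons (nat_lit 16) (nat_lit 0x30f700008478) (Net.cons (nat_lit 8) (nat_lit 0x6004b008c00ae0050) (Net.cons (nat_lit 4) (nat_lit 0x10a070e0b0c07080408) (Net.cons (nat_lit 2) (nat_lit 0x2001131303111201100) (Net.cons (nat_lit 1) (nat_lit 0x140414450540400040) Net.nil)))))))))))))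
noncomputable def BqN_27 : Net := (Net.cons (nat_lit 1) (nat_lit 0x140414450540400040) (Net.cons (nat_lit 2) (nat_lit 0x3110301001211000) (Net.cons (nat_lit 4) (nat_lit 0x1060b04070a0b0c0000) (Net.cons (nat_lit 8) (nat_lit 0x160081008800bd0040) (Net.cons (nat_lit 16) (nat_lit 0x6c0d000011a0) (Net.cons (nat_lit 32) (nat_lit 3399) (Net.cons (nat_lit 64) (nat_lit 7679) (Net.cons (nat_lit 32) (nat_lit 1640828231) (Net.cons (nat_lit 16) (nat_lit 0x30f700008478) (Net.cons (nat_lit 8) (nat_lit 0x6004b008c00ae0050) (Net.cons (nat_lit 4) (nat_lit 0x10a070e0b0c07080408) (Net.cons (nat_lit 2) (nat_lit 0x2001131303111201100) (Net.cons (nat_lit 1) (nat_lit 0x140414450540400040) Net.nil)))))))))))))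
noncomputable def BqN_28 : Net := (Net.cons (nat_lit 1) (nat_lit 0x140414450540400040) (Net.cons (nat_lit 2) (nat_lit 0x3110301001211000) (Net.cons (nat_lit 4) (nat_lit 0x1060b04070a0b0c0000) (Net.cons (nat_lit 8) (nat_lit 0x160081008800bd0040) (Net.cons (nat_lit 16) (nat_lit 0x6c0d000011a0) (Net.cons (nat_lit 32) (nat_lit 3399) (Net.cons (nat_lit 64) (nat_lit 7679) (Net.cons (nat_lit 32) (nat_lit 1640828231) (Net.cons (nat_lit 16) (nat_lit 0x30f700008478) (Net.cons (nat_lit 8) (nat_lit 0x6004b008c00ae0050) (Net.cons (nat_lit 4) (nat_lit 0x10a070e0b0c07080408) (Net.cons (nat_lit 2) (nat_lit 0x2001131303111201100) (Net.cons (nat_lit 1) (nat_lit 0x140414450540400040) Net.nil)))))))))))))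
noncomputable def BqN_29 : Net := (Net.cons (nat_lit 1) (nat_lit 0x140414450540400040) (Net.cons (nat_lit 2) (nat_lit 0x3110301001211000) (Net.cons (nat_lit 4) (nat_lit 0x1060b04070a0b0c0000) (Net.cons (nat_lit 8) (nat_lit 0x160081008800bd0040) (Net.cons (nat_lit 16) (nat_lit 0x6c0d000011a0) (Net.cons (nat_lit 32) (nat_lit 3399) (Net.cons (nat_lit 64) (nat_lit 7679) (Net.cons (nat_lit 32) (nat_lit 1640828231) (Net.cons (nat_lit 16) (nat_lit 0x30f700008478) (Net.cons (nat_lit 8) (nat_lit 0x6004b008c00ae0050) (Net.cons (nat_lit 4) (nat_lit 0x10a070e0b0c07080408) (Net.cons (nat_lit 2) (nat_lit 0x2001131303111201100) (Net.cons (nat_lit 1) (nat_lit 0x140414450540400040) Net.nil)))))))))))))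
noncomputable def BqN_30 : Net := (Net.cons (nat_lit 1) (nat_lit 0x4411541001444015000) (Net.cons (nat_lit 2) (nat_lit 0x1303023000330201000) (Net.cons (nat_lit 4) (nat_lit 0x5000a090100020202) (Net.cons (nat_lit 8) (nat_lit 0x10031000b001a0000) (Net.cons (nat_lit 16) (nat_lit 0x12c800000081) (Net.cons (nat_lit 32) (nat_lit 3034) (Net.cons (nat_lit 64) (nat_lit 3035) (Net.cons (nat_lit 32) (nat_lit 192961243) (Net.cons (nat_lit 16) (nat_lit 0xb98e0000a359) (Net.cons (nat_lit 8) (nat_lit 0xa003900080039008a) (Net.cons (nat_lit 4) (nat_lit 0x5040e090d0e08080a) (Net.cons (nat_lit 2) (nat_lit 0x1333223010030001220) (Net.cons (nat_lit 1) (nat_lit 0x4405501001544015000) Net.nil)))))))))))))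
noncomputable def BqN_31 : Net := (Net.cons (nat_lit 1) (nat_lit 0x555051111415411000) (Net.cons (nat_lit 2) (nat_lit 0x1232130301023300) (Net.cons (nat_lit 4) (nat_lit 0x10b0904070004030400) (Net.cons (nat_lit 8) (nat_lit 0x10014000000b10040) (Net.cons (nat_lit 16) (nat_lit 0x757000008f4) (Net.cons (nat_lit 32) (nat_lit 5904) (Net.cons (nat_lit 64) (nat_lit 8180) (Net.cons (nat_lit 32) (nat_lit 307431188) (Net.cons (nat_lit 16) (nat_lit 0x67c7000079f4) (Net.cons (nat_lit 8) (nat_lit 0x150008001c00b100d8) (Net.cons (nat_lit 4) (nat_lit 0x10b09060700040b0c08) (Net.cons (nat_lit 2) (nat_lit 0x1021333130331033300) (Net.cons (nat_lit 1) (nat_lit 0x555051111415411000) Net.nil)))))))))))))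
noncomputable def BqN_32 : Net := (Net.cons (nat_lit 1) (nat_lit 0x555051111415411000) (Net.cons (nat_lit 2) (nat_lit 0x1232130301023300) (Net.cons (nat_lit 4) (nat_lit 0x10b0904070004030400) (Net.cons (nat_lit 8) (nat_lit 0x10014000000b10040) (Net.cons (nat_lit 16) (nat_lit 0x757000008f4) (Net.cons (nat_lit 32) (nat_lit 5904) (Net.cons (nat_lit 64) (nat_lit 8180) (Net.cons (nat_lit 32) (nat_lit 307431188) (Net.cons (nat_lit 16) (nat_lit 0x67c7000079f4) (Net.cons (nat_lit 8) (nat_lit 0x150008001c00b100d8) (Net.cons (nat_lit 4) (nat_lit 0x10b09060700040b0c08) (Net.cons (nat_lit 2) (nat_lit 0x1021333130331033300) (Net.cons (nat_lit 1) (nat_lit 0x555051111415411000) Net.nil)))))))))))))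
noncomputable def BqN_33 : Net := (Net.cons (nat_lit 1) (nat_lit 0x4100451010545001000) (Net.cons (nat_lit 2) (nat_lit 0x100032100002310200) (Net.cons (nat_lit 4) (nat_lit 0x10b0501040308060c) (Net.cons (nat_lit 8) (nat_lit 0x500d700e800840040) (Net.cons (nat_lit 16) (nat_lit 0x70c200000005) (Net.cons (nat_lit 32) (nat_lit 706) (Net.cons (nat_lit 64) (nat_lit 1751) (Net.cons (nat_lit 32) (nat_lit 3774913474) (Net.cons (nat_lit 16) (nat_lit 0x23e4000006c9) (Net.cons (nat_lit 8) (nat_lit 0xb00c900ef00900064) (Net.cons (nat_lit 4) (nat_lit 0x10b000000030a070c) (Net.cons (nat_lit 2) (nat_lit 0x100122110112310200) (Net.cons (nat_lit 1) (nat_lit 0x4100451010545001000) Net.nil)))))))))))))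
noncomputable def BqN_34 : Net := (Net.cons (nat_lit 1) (nat_lit 0x4411541001444015000) (Net.cons (nat_lit 2) (nat_lit 0x1303023000330201000) (Net.cons (nat_lit 4) (nat_lit 0x5000a090100020202) (Net.cons (nat_lit 8) (nat_lit 0x10031000b001a0000) (Net.cons (nat_lit 16) (nat_lit 0x12c800000081) (Net.cons (nat_lit 32) (nat_lit 3034) (Net.cons (nat_lit 64) (nat_lit 3035) (Net.cons (nat_lit 32) (nat_lit 192961243) (Net.cons (nat_lit 16) (nat_lit 0xb98e0000a359) (Net.cons (nat_lit 8) (nat_lit 0xa003900080039008a) (Net.cons (nat_lit 4) (nat_lit 0x5040e090d0e08080a) (Net.cons (nat_lit 2) (nat_lit 0x1333223010030001220) (Net.cons (nat_lit 1) (nat_lit 0x4405501001544015000) Net.nil)))))))))))))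
noncomputable def BqN_35 : Net := (Net.cons (nat_lit 1) (nat_lit 0x4411541001444015000) (Net.cons (nat_lit 2) (nat_lit 0x1303023000330201000) (Net.cons (nat_lit 4) (nat_lit 0x5000a090100020202) (Net.cons (nat_lit 8) (nat_lit 0x10031000b001a0000) (Net.cons (nat_lit 16) (nat_lit 0x12c800000081) (Net.cons (nat_lit 32) (nat_lit 3034) (Net.cons (nat_lit 64) (nat_lit 3035) (Net.cons (nat_lit 32) (nat_lit 192961243) (Net.cons (nat_lit 16) (nat_lit 0xb98e0000a359) (Net.cons (nat_lit 8) (nat_lit 0xa003900080039008a) (Net.cons (nat_lit 4) (nat_lit 0x5040e090d0e08080a) (Net.cons (nat_lit 2) (nat_lit 0x1333223010030001220) (Net.cons (nat_lit 1) (nat_lit 0x4405501001544015000) Net.nil)))))))))))))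
noncomputable def BqN : List Net := [BqN_0, BqN_1, BqN_2, BqN_3, BqN_4, BqN_5, BqN_6, BqN_7, BqN_8, BqN_9, BqN_10, BqN_11, BqN_12, BqN_13, BqN_14, BqN_15, BqN_16, BqN_17, BqN_18, BqN_19, BqN_20, BqN_21, BqN_22, BqN_23, BqN_24, BqN_25, BqN_26, BqN_27, BqN_28, BqN_29, BqN_30, BqN_31, BqN_32, BqN_33, BqN_34, BqN_35]
noncomputable def BqT : List (List Nat) := [[9], [11], [13], [7], [45], [47], [49], [51], [53], [55], [57], [59], [61], [63], [65], [67], [43], [297], [309], [327], [325], [329], [269], [271], [273], [275], [277], [279], [281], [283], [247], [249], [251], [253], [255], [257]]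
noncomputable def BqC : List Lvl := [⟨0, [[5], [3, 1]], 10⟩, ⟨1, [[1], [3], [5, 1, 5, 1, 5]], 6⟩, ⟨2, [[4, 4, 1, 5, 1, 5, 1, 5, 3, 3, 3]], 2⟩, ⟨3, [[1, 4, 1, 3], [1, 5, 1, 5, 1, 5], [5, 1, 4, 1, 3, 5]], 3⟩, ⟨5, [[1, 4, 5, 3, 1, 5, 3, 3, 3, 5, 1, 4, 5, 3]], 1⟩]
noncomputable def HxT : List (List Nat) := [[1], [3], [7], [69], [71], [73], [75], [77], [79], [81], [83], [85], [87], [89], [91], [93], [95], [97], [99], [101], [103], [105], [107], [109], [111], [113], [115], [117], [119], [121], [123], [125], [127], [129], [131], [133], [327], [325], [329], [305], [269], [271], [273], [275], [277], [279], [281], [283], [247], [249], [251], [253], [255], [257]]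
noncomputable def Btb : Tr := (.sym [[1]] (.cons [] 10 1 (.base (nat_lit 0x144c0130809818088000) (.op 7 0 (.focus 0 (.op 2 0 (.op 4 2 (.xor 1 0 (.focus 0 (.op 4 1 (.xor 3 0 (.focus 0 (.op 7 5 (.op 7 0 (.xor 6 0 (.focus 0 (.cons [] 0 1 (.op 4 5 (.focus 0 (.focus 7 (.focus 2 (.xor 9 4 (.focus 0 (.xor 10 12 (.focus 0 (.base (nat_lit 0x100200000000000004) (.focus 0 (.cons [] 0 1 (.focus 14 (.focus 11 (.focus 9 (.focus 6 (.xor 13 5 (.focus 0 (.base (nat_lit 0x1000180001000000) (.op 7 0 (.op 7 0 (.op 7 0 (.focus 0 (.cons [] 0 1 (.focus 20 (.focus 17 (.focus 15 (.focus 12 (.focus 5 (.xor 19 0 (.focus 0 (.op 4 5 (.xor 21 0 (.focus 0 (.base (nat_lit 1048608) (.focus 0 (.cons [] 0 1 .triv .nil))))))))))))) .nil)))))))))))) .nil))))))))))) (.cons [3] 0 0 (.base (nat_lit 0x100200000000000004) (.op 4 12 (.op 4 0 (.and 2 0 (.dead0 0))))) (.cons [3, 3] 0 0 (.base (nat_lit 0x10400000801000000000) (.op 4 1 (.and 1 0 (.dead0 0)))) (.cons [3,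 3, 11, 4] 0 0 (.base (nat_lit 0x100200000000000004) (.op 7 12 (.op 7 0 (.op 7 0 (.and 3 0 (.dead0 0)))))) (.cons [4, 11, 4, 4] 0 0 (.base (nat_lit 0x100200000000000004) (.op 7 1 (.op 7 0 (.op 7 0 (.op 7 0 (.and 4 0 (.dead0 0))))))) .nil))))))))))))))))))) (.cons [1] 10 0 (.base (nat_lit 0xbb3fecf7f67e7f77ffe) (.op 4 1 (.op 4 0 (.op 4 0 (.and 3 0 (.dead0 0)))))) (.cons [5, 1] 10 0 (.base (nat_lit 0xbb3fecf7f67e7f77ffe) (.op 4 1 (.and 1 0 (.dead0 0)))) (.cons [7, 1] 10 0 (.base (nat_lit 0xbb3fecf7f67e7f77ffe) (.op 4 1 (.and 1 0 (.dead0 0)))) (.cons [7, 7, 1] 10 0 (.base (nat_lit 0xbb3fecf7f67e7f77ffe) (.op 4 1 (.and 1 0 (.dead0 0)))) (.cons [1, 7, 1] 10 0 (.base (nat_lit 0xbb3fecf7f67e7f77ffe) (.op 4 1 (.and 1 0 (.dead0 0)))) (.cons [3, 7, 1] 10 0 (.base (nat_lit 0xbb3fecf7f67e7f77ffe) (.op 4 1 (.and 1 0 (.dead0 0)))) .nil))))))))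
noncomputable def BtbK : List (List Nat) := [[35, 35, 35]]
noncomputable def BtbF : List (List Nat) := [[], [1]]
noncomputable def B4b : Tr := (.sym [[1], [3], [5], [7], [9], [11]] (.cons [] 0 768 (.base (nat_lit 0xbb3fecf7f67e7f77ffe) (.focus 0 (.sym [[1], [3], [5], [7], [9], [11]] (.cons [] 2 16 (.op 4 0 (.focus 0 (.cons [] 0 16 (.base (nat_lit 0xa3c4cf2543e2c31158) (.focus 0 (.sym [[1], [3], [5]] (.cons [] 2 2 .triv (.cons [5] 2 0 (.base (nat_lit 16) (.op 4 1 (.and 1 0 (.dead0 0)))) (.cons [5, 3, 5] 2 0 (.op 5 0 (.and 1 0 (.dead0 0))) .nil)))))) .nil))) (.cons [13, 4] 2 0 (.op 5 0 (.and 1 0 (.dead0 0))) .nil))))) (.cons [1] 2 0 (.op 5 0 (.and 1 0 (.dead0 0))) (.cons [1, 7, 1] 2 0 (.base (nat_lit 0xbb3fecf7f67e7f77ffe) (.op 5 0 (.and 1 0 (.dead 0)))) (.cons [1, 3, 7, 1] 2 0 (.op 5 0 (.and 1 0 (.dead0 0))) .nil)))))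
noncomputable def B4bK : List (List Nat) := [[39, 41, 35, 39, 41, 35, 3], [36, 44, 39, 35], [4, 1, 3, 1], [1], [43, 4, 39, 4, 41, 43, 3], [3, 40, 41, 43, 3, 39]]
noncomputable def B4bF : List (List Nat) := [[], [1]]
noncomputable def Bn4b : Tr := (.op 5 0 (.dead 0))
noncomputable def Bn4bK : List (List Nat) := []
noncomputable def Bn4bF : List (List Nat) := [[], [1]]
noncomputable def Bn8ab : Tr := (.op 5 0 (.dead 0))
noncomputable def Bn8abK : List (List Nat) := []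
noncomputable def Bn8abF : List (List Nat) := [[], [1]]
noncomputable def Bn8bb : Tr := (.op 5 0 (.focus 0 (.cons [] 0 0 (.focus 1 (.op 2 0 (.xor 0 1 (.focus 0 (.cons [4, 5, 3] 0 0 (.base (nat_lit 0x100200000000000004) (.and 0 5 (.dead 0))) (.cons [4, 11, 4, 4] 0 0 (.base (nat_lit 0x100200000000000004) (.and 0 5 (.dead 0))) (.cons [4, 4, 5, 4] 0 0 (.base (nat_lit 0x100200000000000004) (.and 0 5 (.dead 0))) (.cons [4, 11, 4, 1, 4] 0 0 (.base (nat_lit 0x100200000000000004) (.and 0 5 (.dead 0))) .nil)))))))) (.cons [8, 1, 3, 1] 0 0 (.base (nat_lit 0xbb3fecf7f67e7f77ffe) (.and 0 2 (.dead 0))) (.cons [1, 8, 1, 8, 1] 0 0 (.base (nat_lit 0xbb3fecf7f67e7f77ffe) (.and 0 2 (.dead 0))) (.cons [8, 8, 5, 1, 8, 1] 0 0 (.base (nat_lit 0xbb3fecf7f67e7f77ffe) (.and 0 2 (.dead 0))) (.cons [1, 8, 5, 1, 8, 5, 1] 0 0 (.base (nat_lit 0xbb3fecf7f67e7f77ffe) (.and 0 2 (.dead 0))) .nil)))))))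
noncomputable def Bn8bbK : List (List Nat) := []
noncomputable def Bn8bbF : List (List Nat) := [[], [1]]
noncomputable def Bn8cb : Tr := (.op 5 0 (.dead 0))
noncomputable def Bn8cbK : List (List Nat) := []
noncomputable def Bn8cbF : List (List Nat) := [[], [1], [1, 1]]
noncomputable def B4c : List Lvl := [⟨5, [[36, 44, 39, 35], [4, 1, 3, 1], [3, 40, 41, 43, 3, 39], [39, 41, 35, 39, 41, 35, 3]], 3⟩, ⟨1, [[36, 44, 39, 35, 3, 40, 41, 43, 3, 39, 36, 44, 39, 35], [36, 44, 39, 35, 43, 4, 39, 4, 41, 43, 3, 36, 44, 39, 35]], 2⟩, ⟨3, [[36, 44, 39, 35, 4, 1, 3, 1, 36, 44, 39, 35]], 1⟩]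
noncomputable def LW15 : List (List Nat) := [[7], [269], [271], [273], [275], [277], [279], [281], [283], [247], [249], [251], [253], [255], [257]]
noncomputable def LB15 : List (List Nat) := [[7], [45], [47], [49], [51], [53], [55], [57], [59], [61], [63], [65], [67], [69], [71]]

end CF.J4F
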